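import Groth.Agent.Lib.Hens.Henselization
import Mathlib.Algebra.DualNumber
import Mathlib.RingTheory.MvPolynomial.Ideal

/-!
# The henselization of `A[x]` at the origin of the closed fibre, as the free henselian local algebra
-/

set_option autoImplicit false
set_option linter.style.haveILetI false
set_option backward.isDefEq.respectTransparency.types false

universe u v w

open IsLocalRing

noncomputable section

namespace Groth.Agent.HensCoord15

variable (σ : Type) (A : Type u) [CommRing A] [IsLocalRing A]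

instance ptAlgebra : Algebra (MvPolynomial σ A) (ResidueField A) :=
  (MvPolynomial.eval₂Hom (residue A) fun _ => 0).toAlgebra

/-- `A{x}`: the henselization of `A[x]` at `(𝔪, x)`. -/
abbrev H : Type u := Hens.Hs (MvPolynomial σ A) (ResidueField A)

instance instAlgH : Algebra A (H σ A) :=
  ((algebraMap (MvPolynomial σ A) (H σ A)).comp MvPolynomial.C).toAlgebra

instance : IsScalarTower A (MvPolynomial σ A) (H σ A) := IsScalarTower.of_algebraMap_eq fun _ => rfl

variable {σ A}

/-- The coordinates. -/
def X (i : σ) : H σ A := algebraMap (MvPolynomial σ A) (H σ A) (MvPolynomial.X i)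

theorem res_X (i : σ) : Hens.Hs.res (X (A := A) i) = 0 := by
  rw [X, AlgHom.commutes]
  exact MvPolynomial.eval₂Hom_X' _ _ i

theorem res_algebraMap (a : A) : Hens.Hs.res (algebraMap A (H σ A) a) = residue A a := by
  show Hens.Hs.res (algebraMap (MvPolynomial σ A) (H σ A) (MvPolynomial.C a)) = _
  rw [AlgHom.commutes]
  exact MvPolynomial.eval₂Hom_C _ _ a

theorem X_mem (i : σ) : X i ∈ maximalIdeal (H σ A) := by
  rw [← Hens.Hs.res_eq_zero_iff, res_X]

theorem exists_residue_eq (z : H σ A) : ∃ a : A, z - algebraMap A _ a ∈ maximalIdeal (H σ A) := by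
  obtain ⟨a, ha⟩ := residue_surjective (Hens.Hs.res z)
  exact ⟨a, by rw [← Hens.Hs.res_eq_zero_iff, map_sub, res_algebraMap, ha, sub_self]⟩

instance isLocalHom_algebraMap : IsLocalHom (algebraMap A (H σ A)) where
  map_nonunit a ha := by
    rw [Hens.Hs.isUnit_iff, res_algebraMap, residue_ne_zero_iff_isUnit] at ha
    exact ha

/-- A quotient of a henselian local ring by a proper ideal. -/
theorem henselianLocalRing_quotient {T : Type u} [CommRing T] [HenselianLocalRing T] (I : Ideal T)
    (hI : I ≠ ⊤) : HenselianLocalRing (T ⧸ I) := by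
  haveI : Nontrivial (T ⧸ I) := Ideal.Quotient.nontrivial_iff.2 hI
  haveI : IsLocalRing (T ⧸ I) := IsLocalRing.of_surjective' _ Ideal.Quotient.mk_surjective
  exact Hens.henselianLocalRing_of_isIntegral T _

theorem isLocalHom_comp_mk {T : Type u} [CommRing T] [IsLocalRing T] [Algebra A T]
    [IsLocalHom (algebraMap A T)] (I : Ideal T) (hI : I ≠ ⊤) : IsLocalHom (algebraMap A (T ⧸ I)) := by
  haveI : Nontrivial (T ⧸ I) := Ideal.Quotient.nontrivial_iff.2 hI
  haveI : IsLocalHom (Ideal.Quotient.mk I) := IsLocalHom.of_surjective _ Ideal.Quotient.mk_surjective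
  exact inferInstanceAs (IsLocalHom ((Ideal.Quotient.mk I).comp (algebraMap A T)))

/-- The maximal ideal is generated by `𝔪` and the coordinates. -/
theorem maximalIdeal_eq :
    maximalIdeal (H σ A) = (maximalIdeal A).map (algebraMap A _) ⊔ Ideal.span (Set.range X) := by
  set J : Ideal (H σ A) := (maximalIdeal A).map (algebraMap A _) ⊔ Ideal.span (Set.range X)
  have hJ : J ≤ maximalIdeal (H σ A) := sup_le
    (Ideal.map_le_iff_le_comap.2 fun a ha => map_nonunit (algebraMap A (H σ A)) a ha)
    (Ideal.span_le.2 (Set.range_subset_iff.2 fun i => X_mem i))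
  refine le_antisymm (fun y hy => ?_) hJ
  haveI := henselianLocalRing_quotient J fun h => (maximalIdeal.isMaximal _).ne_top (top_le_iff.1 (h ▸ hJ))
  let β : ResidueField A →+* H σ A ⧸ J := Ideal.Quotient.lift _ (algebraMap A (H σ A ⧸ J)) fun a ha =>
    Ideal.Quotient.eq_zero_iff_mem.2 (Ideal.mem_sup_left (Ideal.mem_map_of_mem _ ha))
  have hβ : β.comp (algebraMap (MvPolynomial σ A) (ResidueField A)) = algebraMap _ (H σ A ⧸ J) := by
    refine MvPolynomial.ringHom_ext (fun a => ?_) fun i => ?_
    · show β (MvPolynomial.eval₂Hom (residue A) (fun _ => 0) (MvPolynomial.C a)) = _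
      rw [MvPolynomial.eval₂Hom_C]
      rfl
    · show β (MvPolynomial.eval₂Hom (residue A) (fun _ => 0) (MvPolynomial.X i)) = _
      rw [MvPolynomial.eval₂Hom_X', map_zero]
      exact (Ideal.Quotient.eq_zero_iff_mem.2 (Ideal.mem_sup_right (Ideal.subset_span (Set.mem_range_self i)))).symm
  let βR : ResidueField A →ₐ[MvPolynomial σ A] H σ A ⧸ J := { β with commutes' := fun r => congr($hβ r) }
  let τ : ResidueField A →ₐ[MvPolynomial σ A] ResidueField (H σ A ⧸ J) :=
    (IsScalarTower.toAlgHom (MvPolynomial σ A) (H σ A ⧸ J) _).comp βR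
  obtain ⟨g, -, hu⟩ := Hens.Hs.existsUnique_lift (R := MvPolynomial σ A) (K := ResidueField A) (H σ A ⧸ J) τ
  have h1 := hu (Ideal.Quotient.mkₐ _ J) fun x => by
    obtain ⟨a, ha⟩ := exists_residue_eq x
    have hx : Hens.Hs.res x = residue A a := by
      rw [← sub_eq_zero, ← res_algebraMap (σ := σ), ← map_sub, Hens.Hs.res_eq_zero_iff]
      exact ha
    rw [hx]
    show residue _ (Ideal.Quotient.mk J x) = residue _ (Ideal.Quotient.mk J (algebraMap A _ a))
    rw [← sub_eq_zero, ← map_sub, residue_eq_zero_iff, ← map_sub]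
    haveI : IsLocalHom (Ideal.Quotient.mk J) := IsLocalHom.of_surjective _ Ideal.Quotient.mk_surjective
    exact map_nonunit _ _ ha
  have h2 := hu (βR.comp Hens.Hs.res) fun x => rfl
  have h3 : Ideal.Quotient.mk J y = β (Hens.Hs.res y) := congr($(h1.trans h2.symm) y)
  rwa [(Hens.Hs.res_eq_zero_iff y).2 hy, map_zero, Ideal.Quotient.eq_zero_iff_mem] at h3

section Lift

variable {T : Type v} [CommRing T] [HenselianLocalRing T] [Algebra A T] [IsLocalHom (algebraMap A T)]

theorem map_mem_maximalIdeal (f : H σ A →ₐ[A] T) (hf : ∀ i, f (X i) ∈ maximalIdeal T) {z : H σ A}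
    (hz : z ∈ maximalIdeal (H σ A)) : f z ∈ maximalIdeal T := by
  rw [maximalIdeal_eq] at hz
  refine (show (maximalIdeal A).map (algebraMap A _) ⊔ Ideal.span (Set.range X) ≤ (maximalIdeal T).comap f from
    sup_le (Ideal.map_le_iff_le_comap.2 fun a ha => ?_) (Ideal.span_le.2 ?_)) hz
  · rw [Ideal.mem_comap, Ideal.mem_comap, AlgHom.commutes]
    exact map_nonunit (algebraMap A T) a ha
  · rintro _ ⟨i, rfl⟩
    exact hf i

theorem existsUnique_lift' (t : σ → T) (ht : ∀ i, t i ∈ maximalIdeal T) :
    ∃! f : H σ A →ₐ[A] T, ∀ i, f (X i) = t i := by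
  letI := (MvPolynomial.aeval t : MvPolynomial σ A →ₐ[A] T).toRingHom.toAlgebra
  let β : ResidueField A →+* ResidueField T := ResidueField.map (algebraMap A T)
  have hβ : β.comp (algebraMap (MvPolynomial σ A) (ResidueField A)) = algebraMap _ (ResidueField T) := by
    refine MvPolynomial.ringHom_ext (fun a => ?_) fun i => ?_
    · show β (MvPolynomial.eval₂Hom (residue A) (fun _ => 0) (MvPolynomial.C a)) =
        residue T (MvPolynomial.aeval t (MvPolynomial.C a))
      rw [MvPolynomial.eval₂Hom_C, MvPolynomial.aeval_C]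
      rfl
    · show β (MvPolynomial.eval₂Hom (residue A) (fun _ => 0) (MvPolynomial.X i)) =
        residue T (MvPolynomial.aeval t (MvPolynomial.X i))
      rw [MvPolynomial.eval₂Hom_X', MvPolynomial.aeval_X, map_zero]
      exact ((residue_eq_zero_iff _).2 (ht i)).symm
  let τ : ResidueField A →ₐ[MvPolynomial σ A] ResidueField T := { β with commutes' := fun r => congr($hβ r) }
  obtain ⟨g, -, hu⟩ := Hens.Hs.existsUnique_lift (R := MvPolynomial σ A) T τ
  have hgA : ∀ a, g (algebraMap A _ a) = algebraMap A T a := fun a =>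
    (g.commutes (MvPolynomial.C a)).trans (MvPolynomial.aeval_C t a)
  let f : H σ A →ₐ[A] T := { g.toRingHom with commutes' := hgA }
  have hfX : ∀ i, f (X i) = t i := fun i => (g.commutes _).trans (MvPolynomial.aeval_X t i)
  refine ⟨f, hfX, fun f' hf' => ?_⟩
  have hR : ∀ r, f' (algebraMap (MvPolynomial σ A) _ r) = MvPolynomial.aeval t r := fun r =>
    DFunLike.congr_fun (MvPolynomial.algHom_ext
      (f := f'.comp (IsScalarTower.toAlgHom A (MvPolynomial σ A) (H σ A))) (g := MvPolynomial.aeval t)
      fun i => (hf' i).trans (MvPolynomial.aeval_X t i).symm) r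
  have key := hu { f'.toRingHom with commutes' := hR } fun x => by
    obtain ⟨a, ha⟩ := exists_residue_eq x
    have hx : Hens.Hs.res x = residue A a := by
      rw [← sub_eq_zero, ← res_algebraMap (σ := σ), ← map_sub, Hens.Hs.res_eq_zero_iff]
      exact ha
    rw [hx]
    show residue T (f' x) = residue T (algebraMap A T a)
    rw [← f'.commutes, ← sub_eq_zero, ← map_sub, residue_eq_zero_iff, ← map_sub]
    exact map_mem_maximalIdeal f' (fun i => by rw [hf' i]; exact ht i) ha
  exact AlgHom.ext fun x => DFunLike.congr_fun key x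

/-- The map out of `A{x}` sending the coordinates to given elements of the maximal ideal. -/
def lift (t : σ → T) (ht : ∀ i, t i ∈ maximalIdeal T) : H σ A →ₐ[A] T :=
  (existsUnique_lift' t ht).exists.choose

@[simp]
theorem lift_X (t : σ → T) (ht : ∀ i, t i ∈ maximalIdeal T) (i : σ) :
    lift (A := A) t ht (X i) = t i :=
  (existsUnique_lift' t ht).exists.choose_spec i

theorem hom_ext {f g : H σ A →ₐ[A] T} (h : ∀ i, f (X i) = g (X i)) (hf : ∀ i, f (X i) ∈ maximalIdeal T) :
    f = g :=
  (existsUnique_lift' (fun i => f (X i)) hf).unique (fun _ => rfl) fun i => (h i).symm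

theorem eq_lift (f : H σ A →ₐ[A] T) (t : σ → T) (ht : ∀ i, t i ∈ maximalIdeal T) (h : ∀ i, f (X i) = t i) :
    f = lift t ht :=
  (existsUnique_lift' t ht).unique h (lift_X t ht)

end Lift

section Cong

variable {T : Type u} [CommRing T] [HenselianLocalRing T] [Algebra A T] [IsLocalHom (algebraMap A T)]

/-- Two maps congruent on the coordinates are congruent. -/
theorem sub_mem (f g : H σ A →ₐ[A] T) (I : Ideal T) (h : ∀ i, f (X i) - g (X i) ∈ I)
    (hf : ∀ i, f (X i) ∈ maximalIdeal T) (z : H σ A) : f z - g z ∈ I := by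
  by_cases hI : I = ⊤
  · rw [hI]; trivial
  haveI := henselianLocalRing_quotient I hI
  haveI := isLocalHom_comp_mk (A := A) I hI
  rw [← Ideal.Quotient.eq]
  refine DFunLike.congr_fun (hom_ext (f := (Ideal.Quotient.mkₐ A I).comp f) (g := (Ideal.Quotient.mkₐ A I).comp g)
    (fun i => Ideal.Quotient.eq.2 (h i)) fun i => ?_) z
  haveI : IsLocalHom (Ideal.Quotient.mk I) := IsLocalHom.of_surjective _ Ideal.Quotient.mk_surjective
  exact map_nonunit (Ideal.Quotient.mk I) _ (hf i)

end Cong

variable (σ A) in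
/-- Evaluation at the origin. -/
def ev₀ [HenselianLocalRing A] : H σ A →ₐ[A] A :=
  lift (fun _ => 0) fun _ => zero_mem _

@[simp]
theorem ev₀_X [HenselianLocalRing A] (i : σ) : ev₀ σ A (X i) = 0 := lift_X _ _ i

theorem sub_ev₀_mem [HenselianLocalRing A] (z : H σ A) :
    z - algebraMap A _ (ev₀ σ A z) ∈ Ideal.span (Set.range X) :=
  sub_mem (AlgHom.id A _) ((Algebra.ofId A _).comp (ev₀ σ A)) _
    (fun i => by simpa using Ideal.subset_span (Set.mem_range_self i)) (fun i => X_mem i) z

theorem exists_eq_add_sum [HenselianLocalRing A] [Fintype σ] (z : H σ A) :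
    ∃ g : σ → H σ A, z = algebraMap A _ (ev₀ σ A z) + ∑ i, X i * g i := by
  obtain ⟨g, hg⟩ := Ideal.mem_span_range_iff_exists_fun.1 (sub_ev₀_mem z)
  exact ⟨g, by simp_rw [mul_comm (X _)]; rw [hg, add_sub_cancel]⟩

/-! ## Test rings -/

theorem isLocalRing_of_nilpotent {k T : Type u} [Field k] [CommRing T] [Nontrivial T] [Algebra k T]
    (h : ∀ z : T, ∃ c : k, IsNilpotent (z - algebraMap k T c)) : HenselianLocalRing T := by
  haveI : IsLocalRing T := IsLocalRing.of_isUnit_or_isUnit_one_sub_self fun a => by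
    obtain ⟨c, hc⟩ := h a
    by_cases h0 : c = 0
    · right
      simpa [h0] using hc.isUnit_one_sub (r := a - algebraMap k T c)
    · left
      simpa using hc.isUnit_add_left_of_commute ((isUnit_iff_ne_zero.2 h0).map (algebraMap k T)) (Commute.all _ _)
  refine Hens.henselianLocalRing_iff.2 (Hens.henselianRing_of_nilpotent fun x hx => ?_)
  obtain ⟨c, hc⟩ := h x
  by_cases h0 : c = 0
  · simpa [h0] using hc
  · have hu := hc.isUnit_add_left_of_commute ((isUnit_iff_ne_zero.2 h0).map (algebraMap k T)) (Commute.all _ _)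
    rw [add_sub_cancel] at hu
    exact absurd hu ((mem_maximalIdeal x).1 hx)

end Groth.Agent.HensCoord15
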