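import Groth.Agent.Lib.HensCoord15.Kappa
import Groth.Agent.Lib.CplLevelH7.Equiv
import Groth.Agent.Lib.CohenAlg3.Exists
import Groth.Agent.Lib.AdicSmooth3.CohenSmall
import Groth.Prelude.Def_Hensel

/-!
# Completions of geometric fibres of presented henselizations
-/

set_option autoImplicit false
set_option linter.style.haveILetI false
set_option backward.isDefEq.respectTransparency.types false

universe u

open IsLocalRing

noncomputable section

namespace Groth.Agent.HensCoord15

section Pow

variable {T : Type u} [CommRing T] [IsLocalRing T]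

theorem nilp_level (n : ℕ) : IsLocalRing (T ⧸ maximalIdeal T ^ (n + 1)) := by
  haveI : Nontrivial (T ⧸ maximalIdeal T ^ (n + 1)) := Ideal.Quotient.nontrivial_iff.2 fun h =>
    (maximalIdeal.isMaximal T).ne_top (top_le_iff.1 (h ▸ Ideal.pow_le_self n.succ_ne_zero))
  exact IsLocalRing.of_surjective' _ Ideal.Quotient.mk_surjective

theorem maximalIdeal_pow_level (n : ℕ) :
    letI := nilp_level (T := T) n
    maximalIdeal (T ⧸ maximalIdeal T ^ (n + 1)) ^ (n + 1) = ⊥ := by
  letI := nilp_level (T := T) n
  rw [← IsLocalRing.map_maximalIdeal_of_surjective (Ideal.Quotient.mk _) Ideal.Quotient.mk_surjective,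
    ← Ideal.map_pow, Ideal.map_quotient_self]

theorem henselian_level (n : ℕ) : HenselianLocalRing (T ⧸ maximalIdeal T ^ (n + 1)) := by
  haveI := nilp_level (T := T) n
  refine Hens.henselianLocalRing_iff.2 (Hens.henselianRing_of_nilpotent fun x hx => ⟨n + 1, ?_⟩)
  have h := Ideal.pow_mem_pow hx (n + 1)
  rwa [maximalIdeal_pow_level, Ideal.mem_bot] at h

end Pow

variable {A : Type u} [CommRing A] [HenselianLocalRing A]
  {K : Type u} [Field K] [Algebra A K] [IsLocalHom (algebraMap A K)]

set_option maxHeartbeats 2000000 in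
/-- The completion of a universal local `K`-algebra under a local ring is computed by the power
series model of its henselization. -/
theorem exists_completion_iso {R : Type u} [CommRing R] [IsLocalRing R] [Algebra A R]
    (C : Type u) [CommRing C] [IsLocalRing C] [Algebra R C] [IsLocalHom (algebraMap R C)]
    [Hensel.IsHenselization R C] [Algebra A C] [IsScalarTower A R C]
    {m : ℕ} (P : H (Fin m) A →ₐ[A] C) (hP : Function.Surjective P) (hPX : ∀ i, P (X i) ∈ maximalIdeal C)
    (L : Type u) [CommRing L] [IsLocalRing L] [Algebra K L] [Algebra A L] [IsScalarTower A K L]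
    (ι : R →ₐ[A] L) [IsLocalHom ι.toRingHom]
    (hex : ∀ (T : Type u) [CommRing T] [IsLocalRing T] [Algebra K T] (φ : R →+* T), IsLocalHom φ →
      (∀ a, φ (algebraMap A R a) = algebraMap K T (algebraMap A K a)) →
      ∃ ψ : L →ₐ[K] T, IsLocalHom ψ.toRingHom ∧ ∀ x, ψ (ι x) = φ x)
    (huniq : ∀ (T : Type u) [CommRing T] [Algebra K T] (f g : L →ₐ[K] T), (∀ x, f (ι x) = g (ι x)) → f = g) :
    Nonempty (AdicCompletion (maximalIdeal L) L ≃ₐ[K]
      (MvPowerSeries (Fin m) K ⧸ (RingHom.ker P).map (kappa (A := A) (K := K) m))) := by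
  haveI : HenselianLocalRing C := Hensel.IsHenselization.henselian (R := R)
  let S := MvPowerSeries (Fin m) K
  let κ := kappa (A := A) (K := K) m
  set J : Ideal S := (RingHom.ker P).map κ
  have hκm : ∀ i, κ (X i) ∈ maximalIdeal S := fun i => by
    rw [kappa_X, H2Alg.PSHom.maximalIdeal_eq]; exact H2Alg.PSHom.X_mem i
  have hkerm : RingHom.ker P ≤ maximalIdeal (H (Fin m) A) := le_maximalIdeal (RingHom.ker_ne_top P)
  have hJm : J ≤ maximalIdeal S := Ideal.map_le_iff_le_comap.2 fun z hz => map_mem_maximalIdeal κ hκm (hkerm hz)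
  have hJt : J ≠ ⊤ := fun h => (maximalIdeal.isMaximal _).ne_top (top_le_iff.1 (h ▸ hJm))
  let T := S ⧸ J
  haveI : Nontrivial T := Ideal.Quotient.nontrivial_iff.2 hJt
  haveI : IsLocalRing T := IsLocalRing.of_surjective' _ Ideal.Quotient.mk_surjective
  haveI : IsAdicComplete (maximalIdeal T) T := CohenAlg3.isAdicComplete_quotient J
  haveI hmk : IsLocalHom (Ideal.Quotient.mk J) := IsLocalHom.of_surjective _ Ideal.Quotient.mk_surjective
  -- the map from `C`
  let b₀ : C →+* T := RingHom.liftOfSurjective P.toRingHom hP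
    ⟨(Ideal.Quotient.mk J).comp κ.toRingHom, fun z hz =>
      Ideal.Quotient.eq_zero_iff_mem.2 (Ideal.mem_map_of_mem _ hz)⟩
  have hb₀ : ∀ z, b₀ (P z) = Ideal.Quotient.mk J (κ z) := fun z =>
    RingHom.liftOfSurjective_comp_apply P.toRingHom hP _ z
  haveI : IsLocalHom b₀ := ⟨fun c hc => by
    obtain ⟨z, rfl⟩ := hP c
    rw [hb₀] at hc
    have h := IsLocalHom.map_nonunit (f := Ideal.Quotient.mk J) _ hc
    by_contra hn
    have hz : z ∈ maximalIdeal (H (Fin m) A) := (mem_maximalIdeal _).2 fun hu => hn (hu.map P)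
    exact (mem_maximalIdeal _).1 (map_mem_maximalIdeal κ hκm hz) h⟩
  have hb₀A : ∀ a, b₀ (algebraMap A C a) = algebraMap K T (algebraMap A K a) := fun a => by
    rw [← P.commutes, hb₀, AlgHom.commutes, IsScalarTower.algebraMap_apply A K S]
    rfl
  obtain ⟨β, hβl, hβ⟩ := hex T (b₀.comp (algebraMap R C)) (RingHom.isLocalHom_comp _ _) fun a => by
    rw [RingHom.comp_apply, ← IsScalarTower.algebraMap_apply, hb₀A]
  haveI := hβl
  have hβm : ∀ l ∈ maximalIdeal L, β l ∈ maximalIdeal T := fun l hl => map_nonunit β.toRingHom l hl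
  -- surjectivity modulo powers
  have hsurj : ∀ n t, ∃ l, β l - t ∈ maximalIdeal T ^ n := by
    intro n t
    let Q : L →ₐ[K] T ⧸ maximalIdeal T ^ n := (Ideal.Quotient.mkₐ K _).comp β
    suffices h : Ideal.Quotient.mk (maximalIdeal T ^ n) t ∈ Q.range by
      obtain ⟨l, hl⟩ := h
      exact ⟨l, Ideal.Quotient.eq.1 hl⟩
    have hC : ∀ c, Ideal.Quotient.mk (maximalIdeal T ^ n) (b₀ c) ∈ Q.range := by
      intro c
      obtain ⟨r, hr⟩ := Hens.henselization_exists_sub_mem_pow R C n c
      refine ⟨ι r, ?_⟩
      show Ideal.Quotient.mk _ (β (ι r)) = _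
      rw [hβ, RingHom.comp_apply]
      refine (Ideal.Quotient.eq.2 ?_).symm
      rw [← map_sub]
      have h2 : ((maximalIdeal R ^ n).map (algebraMap R C)).map b₀ ≤ maximalIdeal T ^ n := by
        rw [Ideal.map_pow, Ideal.map_pow, Ideal.map_map]
        refine Ideal.pow_right_mono (Ideal.map_le_iff_le_comap.2 fun x hx => ?_) n
        exact map_nonunit b₀ _ (map_nonunit (algebraMap R C) x hx)
      exact h2 (Ideal.mem_map_of_mem b₀ hr)
    obtain ⟨s, rfl⟩ := Ideal.Quotient.mk_surjective t
    let p : MvPolynomial (Fin m) K := MvPowerSeries.truncTotal n s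
    have hsp : Ideal.Quotient.mk (maximalIdeal T ^ n) (Ideal.Quotient.mk J s) =
        Ideal.Quotient.mk (maximalIdeal T ^ n) (Ideal.Quotient.mk J (p : S)) := by
      refine Ideal.Quotient.eq.2 ?_
      rw [← map_sub, ← IsLocalRing.map_maximalIdeal_of_surjective (Ideal.Quotient.mk J) Ideal.Quotient.mk_surjective,
        ← Ideal.map_pow]
      refine Ideal.mem_map_of_mem _ ?_
      rw [H2Alg.PSHom.maximalIdeal_eq]
      refine H2Alg.PSHom.mem_pow fun d hd => ?_
      rw [map_sub, MvPolynomial.coeff_coe, MvPowerSeries.coeff_truncTotal _ hd, sub_self]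
    rw [hsp]
    let e : MvPolynomial (Fin m) K →ₐ[K] T ⧸ maximalIdeal T ^ n :=
      (Ideal.Quotient.mkₐ K _).comp ((Ideal.Quotient.mkₐ K J).comp (MvPolynomial.coeToMvPowerSeries.algHom K))
    have he : Ideal.Quotient.mk (maximalIdeal T ^ n) (Ideal.Quotient.mk J (p : S)) = e p := by
      simp [e, MvPolynomial.coeToMvPowerSeries.algHom_apply, S, T]
    rw [he]
    clear hsp he
    clear_value p
    induction p using MvPolynomial.induction_on with
    | C c => exact ⟨algebraMap K L c, by rw [← MvPolynomial.algebraMap_eq, AlgHom.commutes]; exact Q.commutes c⟩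
    | add p q hp hq => rw [map_add]; exact add_mem hp hq
    | mul_X p i hp =>
      rw [map_mul]
      refine mul_mem hp ?_
      have : e (MvPolynomial.X i) = Ideal.Quotient.mk _ (b₀ (P (X i))) := by
        rw [hb₀, kappa_X]
        simp [e, MvPolynomial.coeToMvPowerSeries.algHom_apply, S, T]
      rw [this]
      exact hC _
  letI : Algebra L T := β.toRingHom.toAlgebra
  haveI : IsScalarTower K L T := IsScalarTower.of_algebraMap_eq fun c => (β.commutes c).symm
  -- the image of the maximal ideal generates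
  have hmax : (maximalIdeal L).map (algebraMap L T) = maximalIdeal T := by
    refine le_antisymm (Ideal.map_le_iff_le_comap.2 hβm) ?_
    refine Submodule.le_of_le_smul_of_le_jacobson_bot (R := T) (M := T) (IsNoetherian.noetherian _)
      (IsLocalRing.maximalIdeal_le_jacobson (⊥ : Ideal T)) fun t ht => ?_
    obtain ⟨l, hl⟩ := hsurj 2 t
    have hlm : l ∈ maximalIdeal L := (mem_maximalIdeal _).2 fun hu => (mem_maximalIdeal _).1
      (show β l ∈ maximalIdeal T by
        rw [← sub_add_cancel (β l) t]; exact add_mem (Ideal.pow_le_self two_ne_zero hl) ht) (hu.map β)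
    rw [← sub_sub_cancel (β l) t]
    refine Ideal.sub_mem _ (Ideal.mem_sup_left (Ideal.mem_map_of_mem _ hlm)) (Ideal.mem_sup_right ?_)
    rw [smul_eq_mul, ← pow_two]
    exact hl
  -- level bijectivity
  have hinj : ∀ n l, β l ∈ maximalIdeal T ^ n → l ∈ maximalIdeal L ^ n := by
    intro n l hl
    cases n with
    | zero => simp
    | succ n =>
      let Ln := L ⧸ maximalIdeal L ^ (n + 1)
      haveI := nilp_level (T := L) n
      haveI := henselian_level (T := L) n
      haveI : IsLocalHom (Ideal.Quotient.mk (maximalIdeal L ^ (n + 1))) :=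
        IsLocalHom.of_surjective _ Ideal.Quotient.mk_surjective
      obtain ⟨χ, hχ, -⟩ := Hensel.IsHenselization.universal (R := R) (S := C) Ln
        ((Ideal.Quotient.mk (maximalIdeal L ^ (n + 1))).comp ι.toRingHom) (RingHom.isLocalHom_comp _ _)
      have hχR : ∀ r, χ (algebraMap R C r) = Ideal.Quotient.mk _ (ι r) := fun r => RingHom.congr_fun hχ r
      have hχA : ∀ a, χ (algebraMap A C a) = algebraMap A Ln a := fun a => by
        rw [IsScalarTower.algebraMap_apply A R C, hχR, AlgHom.commutes]
        rfl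
      haveI : IsLocalHom χ := ⟨fun c hc => by
        by_contra hn
        have hmC : (maximalIdeal R).map (algebraMap R C) = maximalIdeal C := Hens.henselization_map_maximalIdeal R C
        have hcm : c ∈ (maximalIdeal R).map (algebraMap R C) := hmC ▸ (mem_maximalIdeal _).2 hn
        have : ((maximalIdeal R).map (algebraMap R C)).map χ ≤ maximalIdeal Ln := by
          rw [Ideal.map_map, Ideal.map_le_iff_le_comap]
          intro x hx
          rw [Ideal.mem_comap, RingHom.comp_apply, hχR]
          exact map_nonunit (Ideal.Quotient.mk (maximalIdeal L ^ (n + 1))) _ (map_nonunit ι.toRingHom x hx)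
        exact (mem_maximalIdeal _).1 (this (Ideal.mem_map_of_mem χ hcm)) hc⟩
      haveI : IsLocalHom (algebraMap A Ln) := ⟨fun a ha => by
        rw [show algebraMap A Ln a = Ideal.Quotient.mk _ (algebraMap K L (algebraMap A K a)) from
          congrArg (Ideal.Quotient.mk _) (IsScalarTower.algebraMap_apply A K L a)] at ha
        by_contra hn
        have h0 : algebraMap A K a = 0 := by
          by_contra h
          exact hn (IsLocalHom.map_nonunit (f := algebraMap A K) _ (isUnit_iff_ne_zero.2 h))
        rw [h0, map_zero, map_zero] at ha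
        exact not_isUnit_zero ha⟩
      haveI : IsAdicComplete (maximalIdeal Ln) Ln :=
        AdicSmooth3.isAdicComplete_of_pow_eq_bot _ (maximalIdeal_pow_level (T := L) n)
      have hcm : ∀ i, χ (P (X i)) ∈ maximalIdeal Ln := fun i => map_nonunit χ _ (hPX i)
      obtain ⟨γ, hγ⟩ := H2Alg.PSHom.exists_algHom (A := K) (maximalIdeal Ln) (fun i => χ (P (X i))) hcm
      have hγκ : ∀ z, γ (κ z) = χ (P z) := fun z => by
        refine DFunLike.congr_fun (hom_ext (f := (γ.restrictScalars A).comp κ)
          (g := ({ χ with commutes' := hχA } : C →ₐ[A] Ln).comp P) (fun i => ?_) fun i => ?_) z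
        · show γ (κ (X i)) = χ (P (X i))
          rw [kappa_X, hγ]
        · show γ (κ (X i)) ∈ _
          rw [kappa_X, hγ]
          exact hcm i
      have hγJ : ∀ s ∈ J, γ s = 0 := fun s hs => by
        refine (show J ≤ RingHom.ker γ from Ideal.map_le_iff_le_comap.2 fun z hz => ?_) hs
        rw [Ideal.mem_comap, RingHom.mem_ker, hγκ, RingHom.mem_ker.1 hz, map_zero]
      let γT : T →ₐ[K] Ln := Ideal.Quotient.liftₐ J γ hγJ
      have hγβ : γT.comp β = Ideal.Quotient.mkₐ K _ := huniq _ _ _ fun r => by
        show γT (β (ι r)) = Ideal.Quotient.mk _ (ι r)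
        rw [hβ, RingHom.comp_apply]
        obtain ⟨z, hz⟩ := hP (algebraMap R C r)
        rw [← hz, hb₀]
        show γ (κ z) = _
        rw [hγκ, hz, hχR]
      have hγm : (maximalIdeal T).map γT ≤ maximalIdeal Ln := by
        rw [← IsLocalRing.map_maximalIdeal_of_surjective (Ideal.Quotient.mk J) Ideal.Quotient.mk_surjective]
        refine Ideal.map_le_iff_le_comap.2 (Ideal.map_le_iff_le_comap.2 ?_)
        rw [H2Alg.PSHom.maximalIdeal_eq, H2Alg.PSHom.V, Ideal.span_le]
        rintro _ ⟨i, rfl⟩
        rw [SetLike.mem_coe, Ideal.mem_comap, Ideal.mem_comap]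
        show γ (MvPowerSeries.X i) ∈ _
        rw [hγ]
        exact hcm i
      have h0 : γT (β l) = 0 := by
        have h := Ideal.mem_map_of_mem γT hl
        rw [Ideal.map_pow] at h
        have h' := Ideal.pow_right_mono hγm (n + 1) h
        rwa [maximalIdeal_pow_level, Ideal.mem_bot] at h'
      rw [← Ideal.Quotient.eq_zero_iff_mem, ← h0]
      exact (DFunLike.congr_fun hγβ l).symm
  have hbij : ∀ n, Function.Bijective (CplLevelH7.lev (maximalIdeal L) (Algebra.ofId L T) n) := by
    intro n
    refine ⟨(injective_iff_map_eq_zero _).2 fun x hx => ?_, fun y => ?_⟩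
    · obtain ⟨l, rfl⟩ := Ideal.Quotient.mk_surjective x
      rw [CplLevelH7.lev_mk, Ideal.Quotient.eq_zero_iff_mem, hmax] at hx
      rw [Ideal.Quotient.eq_zero_iff_mem, show algebraMap L L = RingHom.id L from rfl, Ideal.map_id]
      exact hinj n l hx
    · obtain ⟨t, rfl⟩ := Ideal.Quotient.mk_surjective y
      obtain ⟨l, hl⟩ := hsurj n t
      refine ⟨Ideal.Quotient.mk _ l, ?_⟩
      rw [CplLevelH7.lev_mk, Ideal.Quotient.eq, hmax]
      exact hl
  have hE := CplLevelH7.exists_cplEquiv (B := L) (T := T) (maximalIdeal L) (Algebra.ofId L T) hbij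
  rw [show (maximalIdeal L).map (algebraMap L L) = maximalIdeal L from Ideal.map_id _, hmax] at hE
  obtain ⟨E⟩ := hE
  exact ⟨(E.restrictScalars K).trans ((AdicCompletion.ofAlgEquiv (maximalIdeal T)).symm.restrictScalars K)⟩

end Groth.Agent.HensCoord15
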