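import Groth.Agent.Lib.HensCoord15.Base
import Groth.Prelude.Def_Hensel
import Mathlib.RingTheory.Ideal.Quotient.Operations

/-!
# Henselizations of quotients of `A[x]` at the origin are quotients of `A{x}`
-/

set_option autoImplicit false
set_option linter.style.haveILetI false
set_option backward.isDefEq.respectTransparency.types false

universe u

open IsLocalRing

noncomputable section

namespace Groth.Agent.HensCoord15

variable {σ : Type} {A : Type u} [CommRing A] [HenselianLocalRing A]

/-- The henselization of a presented algebra at a rational point over the origin. -/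
theorem exists_presentation (B₀ : Type u) [CommRing B₀] [Algebra A B₀] (π : MvPolynomial σ A →ₐ[A] B₀)
    (hπ : Function.Surjective π) (Q : Ideal B₀) [Q.IsPrime]
    (hQ : Q.comap π = RingHom.ker (algebraMap (MvPolynomial σ A) (ResidueField A)))
    (C : Type u) [CommRing C] [IsLocalRing C] [Algebra (Localization.AtPrime Q) C]
    [IsLocalHom (algebraMap (Localization.AtPrime Q) C)] [Hensel.IsHenselization (Localization.AtPrime Q) C]
    [Algebra A C] [IsScalarTower A (Localization.AtPrime Q) C] :
    ∃ P : H σ A →ₐ[A] C, Function.Surjective P ∧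
      (∀ p, P (algebraMap (MvPolynomial σ A) _ p) =
        algebraMap (Localization.AtPrime Q) C (algebraMap B₀ _ (π p))) ∧
      (∀ i, P (X i) ∈ maximalIdeal C) ∧
      RingHom.ker P = (RingHom.ker π).map (algebraMap (MvPolynomial σ A) (H σ A)) := by
  haveI : HenselianLocalRing C := Hensel.IsHenselization.henselian (R := Localization.AtPrime Q)
  let g₀ : B₀ →+* C := (algebraMap (Localization.AtPrime Q) C).comp (algebraMap B₀ _)
  have hQmem : ∀ p, π p ∈ Q ↔ algebraMap (MvPolynomial σ A) (ResidueField A) p = 0 := fun p => SetLike.ext_iff.1 hQ p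
  have hg₀m : ∀ b, b ∈ Q → g₀ b ∈ maximalIdeal C := fun b hb =>
    map_nonunit (algebraMap (Localization.AtPrime Q) C) _ ((IsLocalization.AtPrime.to_map_mem_maximal_iff _ Q b).2 hb)
  have hgA : ∀ a, g₀ (algebraMap A B₀ a) = algebraMap A C a := fun a => by
    show algebraMap (Localization.AtPrime Q) C (algebraMap B₀ _ (algebraMap A B₀ a)) = _
    rw [← IsScalarTower.algebraMap_apply A B₀, ← IsScalarTower.algebraMap_apply]
  haveI : IsLocalHom (algebraMap A C) := ⟨fun a ha => by
    by_contra hna
    have hm : π (MvPolynomial.C a) ∈ Q := (hQmem _).2 (by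
      rw [show algebraMap (MvPolynomial σ A) (ResidueField A) (MvPolynomial.C a) = residue A a from
        MvPolynomial.eval₂Hom_C _ _ a]
      exact (residue_eq_zero_iff _).2 ((mem_maximalIdeal _).2 hna))
    have := hg₀m _ hm
    rw [show MvPolynomial.C a = algebraMap A (MvPolynomial σ A) a from rfl, AlgHom.commutes, hgA] at this
    exact (mem_maximalIdeal _).1 this ha⟩
  have ht : ∀ i, g₀ (π (MvPolynomial.X i)) ∈ maximalIdeal C := fun i =>
    hg₀m _ ((hQmem _).2 (MvPolynomial.eval₂Hom_X' _ _ i))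
  let P : H σ A →ₐ[A] C := lift (fun i => g₀ (π (MvPolynomial.X i))) ht
  have hP : ∀ p, P (algebraMap (MvPolynomial σ A) _ p) = g₀ (π p) := fun p =>
    DFunLike.congr_fun (MvPolynomial.algHom_ext
      (f := P.comp (IsScalarTower.toAlgHom A (MvPolynomial σ A) (H σ A)))
      (g := ({ g₀ with commutes' := hgA } : B₀ →ₐ[A] C).comp π) fun i => lift_X _ ht i) p
  set K := (RingHom.ker π).map (algebraMap (MvPolynomial σ A) (H σ A))
  have hK : K ≤ RingHom.ker P := Ideal.map_le_iff_le_comap.2 fun p hp => by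
    rw [Ideal.mem_comap, RingHom.mem_ker, hP, RingHom.mem_ker.1 hp, map_zero]
  have hKm : K ≤ maximalIdeal (H σ A) := Ideal.map_le_iff_le_comap.2 fun p hp => by
    rw [Ideal.mem_comap, ← Hens.Hs.res_eq_zero_iff, AlgHom.commutes, ← hQmem, RingHom.mem_ker.1 hp]
    exact zero_mem _
  have hKt : K ≠ ⊤ := fun h => (maximalIdeal.isMaximal _).ne_top (top_le_iff.1 (h ▸ hKm))
  haveI := henselianLocalRing_quotient K hKt
  haveI := isLocalHom_comp_mk (A := A) K hKt
  haveI : IsLocalHom (Ideal.Quotient.mk K) := IsLocalHom.of_surjective _ Ideal.Quotient.mk_surjective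
  let q : B₀ →+* H σ A ⧸ K := RingHom.liftOfSurjective π.toRingHom hπ
    ⟨(Ideal.Quotient.mk K).comp (algebraMap (MvPolynomial σ A) (H σ A)), fun p hp =>
      Ideal.Quotient.eq_zero_iff_mem.2 (Ideal.mem_map_of_mem _ hp)⟩
  have hq : ∀ p, q (π p) = Ideal.Quotient.mk K (algebraMap (MvPolynomial σ A) (H σ A) p) := fun p =>
    RingHom.liftOfSurjective_comp_apply π.toRingHom hπ _ p
  have hu : ∀ y : Q.primeCompl, IsUnit (q y) := fun y => by
    obtain ⟨p, hp⟩ := hπ y
    rw [← hp, hq]
    refine IsUnit.map _ ((Hens.Hs.isUnit_iff _).2 ?_)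
    rw [AlgHom.commutes, Ne, ← hQmem, hp]
    exact y.2
  let qL : Localization.AtPrime Q →+* H σ A ⧸ K := IsLocalization.lift hu
  have hqL : ∀ b, qL (algebraMap B₀ _ b) = q b := fun b => IsLocalization.lift_eq hu b
  haveI : IsLocalHom qL := ⟨fun z hz => by
    obtain ⟨b, s, rfl⟩ := IsLocalization.exists_mk'_eq Q.primeCompl z
    refine (IsLocalization.AtPrime.isUnit_mk'_iff (Localization.AtPrime Q) Q b s).2 fun hb => ?_
    have hb' : IsUnit (q b) := by
      rw [← hqL, ← IsLocalization.mk'_spec (Localization.AtPrime Q) b s, map_mul, hqL]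
      exact hz.mul (hu s)
    obtain ⟨p, rfl⟩ := hπ b
    rw [hq] at hb'
    exact (Hens.Hs.isUnit_iff _).1 (IsUnit.of_map (Ideal.Quotient.mk K) _ hb')
      (by rw [AlgHom.commutes]; exact (hQmem p).1 hb)⟩
  obtain ⟨g, hg, -⟩ := Hensel.IsHenselization.universal (R := Localization.AtPrime Q) (S := C)
    (H σ A ⧸ K) qL inferInstance
  have hgg : ∀ b, g (g₀ b) = q b := fun b => (RingHom.congr_fun hg _).trans (hqL b)
  let gA : C →ₐ[A] H σ A ⧸ K := { g with
    commutes' := fun a => by
      show g (algebraMap A C a) = _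
      rw [← hgA, hgg, ← AlgHom.commutes π, hq]
      rfl }
  have hgP : ∀ z, g (P z) = Ideal.Quotient.mk K z := fun z => by
    refine DFunLike.congr_fun (hom_ext (f := gA.comp P) (g := Ideal.Quotient.mkₐ A K) (fun i => ?_) fun i => ?_) z
    · show g (P (X i)) = _
      rw [lift_X, hgg, hq]
      rfl
    · show g (P (X i)) ∈ _
      rw [lift_X, hgg, hq]
      exact map_nonunit (Ideal.Quotient.mk K) _ (X_mem i)
  let Pb : H σ A ⧸ K →+* C := Ideal.Quotient.lift K P.toRingHom fun z hz => hK hz
  obtain ⟨e, -, he⟩ := Hensel.IsHenselization.universal (R := Localization.AtPrime Q) (S := C) C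
    (algebraMap _ C) inferInstance
  have hid : Pb.comp g = RingHom.id C := by
    refine (he _ ?_).trans (he _ (RingHom.id_comp _)).symm
    refine IsLocalization.ringHom_ext Q.primeCompl (RingHom.ext fun b => ?_)
    show Pb (g (g₀ b)) = g₀ b
    obtain ⟨p, rfl⟩ := hπ b
    rw [hgg, hq]
    exact hP p
  refine ⟨P, fun c => ?_, hP, fun i => by rw [lift_X]; exact ht i, le_antisymm (fun z hz => ?_) hK⟩
  · obtain ⟨z, hz⟩ := Ideal.Quotient.mk_surjective (g c)
    refine ⟨z, ?_⟩
    have := RingHom.congr_fun hid c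
    rw [RingHom.comp_apply, ← hz] at this
    exact this
  · rw [← Ideal.Quotient.eq_zero_iff_mem, ← hgP, RingHom.mem_ker.1 hz, map_zero]

end Groth.Agent.HensCoord15
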