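import Groth.Agent.Lib.HensCoord15.Kappa
import Groth.Agent.Lib.HensCoord15.Quot
import Groth.Agent.Lib.Hens.Noetherian
import Groth.Prelude.Def_QuadSing
import Mathlib.RingTheory.Filtration
import Mathlib.RingTheory.Flat.EquationalCriterion

/-!
# Geometric fibres at rational points and descent of principality
-/

set_option autoImplicit false
set_option linter.style.haveILetI false
set_option backward.isDefEq.respectTransparency.types false

universe u

open IsLocalRing
open scoped TensorProduct

noncomputable section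

namespace Groth.Agent.HensCoord15

variable {A : Type u} [CommRing A] [HenselianLocalRing A]

/-! ## The geometric fibre -/

theorem isLocalHom_algebraicClosure :
    IsLocalHom (algebraMap A (AlgebraicClosure (ResidueField A))) where
  map_nonunit a ha := by
    rw [IsScalarTower.algebraMap_apply A (ResidueField A)] at ha
    exact (residue_ne_zero_iff_isUnit a).1 fun h => by
      rw [show algebraMap A (ResidueField A) a = 0 from h, map_zero] at ha
      exact not_isUnit_zero ha

variable {R : Type u} [CommRing R] [IsLocalRing R] [Algebra A R] [IsLocalHom (algebraMap A R)]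

/-- The geometric local ring at a rational point of the closed fibre. -/
theorem exists_geometric_fibre' (hres : ∀ r : R, ∃ a : A, r - algebraMap A R a ∈ maximalIdeal R)
    (Pr : ∀ (L : Type u) [CommRing L] [IsLocalRing L] [Algebra (AlgebraicClosure (ResidueField A)) L], Prop)
    (hq : letI := (VanCyc.fibHom A R).toAlgebra
      ∀ (M : Ideal (AlgebraicClosure (ResidueField A) ⊗[ResidueField A] VanCyc.fibQuot A R)) [M.IsMaximal],
        Pr (Localization.AtPrime M)) :
    ∃ (L : Type u) (_ : CommRing L) (_ : IsLocalRing L) (_ : Algebra (AlgebraicClosure (ResidueField A)) L)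
      (_ : Algebra A L) (_ : IsScalarTower A (AlgebraicClosure (ResidueField A)) L) (ι : R →ₐ[A] L),
      IsLocalHom ι.toRingHom ∧
      (∀ (T : Type u) [CommRing T] [IsLocalRing T] [Algebra (AlgebraicClosure (ResidueField A)) T] (φ : R →+* T),
        IsLocalHom φ → (∀ a, φ (algebraMap A R a) = algebraMap (AlgebraicClosure (ResidueField A)) T
          (algebraMap A (AlgebraicClosure (ResidueField A)) a)) →
        ∃ ψ : L →ₐ[AlgebraicClosure (ResidueField A)] T, IsLocalHom ψ.toRingHom ∧ ∀ x, ψ (ι x) = φ x) ∧
      (∀ (T : Type u) [CommRing T] [Algebra (AlgebraicClosure (ResidueField A)) T]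
        (f g : L →ₐ[AlgebraicClosure (ResidueField A)] T), (∀ x, f (ι x) = g (ι x)) → f = g) ∧
      Pr L := by
  let k := ResidueField A
  let K := AlgebraicClosure k
  let O := VanCyc.fibQuot A R
  letI : Algebra k O := (VanCyc.fibHom A R).toAlgebra
  have hmR : (maximalIdeal A).map (algebraMap A R) ≤ maximalIdeal R :=
    Ideal.map_le_iff_le_comap.2 fun a ha => map_nonunit (algebraMap A R) a ha
  let ek : k →+* ResidueField R := ResidueField.map (algebraMap A R)
  have hek : Function.Bijective ek := by
    refine ⟨ek.injective, fun z => ?_⟩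
    obtain ⟨r, rfl⟩ := residue_surjective z
    obtain ⟨a, ha⟩ := hres r
    exact ⟨residue A a, ((Ideal.Quotient.eq).2 ha).symm⟩
  let ev : O →+* k := (RingEquiv.ofBijective ek hek).symm.toRingHom.comp
    (Ideal.Quotient.lift _ (residue R) fun x hx => (residue_eq_zero_iff x).2 (hmR hx))
  have hev : ∀ r a, r - algebraMap A R a ∈ maximalIdeal R →
      ev (Ideal.Quotient.mk _ r) = residue A a := fun r a h => by
    show (RingEquiv.ofBijective ek hek).symm (residue R r) = _
    rw [RingEquiv.symm_apply_eq]
    exact Ideal.Quotient.eq.2 h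
  let evk : O →ₐ[k] k :=
    { ev with
      commutes' := fun c => by
        obtain ⟨a, rfl⟩ := residue_surjective c
        exact hev (algebraMap A R a) a (by simp) }
  let θ : K ⊗[k] O →ₐ[K] K := Algebra.TensorProduct.lift (AlgHom.id K K) ((Algebra.ofId k K).comp evk)
    fun _ _ => Commute.all _ _
  let M : Ideal (K ⊗[k] O) := RingHom.ker θ
  haveI : M.IsMaximal := RingHom.ker_isMaximal_of_surjective θ fun c => ⟨c ⊗ₜ 1, by simp [θ]⟩
  let ι₀ : R →+* Localization.AtPrime M :=
    (algebraMap (K ⊗[k] O) (Localization.AtPrime M)).comp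
      ((Algebra.TensorProduct.includeRight : O →ₐ[k] K ⊗[k] O).toRingHom.comp (Ideal.Quotient.mk _))
  have hO : ∀ a, (Ideal.Quotient.mk _ (algebraMap A R a) : O) = algebraMap k O (residue A a) := fun a => rfl
  have hι₀ : ∀ a, ι₀ (algebraMap A R a) = algebraMap A (Localization.AtPrime M) a := fun a => by
    show algebraMap (K ⊗[k] O) _ ((1 : K) ⊗ₜ[k] (Ideal.Quotient.mk _ (algebraMap A R a) : O)) = _
    rw [hO, ← Algebra.TensorProduct.includeRight_apply, AlgHom.commutes, ← IsScalarTower.algebraMap_apply]
    exact (IsScalarTower.algebraMap_apply A k (Localization.AtPrime M) a).symm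
  let ι : R →ₐ[A] Localization.AtPrime M := { ι₀ with commutes' := hι₀ }
  refine ⟨Localization.AtPrime M, inferInstance, inferInstance, inferInstance, inferInstance, inferInstance, ι,
    ⟨fun r hr => ?_⟩, ?_, ?_, ?_⟩
  · by_contra hn
    have hm : r - algebraMap A R 0 ∈ maximalIdeal R := by simpa using (mem_maximalIdeal r).2 hn
    have : (1 : K) ⊗ₜ[k] (Ideal.Quotient.mk _ r : O) ∈ M := by
      simp [M, RingHom.mem_ker, θ, evk, hev r 0 hm]
    exact (mem_maximalIdeal _).1 ((IsLocalization.AtPrime.to_map_mem_maximal_iff _ M _).2 this) hr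
  · intro T _ _ _ φ hφl hφ
    haveI := hφl
    letI : Algebra k T := ((algebraMap K T).comp (algebraMap k K)).toAlgebra
    haveI : IsScalarTower k K T := IsScalarTower.of_algebraMap_eq fun _ => rfl
    have hker : ∀ x ∈ (maximalIdeal A).map (algebraMap A R), φ x = 0 := by
      intro x hx
      refine (show (maximalIdeal A).map (algebraMap A R) ≤ RingHom.ker φ from
        Ideal.map_le_iff_le_comap.2 fun a ha => ?_) hx
      rw [Ideal.mem_comap, RingHom.mem_ker, hφ, IsScalarTower.algebraMap_apply A k K,
        show algebraMap A k a = 0 from (residue_eq_zero_iff a).2 ha, map_zero, map_zero]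
    let φO : O →ₐ[k] T :=
     { Ideal.Quotient.lift _ φ hker with
      commutes' := fun c => by
        obtain ⟨a, rfl⟩ := residue_surjective c
        show φ (algebraMap A R a) = algebraMap K T (algebraMap k K (residue A a))
        rw [hφ, IsScalarTower.algebraMap_apply A k K]
        rfl }
    let ψ₀ : K ⊗[k] O →ₐ[K] T := Algebra.TensorProduct.lift (Algebra.ofId K T) φO fun _ _ => Commute.all _ _
    have hθ : ∀ z, residue T (ψ₀ z) = residue T (algebraMap K T (θ z)) := by
      intro z
      refine DFunLike.congr_fun (show ((IsScalarTower.toAlgHom K T (ResidueField T)).comp ψ₀) =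
        ((IsScalarTower.toAlgHom K T (ResidueField T)).comp (Algebra.ofId K T)).comp θ from
        Algebra.TensorProduct.ext (Subsingleton.elim _ _) ?_) z
      ext o
      obtain ⟨r, rfl⟩ := Ideal.Quotient.mk_surjective o
      obtain ⟨a, ha⟩ := hres r
      show residue T (ψ₀ ((1 : K) ⊗ₜ[k] Ideal.Quotient.mk _ r)) =
        residue T (algebraMap K T (θ ((1 : K) ⊗ₜ[k] Ideal.Quotient.mk _ r)))
      simp only [ψ₀, θ, Algebra.TensorProduct.lift_tmul, map_one, one_mul, AlgHom.comp_apply]
      show residue T (φ r) = residue T (algebraMap K T (algebraMap k K (ev (Ideal.Quotient.mk _ r))))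
      rw [hev r a ha, show algebraMap k K (residue A a) = algebraMap A K a from
        (IsScalarTower.algebraMap_apply A k K a).symm, ← hφ, ← sub_eq_zero, ← map_sub, residue_eq_zero_iff, ← map_sub]
      exact map_nonunit φ _ ha
    have hu : ∀ y : M.primeCompl, IsUnit (ψ₀ y.1) := fun y => by
      rw [← residue_ne_zero_iff_isUnit, hθ]
      exact ((isUnit_iff_ne_zero.2 y.2).map (algebraMap K T)).map (residue T) |>.ne_zero
    refine ⟨IsLocalization.liftAlgHom (M := M.primeCompl) hu, ⟨fun z hz => ?_⟩, fun x => ?_⟩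
    · obtain ⟨b, s, rfl⟩ := IsLocalization.exists_mk'_eq M.primeCompl z
      refine (IsLocalization.AtPrime.isUnit_mk'_iff (Localization.AtPrime M) M b s).2 fun hb => ?_
      have hb' : IsUnit (ψ₀ b) := by
        have h := hz.mul (hu s)
        rw [show ψ₀ s.1 = IsLocalization.liftAlgHom (M := M.primeCompl) hu
          (algebraMap _ (Localization.AtPrime M) s.1) from (IsLocalization.lift_eq _ _).symm] at h
        change IsUnit (IsLocalization.liftAlgHom (M := M.primeCompl) hu _ * IsLocalization.liftAlgHom (M := M.primeCompl) hu _) at h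
        rw [← map_mul, IsLocalization.mk'_spec] at h
        rwa [show IsLocalization.liftAlgHom (M := M.primeCompl) hu (algebraMap _ (Localization.AtPrime M) b) = ψ₀ b from
          IsLocalization.lift_eq _ _] at h
      rw [← residue_ne_zero_iff_isUnit, hθ, show θ b = 0 from hb, map_zero, map_zero] at hb'
      exact hb' rfl
    · show IsLocalization.liftAlgHom (M := M.primeCompl) hu (algebraMap (K ⊗[k] O) (Localization.AtPrime M)
        ((1 : K) ⊗ₜ[k] (Ideal.Quotient.mk _ x : O))) = φ x
      refine (IsLocalization.lift_eq _ _).trans ?_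
      show ψ₀ ((1 : K) ⊗ₜ[k] Ideal.Quotient.mk _ x) = _
      simp [ψ₀, φO]
      rfl
  · intro T _ _ f g h
    letI : Algebra k T := ((algebraMap K T).comp (algebraMap k K)).toAlgebra
    haveI : IsScalarTower k K T := IsScalarTower.of_algebraMap_eq fun _ => rfl
    refine IsLocalization.algHom_ext M.primeCompl (Algebra.TensorProduct.ext (Subsingleton.elim _ _) ?_)
    ext o
    obtain ⟨r, rfl⟩ := Ideal.Quotient.mk_surjective o
    exact h r
  · exact hq M

/-- The geometric local ring at a rational point of the closed fibre. -/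
theorem exists_geometric_fibre (hres : ∀ r : R, ∃ a : A, r - algebraMap A R a ∈ maximalIdeal R)
    (n : ℕ) (hq : VanCyc.IsNondegQuadPt (VanCyc.fibHom A R) n) :
    ∃ (L : Type u) (_ : CommRing L) (_ : IsLocalRing L) (_ : Algebra (AlgebraicClosure (ResidueField A)) L)
      (_ : Algebra A L) (_ : IsScalarTower A (AlgebraicClosure (ResidueField A)) L) (ι : R →ₐ[A] L),
      IsLocalHom ι.toRingHom ∧
      (∀ (T : Type u) [CommRing T] [IsLocalRing T] [Algebra (AlgebraicClosure (ResidueField A)) T] (φ : R →+* T),
        IsLocalHom φ → (∀ a, φ (algebraMap A R a) = algebraMap (AlgebraicClosure (ResidueField A)) T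
          (algebraMap A (AlgebraicClosure (ResidueField A)) a)) →
        ∃ ψ : L →ₐ[AlgebraicClosure (ResidueField A)] T, IsLocalHom ψ.toRingHom ∧ ∀ x, ψ (ι x) = φ x) ∧
      (∀ (T : Type u) [CommRing T] [Algebra (AlgebraicClosure (ResidueField A)) T]
        (f g : L →ₐ[AlgebraicClosure (ResidueField A)] T), (∀ x, f (ι x) = g (ι x)) → f = g) ∧
      VanCyc.IsNondegQuadSing (AlgebraicClosure (ResidueField A)) L n :=
  exists_geometric_fibre' hres (fun L _ _ _ => VanCyc.IsNondegQuadSing (AlgebraicClosure (ResidueField A)) L n) hq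

/-! ## Descent of principality -/

theorem exists_poly_approx {m : ℕ} (s : ℕ) (z : H (Fin m) A) : ∃ p : MvPolynomial (Fin m) A,
    z - algebraMap (MvPolynomial (Fin m) A) _ p ∈ Ideal.span (Set.range X) ^ s := by
  induction s generalizing z with
  | zero => exact ⟨0, by simp⟩
  | succ s ih =>
    obtain ⟨g, hg⟩ := exists_eq_add_sum z
    choose p hp using fun i => ih (g i)
    refine ⟨MvPolynomial.C (ev₀ (Fin m) A z) + ∑ i, MvPolynomial.X i * p i, ?_⟩
    conv => arg 2; arg 1; rw [hg]
    rw [map_add, map_sum, show algebraMap (MvPolynomial (Fin m) A) (H (Fin m) A)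
      (MvPolynomial.C (ev₀ (Fin m) A z)) = algebraMap A _ (ev₀ (Fin m) A z) from rfl,
      add_sub_add_left_eq_sub, ← Finset.sum_sub_distrib]
    refine sum_mem fun i _ => ?_
    rw [map_mul, show algebraMap (MvPolynomial (Fin m) A) (H (Fin m) A) (MvPolynomial.X i) = X i from rfl,
      ← mul_sub, pow_succ']
    exact Ideal.mul_mem_mul (Ideal.subset_span (Set.mem_range_self i)) (hp i)

variable {K : Type u} [Field K] [Algebra A K] [IsLocalHom (algebraMap A K)]

theorem kappa_poly {m : ℕ} (p : MvPolynomial (Fin m) A) :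
    kappa (K := K) m (algebraMap (MvPolynomial (Fin m) A) (H (Fin m) A) p) =
      (MvPolynomial.map (algebraMap A K) p : MvPolynomial (Fin m) K) := by
  have h : (kappa (K := K) m).comp (IsScalarTower.toAlgHom A (MvPolynomial (Fin m) A) (H (Fin m) A)) =
      ((MvPolynomial.coeToMvPowerSeries.algHom K).restrictScalars A).comp
        (MvPolynomial.mapAlgHom (Algebra.ofId A K)) := by
    refine MvPolynomial.algHom_ext fun i => ?_
    show kappa (K := K) m (X i) = _
    simp [MvPolynomial.coeToMvPowerSeries.algHom_apply]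
  have h' := DFunLike.congr_fun h p
  simp [MvPolynomial.coeToMvPowerSeries.algHom_apply] at h'
  exact h'

set_option maxHeartbeats 1000000 in
theorem mem_of_kappa_mem {m : ℕ} (g z : H (Fin m) A)
    (h : kappa (K := K) m z ∈ Ideal.span {kappa (K := K) m g}) (s : ℕ) :
    z ∈ Ideal.span {g} ⊔ (maximalIdeal A).map (algebraMap A (H (Fin m) A)) ⊔ Ideal.span (Set.range X) ^ s := by
  classical
  obtain ⟨c, hc⟩ := Ideal.mem_span_singleton'.1 h
  obtain ⟨p, hp⟩ := exists_poly_approx s z
  obtain ⟨q, hq⟩ := exists_poly_approx s g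
  let k := ResidueField A
  let ι : k →+* K := Ideal.Quotient.lift _ (algebraMap A K) fun a ha => by
    by_contra hne
    exact (mem_maximalIdeal a).1 ha (IsLocalHom.map_nonunit (f := algebraMap A K) _ (isUnit_iff_ne_zero.2 hne))
  letI : Algebra k K := ι.toAlgebra
  haveI : IsScalarTower A k K := IsScalarTower.of_algebraMap_eq fun _ => rfl
  obtain ⟨π, hπ⟩ := LinearMap.exists_leftInverse_of_injective (Algebra.linearMap k K) (by
    rw [LinearMap.ker_eq_bot]; exact (algebraMap k K).injective)
  have hπk : ∀ x : k, π (algebraMap k K x) = x := fun x => LinearMap.congr_fun hπ x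
  let c₀ : MvPolynomial (Fin m) K := MvPowerSeries.truncTotal s c
  let ck : MvPolynomial (Fin m) k := ∑ d ∈ c₀.support, MvPolynomial.monomial d (π (c₀.coeff d))
  have hck : ∀ d, ck.coeff d = π (c₀.coeff d) := fun d => by
    simp only [ck, MvPolynomial.coeff_sum, MvPolynomial.coeff_monomial, Finset.sum_ite_eq', MvPolynomial.mem_support_iff]
    by_cases hd : c₀.coeff d = 0 <;> simp [hd]
  obtain ⟨cA, hcA⟩ := MvPolynomial.map_surjective (residue A) residue_surjective ck
  let r := p - cA * q
  have hr : ∀ d : Fin m →₀ ℕ, d.degree < s → r.coeff d ∈ maximalIdeal A := by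
    intro d hd
    rw [← residue_eq_zero_iff, ← MvPolynomial.coeff_map, map_sub, map_mul, hcA, MvPolynomial.coeff_sub, sub_eq_zero]
    have e1 : kappa (K := K) m z - (MvPolynomial.map (algebraMap A K) p : MvPolynomial (Fin m) K) ∈
        H2Alg.PSHom.V m K ^ s := by
      rw [← kappa_poly, ← map_sub]
      have := Ideal.mem_map_of_mem (kappa (K := K) m) hp
      rw [Ideal.map_pow] at this
      refine Ideal.pow_right_mono ?_ s this
      rw [Ideal.map_span, Ideal.span_le]
      rintro _ ⟨_, ⟨i, rfl⟩, rfl⟩
      rw [kappa_X]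
      exact H2Alg.PSHom.X_mem i
    have e2 : kappa (K := K) m g - (MvPolynomial.map (algebraMap A K) q : MvPolynomial (Fin m) K) ∈
        H2Alg.PSHom.V m K ^ s := by
      rw [← kappa_poly, ← map_sub]
      have := Ideal.mem_map_of_mem (kappa (K := K) m) hq
      rw [Ideal.map_pow] at this
      refine Ideal.pow_right_mono ?_ s this
      rw [Ideal.map_span, Ideal.span_le]
      rintro _ ⟨_, ⟨i, rfl⟩, rfl⟩
      rw [kappa_X]
      exact H2Alg.PSHom.X_mem i
    have e3 : c - (c₀ : MvPowerSeries (Fin m) K) ∈ H2Alg.PSHom.V m K ^ s := H2Alg.PSHom.mem_pow fun d' hd' => by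
      rw [map_sub, MvPolynomial.coeff_coe, MvPowerSeries.coeff_truncTotal _ hd', sub_self]
    have e4 : ((MvPolynomial.map (algebraMap A K) p : MvPolynomial (Fin m) K) : MvPowerSeries (Fin m) K) -
        ((c₀ * MvPolynomial.map (algebraMap A K) q : MvPolynomial (Fin m) K) : MvPowerSeries (Fin m) K) ∈
        H2Alg.PSHom.V m K ^ s := by
      have := Ideal.sub_mem _ (add_mem (Ideal.mul_mem_left _ c e2) (Ideal.mul_mem_right
        ((MvPolynomial.map (algebraMap A K) q : MvPolynomial (Fin m) K) : MvPowerSeries (Fin m) K) _ e3)) e1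
      convert this using 1
      push_cast
      rw [← hc]; ring
    have e5 := H2Alg.PSHom.coeff_eq_zero_of_mem_pow e4 hd
    rw [map_sub, MvPolynomial.coeff_coe, MvPolynomial.coeff_coe, sub_eq_zero] at e5
    have e6 : ∀ (P : MvPolynomial (Fin m) A) d', (MvPolynomial.map (algebraMap A K) P).coeff d' =
        algebraMap k K ((MvPolynomial.map (residue A) P).coeff d') := fun P d' => by
      rw [MvPolynomial.coeff_map, MvPolynomial.coeff_map]
      rfl
    rw [e6 p, MvPolynomial.coeff_mul] at e5
    have e7 := congrArg π e5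
    rw [hπk, map_sum] at e7
    rw [e7, MvPolynomial.coeff_mul]
    refine Finset.sum_congr rfl fun x _ => ?_
    rw [hck, e6 q, mul_comm, ← Algebra.smul_def, map_smul, smul_eq_mul, mul_comm]
  have hrmem : algebraMap (MvPolynomial (Fin m) A) (H (Fin m) A) r ∈
      (maximalIdeal A).map (algebraMap A (H (Fin m) A)) ⊔ Ideal.span (Set.range X) ^ s := by
    rw [MvPolynomial.as_sum r, map_sum]
    refine sum_mem fun d _ => ?_
    have hmon : algebraMap (MvPolynomial (Fin m) A) (H (Fin m) A) (MvPolynomial.monomial d (r.coeff d)) =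
        algebraMap A (H (Fin m) A) (r.coeff d) * ∏ i ∈ d.support, X i ^ (d i) := by
      rw [MvPolynomial.monomial_eq, map_mul, Finsupp.prod, map_prod]
      simp only [map_pow]
      rfl
    rw [hmon]
    by_cases hd : d.degree < s
    · exact Ideal.mem_sup_left (Ideal.mul_mem_right _ _ (Ideal.mem_map_of_mem _ (hr d hd)))
    · refine Ideal.mem_sup_right (Ideal.mul_mem_left _ _ ?_)
      refine Ideal.pow_le_pow_right (not_lt.1 hd) ?_
      rw [Finsupp.degree_apply, ← Finset.prod_pow_eq_pow_sum]
      exact Ideal.prod_mem_prod fun i _ => Ideal.pow_mem_pow (Ideal.subset_span (Set.mem_range_self i)) _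
  have hzz : z = algebraMap (MvPolynomial (Fin m) A) _ cA * g +
      (algebraMap (MvPolynomial (Fin m) A) _ r + ((z - algebraMap (MvPolynomial (Fin m) A) _ p) -
        algebraMap (MvPolynomial (Fin m) A) _ cA * (g - algebraMap (MvPolynomial (Fin m) A) _ q))) := by
    simp only [r, map_sub, map_mul]
    ring
  rw [hzz, sup_assoc]
  refine add_mem (Ideal.mem_sup_left (Ideal.mul_mem_left _ _ (Ideal.mem_span_singleton_self g)))
    (Ideal.mem_sup_right (add_mem hrmem (Ideal.mem_sup_right (Ideal.sub_mem _ hp (Ideal.mul_mem_left _ _ hq)))))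

set_option maxHeartbeats 1000000 in
/-- Principality descends from the power series model of the closed fibre. -/
theorem eq_span_singleton {m : ℕ} {C : Type u} [CommRing C] [Algebra A C] [Module.Flat A C]
    (P : H (Fin m) A →ₐ[A] C) (hP : Function.Surjective P) (hfg : (RingHom.ker P).FG)
    (g : H (Fin m) A) (hg : g ∈ RingHom.ker P) (hgm : g ∈ maximalIdeal (H (Fin m) A))
    (hspan : (RingHom.ker P).map (kappa (K := K) m) = Ideal.span {kappa (K := K) m g}) :
    RingHom.ker P = Ideal.span {g} := by
  set I := RingHom.ker P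
  set N := (maximalIdeal A).map (algebraMap A (H (Fin m) A))
  -- the fibre is Noetherian
  let πk : MvPolynomial (Fin m) A →ₐ[A] MvPolynomial (Fin m) (ResidueField A) :=
    MvPolynomial.mapAlgHom (Algebra.ofId A (ResidueField A))
  have hπk : Function.Surjective πk := MvPolynomial.map_surjective _ residue_surjective
  let Q : Ideal (MvPolynomial (Fin m) (ResidueField A)) := RingHom.ker (MvPolynomial.eval fun _ => (0 : ResidueField A))
  haveI : Q.IsMaximal := RingHom.ker_isMaximal_of_surjective _ fun c => ⟨MvPolynomial.C c, by simp⟩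
  have hQ : Q.comap πk = RingHom.ker (algebraMap (MvPolynomial (Fin m) A) (ResidueField A)) := by
    ext p
    rw [Ideal.mem_comap, RingHom.mem_ker, RingHom.mem_ker]
    show MvPolynomial.eval (fun _ => 0) (MvPolynomial.map (residue A) p) = 0 ↔
      MvPolynomial.eval₂Hom (residue A) (fun _ => 0) p = 0
    rw [MvPolynomial.eval_map]
    rfl
  let Hb := Hens.Hh (Localization.AtPrime Q)
  letI : Algebra A Hb := ((algebraMap (Localization.AtPrime Q) Hb).comp (algebraMap A (Localization.AtPrime Q))).toAlgebra
  haveI : IsScalarTower A (Localization.AtPrime Q) Hb := IsScalarTower.of_algebraMap_eq fun _ => rfl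
  obtain ⟨π₀, hπ₀, -, hπ₀X, hker⟩ := exists_presentation (MvPolynomial (Fin m) (ResidueField A)) πk hπk Q hQ
    (Hens.Hh (Localization.AtPrime Q))
  have hkN : RingHom.ker π₀ = N := by
    rw [hker]
    have : RingHom.ker πk = (maximalIdeal A).map MvPolynomial.C := by
      show RingHom.ker (MvPolynomial.map (residue A)) = _
      rw [MvPolynomial.ker_map, IsLocalRing.ker_residue]
    rw [this, Ideal.map_map]
    rfl
  haveI : IsNoetherianRing (Localization.AtPrime Q) := IsLocalization.isNoetherianRing Q.primeCompl _ inferInstance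
  haveI : IsNoetherianRing (Hens.Hh (Localization.AtPrime Q)) :=
    Hens.henselization_isNoetherianRing (Localization.AtPrime Q) _
  have hIN : I ≤ Ideal.span {g} ⊔ N := by
    intro z hz
    have hkz : kappa (K := K) m z ∈ Ideal.span {kappa (K := K) m g} := hspan ▸ Ideal.mem_map_of_mem _ hz
    have hz' : π₀ z ∈ Ideal.span {π₀ g} := by
      have hm : π₀ g ∈ maximalIdeal (Hens.Hh (Localization.AtPrime Q)) := by
        haveI : IsLocalHom π₀.toRingHom := IsLocalHom.of_surjective _ hπ₀
        exact map_nonunit π₀.toRingHom g hgm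
      haveI : Nontrivial (Hens.Hh (Localization.AtPrime Q) ⧸ Ideal.span {π₀ g}) :=
        Ideal.Quotient.nontrivial_iff.2 fun h => (maximalIdeal.isMaximal _).ne_top
          (top_le_iff.1 (h ▸ (Ideal.span_singleton_le_iff_mem _).2 hm))
      haveI : IsLocalRing (Hens.Hh (Localization.AtPrime Q) ⧸ Ideal.span {π₀ g}) :=
        IsLocalRing.of_surjective' _ Ideal.Quotient.mk_surjective
      rw [← Ideal.Quotient.eq_zero_iff_mem]
      refine IsHausdorff.haus (IsHausdorff.of_isLocalRing (maximalIdeal (Hens.Hh (Localization.AtPrime Q) ⧸ Ideal.span {π₀ g})) _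
        (maximalIdeal.isMaximal _).ne_top) _ fun s => ?_
      rw [SModEq.zero, smul_eq_mul, Ideal.mul_top,
        ← IsLocalRing.map_maximalIdeal_of_surjective (Ideal.Quotient.mk _) Ideal.Quotient.mk_surjective,
        ← Ideal.map_pow, Ideal.mem_quotient_iff_mem_sup, sup_comm]
      have h := Ideal.mem_map_of_mem π₀ (mem_of_kappa_mem g z hkz s)
      rw [Ideal.map_sup, Ideal.map_sup, Ideal.map_span, Set.image_singleton, Ideal.map_pow] at h
      have hle : Ideal.span {π₀ g} ⊔ N.map π₀ ⊔ ((Ideal.span (Set.range X)).map π₀) ^ s ≤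
          Ideal.span {π₀ g} ⊔ maximalIdeal (Hens.Hh (Localization.AtPrime Q)) ^ s := by
        refine sup_le (sup_le le_sup_left ?_) ?_
        · refine Ideal.map_le_iff_le_comap.2 (fun x hx => ?_)
          rw [Ideal.mem_comap, RingHom.mem_ker.1 (hkN ▸ hx : x ∈ RingHom.ker π₀)]
          exact zero_mem _
        · refine le_trans (Ideal.pow_right_mono ?_ s) le_sup_right
          rw [Ideal.map_span, Ideal.span_le]
          rintro _ ⟨_, ⟨i, rfl⟩, rfl⟩
          exact hπ₀X i
      exact hle h
    obtain ⟨c, hc⟩ := Ideal.mem_span_singleton'.1 hz'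
    obtain ⟨c, rfl⟩ := hπ₀ c
    rw [← map_mul] at hc
    have h0 : z - c * g ∈ N := by rw [← hkN, RingHom.mem_ker, map_sub, hc, sub_self]
    rw [← add_sub_cancel (c * g) z]
    exact add_mem (Ideal.mem_sup_left (Ideal.mul_mem_left _ _ (Ideal.mem_span_singleton_self g))) (Ideal.mem_sup_right h0)
  -- flatness
  have hflat : ∀ x ∈ I, x ∈ N → x ∈ N * I := by
    intro x hxI hxN
    rw [show N = (maximalIdeal A).map (algebraMap A (H (Fin m) A)) from rfl, Ideal.map, Ideal.span,
      Submodule.mem_span_set'] at hxN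
    obtain ⟨l, f, v, hv⟩ := hxN
    choose a ha hav using fun i => (v i).2
    have h0 : ∑ i, a i • P (f i) = 0 := by
      rw [← show P x = 0 from hxI, ← hv, map_sum]
      refine Finset.sum_congr rfl fun i _ => ?_
      rw [smul_eq_mul, map_mul, ← hav i, AlgHom.commutes, Algebra.smul_def, mul_comm]
    obtain ⟨κ', b, w, hw, hb⟩ := Module.Flat.iff_forall_isTrivialRelation.1 (inferInstance : Module.Flat A C) h0
    choose w' hw' using fun j => hP (w j)
    have hfi : ∀ i, f i - ∑ j, algebraMap A _ (b i j) * w' j ∈ I := fun i => by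
      rw [RingHom.mem_ker, map_sub, map_sum, show P (f i) = _ from hw i, sub_eq_zero]
      exact Finset.sum_congr rfl fun j _ => by rw [map_mul, AlgHom.commutes, hw', Algebra.smul_def]
    have hx : x = ∑ i, algebraMap A _ (a i) * (f i - ∑ j, algebraMap A _ (b i j) * w' j) := by
      simp only [mul_sub, Finset.sum_sub_distrib]
      rw [show ∑ i, algebraMap A (H (Fin m) A) (a i) * ∑ j, algebraMap A _ (b i j) * w' j = 0 from ?_, sub_zero, ← hv]
      · exact Finset.sum_congr rfl fun i _ => by rw [smul_eq_mul, ← hav i, mul_comm]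
      simp only [Finset.mul_sum, ← mul_assoc, ← map_mul]
      rw [Finset.sum_comm]
      refine Finset.sum_eq_zero fun j _ => ?_
      rw [← Finset.sum_mul, ← map_sum, hb j, map_zero, zero_mul]
    rw [hx]
    exact sum_mem fun i _ => Ideal.mul_mem_mul (Ideal.mem_map_of_mem _ (ha i)) (hfi i)
  have hgI : Ideal.span {g} ≤ I := (Ideal.span_singleton_le_iff_mem _).2 hg
  refine le_antisymm ?_ hgI
  refine Submodule.le_of_le_smul_of_le_jacobson_bot (I := N) hfg
    ((show N ≤ maximalIdeal (H (Fin m) A) from
        Ideal.map_le_iff_le_comap.2 fun a ha => map_nonunit (algebraMap A (H (Fin m) A)) a ha).trans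
      (IsLocalRing.maximalIdeal_le_jacobson ⊥)) fun z hz => ?_
  obtain ⟨y, hy, n, hn, rfl⟩ := Submodule.mem_sup.1 (hIN hz)
  refine add_mem (Ideal.mem_sup_left hy) (Ideal.mem_sup_right ?_)
  rw [smul_eq_mul]
  exact hflat n (by simpa using Ideal.sub_mem _ hz (hgI hy)) hn

end Groth.Agent.HensCoord15
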