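import Groth.Prelude.Def_QuadSing
import Mathlib.LinearAlgebra.Matrix.NonsingularInverse

/-!
# Symmetrisation of matrices into upper-triangular tables
-/

set_option autoImplicit false

universe u v

open Matrix

noncomputable section

namespace Groth.Agent.HensCoord15

variable {T : Type u} [CommRing T] {n : ℕ}

/-- The table of the quadratic form `x ↦ xᵀ W x`. -/
def sym (W : Matrix (Fin n) (Fin n) T) : Matrix (Fin n) (Fin n) T :=
  Matrix.of fun i j => if i = j then W i i else if i < j then W i j + W j i else 0

theorem sym_add (W W' : Matrix (Fin n) (Fin n) T) : sym (W + W') = sym W + sym W' := by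
  ext i j
  simp only [sym, of_apply, Matrix.add_apply]
  split_ifs <;> ring

theorem sym_transpose (W : Matrix (Fin n) (Fin n) T) : sym Wᵀ = sym W := by
  ext i j
  simp only [sym, of_apply, transpose_apply]
  split_ifs <;> ring

theorem sym_apply_of_lt (W : Matrix (Fin n) (Fin n) T) {i j : Fin n} (h : j < i) : sym W i j = 0 := by
  simp [sym, h.ne', h.not_gt]

theorem sym_eq_self (W : Matrix (Fin n) (Fin n) T) (hW : ∀ i j, j < i → W i j = 0) : sym W = W := by
  ext i j
  rcases lt_trichotomy i j with h | rfl | h
  · simp [sym, h.ne, h, hW j i h]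
  · simp [sym]
  · rw [sym_apply_of_lt W h, hW i j h]

theorem map_sym {U : Type v} [CommRing U] (f : T →+* U) (W : Matrix (Fin n) (Fin n) T) :
    (sym W).map f = sym (W.map f) := by
  ext i j
  simp only [sym, of_apply, map_apply, apply_ite f, map_add, map_zero]

theorem polarMatrix_eq (W : Matrix (Fin n) (Fin n) T) : VanCyc.polarMatrix (sym W) = W + Wᵀ := by
  ext i j
  simp only [VanCyc.polarMatrix, sym, of_apply, Matrix.add_apply, transpose_apply]
  rcases lt_trichotomy i j with h | rfl | h
  · simp [h.ne, h]
  · simp [two_mul]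
  · simp [h.ne', h.not_gt, h, h.ne, add_comm]

/-- `xᵀ W x` is the value of the symmetrised table. -/
theorem quadEval_sym (W : Matrix (Fin n) (Fin n) T) (x : Fin n → T) :
    VanCyc.quadEval (sym W) x = ∑ i, ∑ j, W i j * x i * x j := by
  have h : ∀ i j, (if i ≤ j then sym W i j * x i * x j else 0) =
      (if i ≤ j then W i j * x i * x j else 0) + (if i < j then W j i * x j * x i else 0) := by
    intro i j
    rcases lt_trichotomy i j with h | rfl | h
    · simp only [sym, of_apply, if_pos h.le, if_neg h.ne, if_pos h]; ring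
    · simp [sym]
    · simp [h.not_ge, h.not_gt]
  simp only [VanCyc.quadEval, h, Finset.sum_add_distrib]
  rw [Finset.sum_comm (f := fun i j => if i < j then W j i * x j * x i else 0), ← Finset.sum_add_distrib]
  refine Finset.sum_congr rfl fun i _ => ?_
  rw [← Finset.sum_add_distrib]
  refine Finset.sum_congr rfl fun j _ => ?_
  rcases le_or_gt i j with h | h
  · rw [if_pos h, if_neg h.not_gt, add_zero]
  · rw [if_neg h.not_ge, if_pos h, zero_add]

/-- `quadEval` after a linear substitution. -/
theorem quadEval_mulVec (a : Matrix (Fin n) (Fin n) T) (ha : ∀ i j, j < i → a i j = 0)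
    (M : Matrix (Fin n) (Fin n) T) (x : Fin n → T) :
    VanCyc.quadEval a (M *ᵥ x) = VanCyc.quadEval (sym (Mᵀ * a * M)) x := by
  have h : ∀ (W : Matrix (Fin n) (Fin n) T) (y : Fin n → T), ∑ i, ∑ j, W i j * y i * y j = y ⬝ᵥ (W *ᵥ y) := by
    intro W y
    simp only [dotProduct, mulVec, Finset.mul_sum]
    exact Finset.sum_congr rfl fun i _ => Finset.sum_congr rfl fun j _ => by ring
  conv_lhs => rw [← sym_eq_self a ha]
  rw [quadEval_sym, quadEval_sym, h, h, ← mulVec_mulVec, ← mulVec_mulVec, dotProduct_mulVec x Mᵀ,
    vecMul_transpose]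

/-- Expansion of a substitution close to the identity. -/
theorem sym_expand (a N : Matrix (Fin n) (Fin n) T) :
    sym ((1 + N)ᵀ * a * (1 + N)) = sym a + sym ((a + aᵀ) * N) + sym (Nᵀ * a * N) := by
  have h : (1 + N)ᵀ * a * (1 + N) = a + a * N + Nᵀ * a + Nᵀ * a * N := by
    rw [transpose_add, transpose_one, add_mul, Matrix.one_mul, add_mul, mul_add, mul_add, Matrix.mul_one,
      Matrix.mul_one]
    abel
  rw [h, sym_add, sym_add, sym_add, add_mul, sym_add, ← sym_transpose (Nᵀ * a), transpose_mul, transpose_transpose]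
  abel

end Groth.Agent.HensCoord15
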