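import Groth.Agent.Lib.HensCoord15.Principal
import Groth.Agent.Lib.HensCoord15.Sym
import Mathlib.GroupTheory.Perm.Cycle.Type
import Mathlib.FieldTheory.IsAlgClosed.Basic

/-!
# Ordinary quadratic forms and quadratic parts of power series
-/

set_option autoImplicit false
set_option linter.style.haveILetI false
set_option backward.isDefEq.respectTransparency.types false

universe u

open MvPowerSeries Matrix

noncomputable section

namespace Groth.Agent.HensCoord15

/-- A symmetric matrix with zero diagonal of odd size has zero determinant where `2 = 0`. -/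
theorem det_eq_zero_of_alternating {R : Type u} [CommRing R] (h2 : (2 : R) = 0) {m : ℕ}
    (M : Matrix (Fin (2 * m + 1)) (Fin (2 * m + 1)) R) (hs : Mᵀ = M) (hd : ∀ i, M i i = 0) : M.det = 0 := by
  classical
  rw [Matrix.det_apply]
  have hf : ∀ σ : Equiv.Perm (Fin (2 * m + 1)),
      Equiv.Perm.sign σ⁻¹ • ∏ i, M (σ⁻¹ i) i = Equiv.Perm.sign σ • ∏ i, M (σ i) i := by
    intro σ
    rw [Equiv.Perm.sign_inv]
    congr 1
    rw [← Equiv.prod_comp σ (fun i => M (σ⁻¹ i) i)]
    refine Finset.prod_congr rfl fun i _ => ?_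
    simpa using congrFun (congrFun hs (σ i)) i
  refine Finset.sum_involution (fun σ _ => σ⁻¹) (fun σ _ => ?_) (fun σ _ hne hfix => hne ?_)
    (fun σ _ => Finset.mem_univ _) fun σ _ => inv_inv σ
  · rw [hf, ← two_mul, h2, zero_mul]
  · haveI : Fact (Nat.Prime 2) := ⟨Nat.prime_two⟩
    have hσ : σ ^ 2 ^ 1 = 1 := by
      rw [pow_one, pow_two]
      nth_rw 1 [← hfix]
      exact inv_mul_cancel σ
    obtain ⟨i, hi⟩ := Equiv.Perm.exists_fixed_point_of_prime (p := 2) (by simp [Fintype.card_fin]) hσ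
    rw [Finset.prod_eq_zero (Finset.mem_univ i) (by rw [hi]; exact hd i), smul_zero]

variable {K : Type u} [Field K] {n p : ℕ}

/-- The form `v ↦ vᵀ W v` is ordinary. -/
def OrdTable (W : Matrix (Fin n) (Fin n) K) : Prop :=
  ∀ v : Fin n → K, v ⬝ᵥ (W *ᵥ v) = 0 → (W + Wᵀ) *ᵥ v = 0 → v = 0

theorem quadEval_sym_eq_dotProduct (W : Matrix (Fin n) (Fin n) K) (v : Fin n → K) :
    VanCyc.quadEval (sym W) v = v ⬝ᵥ (W *ᵥ v) := by
  rw [quadEval_sym]
  simp only [dotProduct, mulVec, Finset.mul_sum]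
  exact Finset.sum_congr rfl fun i _ => Finset.sum_congr rfl fun j _ => by ring

theorem quadOrd_sym_iff (W : Matrix (Fin n) (Fin n) K) : VanCyc.QuadOrd (sym W) ↔ OrdTable W := by
  simp only [VanCyc.QuadOrd, OrdTable, quadEval_sym_eq_dotProduct, polarMatrix_eq]

theorem dotProduct_add_eq (W : Matrix (Fin n) (Fin n) K) (u r : Fin n → K) :
    u ⬝ᵥ (W *ᵥ r) + r ⬝ᵥ (W *ᵥ u) = u ⬝ᵥ ((W + Wᵀ) *ᵥ r) := by
  rw [add_mulVec, dotProduct_add, dotProduct_mulVec r W u, dotProduct_comm (r ᵥ* W) u, mulVec_transpose]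

theorem OrdTable.ne_zero {W : Matrix (Fin n) (Fin n) K} (hW : OrdTable W) {r : Fin n → K} (hr : (W + Wᵀ) *ᵥ r = 0)
    (hr0 : r ≠ 0) : r ⬝ᵥ (W *ᵥ r) ≠ 0 := fun h => hr0 (hW r h hr)

/-- The kernel of the polar form of an ordinary form is at most a line. -/
theorem OrdTable.exists_smul [IsAlgClosed K] {W : Matrix (Fin n) (Fin n) K} (hW : OrdTable W) {r : Fin n → K}
    (hr : (W + Wᵀ) *ᵥ r = 0) (hr0 : r ≠ 0) {u : Fin n → K} (hu : (W + Wᵀ) *ᵥ u = 0) : ∃ s : K, u = s • r := by
  obtain ⟨s, hs⟩ := IsAlgClosed.exists_pow_nat_eq (-(u ⬝ᵥ (W *ᵥ u)) / (r ⬝ᵥ (W *ᵥ r))) (n := 2) (by norm_num)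
  refine ⟨s, sub_eq_zero.1 (hW (u - s • r) ?_ ?_)⟩
  · have h1 := dotProduct_add_eq W u r
    rw [hr, dotProduct_zero] at h1
    rw [mulVec_sub, mulVec_smul, sub_dotProduct, dotProduct_sub, dotProduct_sub, smul_dotProduct, smul_dotProduct,
      dotProduct_smul, dotProduct_smul, smul_eq_mul, smul_eq_mul, smul_eq_mul]
    rw [eq_div_iff (hW.ne_zero hr hr0)] at hs
    linear_combination hs - s * h1
  · rw [mulVec_sub, mulVec_smul, hu, hr, smul_zero, sub_zero]

theorem OrdTable.congr {W : Matrix (Fin n) (Fin n) K} (hW : OrdTable W) (L : Matrix (Fin n) (Fin n) K)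
    (hL : Function.Injective L.mulVec) (c : K) (hc : c ≠ 0) : OrdTable (c • (Lᵀ * W * L)) := by
  intro v h1 h2
  have hL' : Function.Injective Lᵀ.mulVec := by
    rw [mulVec_injective_iff_isUnit, isUnit_transpose, ← mulVec_injective_iff_isUnit]
    exact hL
  refine hL (a₂ := 0) ?_ |>.trans rfl
  rw [mulVec_zero]
  refine hW _ ?_ ?_
  · rw [smul_mulVec, dotProduct_smul, smul_eq_mul, mul_eq_zero, ← mulVec_mulVec, ← mulVec_mulVec, dotProduct_mulVec v Lᵀ,
      vecMul_transpose] at h1
    exact h1.resolve_left hc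
  · have h : (c • (Lᵀ * W * L) + (c • (Lᵀ * W * L))ᵀ) = c • (Lᵀ * ((W + Wᵀ) * L)) := by
      rw [transpose_smul, transpose_mul, transpose_mul, transpose_transpose, ← smul_add, Matrix.add_mul, Matrix.mul_add,
        Matrix.mul_assoc]
    rw [h, smul_mulVec, smul_eq_zero] at h2
    refine hL' (a₂ := 0) ?_ |>.trans rfl
    rw [mulVec_zero, mulVec_mulVec, mulVec_mulVec]
    rw [Matrix.mul_assoc]
    exact h2.resolve_left hc

theorem sym_smul (c : K) (W : Matrix (Fin n) (Fin n) K) : sym (c • W) = c • sym W := by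
  ext i j
  simp only [sym, of_apply, Matrix.smul_apply, smul_eq_mul, mul_ite, mul_add, mul_zero]

/-! ## Quadratic parts -/

theorem quadPart_add (f g : MvPowerSeries (Fin n) K) :
    (Matrix.of (VanCyc.quadPart (f + g))) = Matrix.of (VanCyc.quadPart f) + Matrix.of (VanCyc.quadPart g) := by
  ext i j
  simp only [VanCyc.quadPart, of_apply, Matrix.add_apply, map_add]
  split_ifs <;> simp

theorem quadPart_zero : Matrix.of (VanCyc.quadPart (0 : MvPowerSeries (Fin n) K)) = 0 := by
  ext i j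
  simp [VanCyc.quadPart]

theorem quadPart_sum {ι : Type*} (s : Finset ι) (f : ι → MvPowerSeries (Fin n) K) :
    Matrix.of (VanCyc.quadPart (∑ i ∈ s, f i)) = ∑ i ∈ s, Matrix.of (VanCyc.quadPart (f i)) := by
  classical
  induction s using Finset.induction with
  | empty => simp [quadPart_zero]
  | insert i s hi ih => rw [Finset.sum_insert hi, Finset.sum_insert hi, quadPart_add, ih]

theorem coeff_single_two_mul (u v : MvPowerSeries (Fin n) K) (i : Fin n) :
    coeff (Finsupp.single i 2) (u * v) = constantCoeff u * coeff (Finsupp.single i 2) v +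
      QuadSing19.lin u i * QuadSing19.lin v i + coeff (Finsupp.single i 2) u * constantCoeff v := by
  classical
  rw [coeff_mul, Finsupp.antidiagonal_single, Finset.sum_map, Finset.Nat.sum_antidiagonal_eq_sum_range_succ_mk]
  simp [Finset.sum_range_succ, QuadSing19.lin, coeff_zero_eq_constantCoeff_apply, ← Finsupp.single_tsub]

theorem quadPart_of_lt (f : MvPowerSeries (Fin n) K) {i j : Fin n} (h : i < j) :
    VanCyc.quadPart f i j = QuadSing19.hess f i j := by
  simp [QuadSing19.hess_eq_polarMatrix, VanCyc.polarMatrix, h.ne, h]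

/-- The quadratic part of a product of two series without constant term. -/
theorem quadPart_mul (u v : MvPowerSeries (Fin n) K) (hu : constantCoeff u = 0) (hv : constantCoeff v = 0) :
    Matrix.of (VanCyc.quadPart (u * v)) = sym (vecMulVec (QuadSing19.lin u) (QuadSing19.lin v)) := by
  ext i j
  rw [of_apply]
  rcases lt_trichotomy i j with h | rfl | h
  · rw [quadPart_of_lt _ h, QuadSing19.hess_mul _ _ hu hv]
    simp only [sym, of_apply, if_neg h.ne, if_pos h, Matrix.add_apply, vecMulVec_apply]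
    ring
  · simp [VanCyc.quadPart, sym, coeff_single_two_mul, hu, hv, vecMulVec_apply]
  · simp [VanCyc.quadPart, sym_apply_of_lt _ h, h.ne', h.not_gt]

/-- Quadratic parts scale by constant terms. -/
theorem quadPart_mul_of_noLow (c g : MvPowerSeries (Fin n) K) (hg : constantCoeff g = 0)
    (hg1 : ∀ i, QuadSing19.lin g i = 0) :
    Matrix.of (VanCyc.quadPart (c * g)) = constantCoeff c • Matrix.of (VanCyc.quadPart g) := by
  ext i j
  rw [of_apply, Matrix.smul_apply, of_apply]
  rcases lt_trichotomy i j with h | rfl | h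
  · rw [quadPart_of_lt _ h, quadPart_of_lt _ h, QuadSing19.hess_mul_of_sq _ _ hg hg1]
    simp
  · simp [VanCyc.quadPart, coeff_single_two_mul, hg, hg1]
  · simp [VanCyc.quadPart, h.ne', h.not_gt]

/-- The quadratic part of an expansion `Σ G_ij Y_i Y_j`. -/
theorem quadPart_expansion (G : Fin p → Fin p → MvPowerSeries (Fin n) K) (Y : Fin p → MvPowerSeries (Fin n) K)
    (hY : ∀ i, constantCoeff (Y i) = 0) :
    constantCoeff (∑ i, ∑ j, G i j * (Y i * Y j)) = 0 ∧
      (∀ l, QuadSing19.lin (∑ i, ∑ j, G i j * (Y i * Y j)) l = 0) ∧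
      Matrix.of (VanCyc.quadPart (∑ i, ∑ j, G i j * (Y i * Y j))) =
        sym ((Matrix.of fun i l => QuadSing19.lin (Y i) l)ᵀ * (Matrix.of fun i j => constantCoeff (G i j)) *
          Matrix.of fun i l => QuadSing19.lin (Y i) l) := by
  have hq : ∀ i j, constantCoeff (Y i * Y j) = 0 ∧ ∀ l, QuadSing19.lin (Y i * Y j) l = 0 := fun i j =>
    ⟨by simp [hY], fun l => by rw [QuadSing19.lin, QuadSing19.coeff_single_mul]; simp [hY]⟩
  refine ⟨by simp [map_sum, hY], fun l => ?_, ?_⟩
  · rw [QuadSing19.lin, map_sum]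
    refine Finset.sum_eq_zero fun i _ => ?_
    rw [map_sum]
    refine Finset.sum_eq_zero fun j _ => ?_
    rw [QuadSing19.coeff_single_mul, (hq i j).1, (hq i j).2]
    simp
  · simp only [quadPart_sum]
    have e : ∀ i j, Matrix.of (VanCyc.quadPart (G i j * (Y i * Y j))) =
        sym (constantCoeff (G i j) • vecMulVec (QuadSing19.lin (Y i)) (QuadSing19.lin (Y j))) := fun i j => by
      rw [quadPart_mul_of_noLow _ _ (hq i j).1 (hq i j).2, quadPart_mul _ _ (hY i) (hY j), sym_smul]
    simp only [e]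
    ext a b
    simp only [Matrix.sum_apply, sym, of_apply, Matrix.smul_apply, smul_eq_mul, vecMulVec_apply, Matrix.mul_apply,
      transpose_apply, Finset.sum_mul]
    split_ifs
    · rw [Finset.sum_comm]
      exact Finset.sum_congr rfl fun i _ => Finset.sum_congr rfl fun j _ => by ring
    · simp only [← Finset.sum_add_distrib]
      rw [Finset.sum_comm]
      exact Finset.sum_congr rfl fun i _ => Finset.sum_congr rfl fun j _ => by ring
    · simp

theorem lin_X_matrix : (Matrix.of fun i l => QuadSing19.lin (X i : MvPowerSeries (Fin n) K) l) = 1 := by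
  ext i l
  simp [QuadSing19.lin_X, Pi.single_apply, Matrix.one_apply, eq_comm]

/-- A series without constant and linear terms is quadratic in the variables. -/
theorem exists_expansion_series (f : MvPowerSeries (Fin n) K) (hf : VanCyc.NoLowTerms f) :
    ∃ G : Fin n → Fin n → MvPowerSeries (Fin n) K, f = ∑ i, ∑ j, G i j * (X i * X j) ∧
      Matrix.of (VanCyc.quadPart f) = sym (Matrix.of fun i j => constantCoeff (G i j)) := by
  obtain ⟨q, hq, hq'⟩ := PSIdeal.exists_eq_sum_X_mul hf.1
  choose G hG _ using fun i => PSIdeal.exists_eq_sum_X_mul ((hq' i).trans (hf.2 i))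
  have e : f = ∑ i, ∑ j, G i j * (X i * X j) := by
    rw [hq]
    refine Finset.sum_congr rfl fun i _ => ?_
    rw [hG i, Finset.mul_sum]
    exact Finset.sum_congr rfl fun j _ => by ring
  refine ⟨G, e, ?_⟩
  have h := (quadPart_expansion G (fun i => (X i : MvPowerSeries (Fin n) K)) fun i => constantCoeff_X i).2.2
  rw [← e, lin_X_matrix, transpose_one, Matrix.one_mul, Matrix.mul_one] at h
  exact h

/-- Ordinary quadratic series stay ordinary under coordinate changes and units. -/
theorem ordQuadSeries_map (f : MvPowerSeries (Fin n) K) (hf : VanCyc.OrdQuadSeries f)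
    (Φ : MvPowerSeries (Fin n) K →ₐ[K] MvPowerSeries (Fin n) K) (hΦ : ∀ i, constantCoeff (Φ (X i)) = 0)
    (hL : Function.Injective (Matrix.of fun i j => QuadSing19.lin (Φ (X i)) j).mulVec)
    (c : MvPowerSeries (Fin n) K) (hc : IsUnit c) : VanCyc.OrdQuadSeries (c * Φ f) := by
  obtain ⟨G, hG, hGq⟩ := exists_expansion_series f hf.1
  have hW : OrdTable (Matrix.of fun i j => constantCoeff (G i j)) := by
    rw [← quadOrd_sym_iff, ← hGq]
    exact hf.2
  have hcst : ∀ z, constantCoeff (Φ z) = constantCoeff z := fun z => by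
    conv_lhs => rw [← sub_add_cancel z (C (constantCoeff z)), map_add, c_eq_algebraMap, AlgHom.commutes]
    rw [map_add, (QuadSing19.lin_map Φ hΦ _ (by simp [← c_eq_algebraMap])).1]
    simp [← c_eq_algebraMap]
  have e : c * Φ f = ∑ i, ∑ j, c * Φ (G i j) * (Φ (X i) * Φ (X j)) := by
    rw [hG]
    simp only [map_sum, map_mul, Finset.mul_sum, mul_assoc]
  obtain ⟨h0, h1, h2⟩ := quadPart_expansion (fun i j => c * Φ (G i j)) (fun i => Φ (X i)) hΦ
  rw [← e] at h0 h1 h2
  refine ⟨⟨h0, h1⟩, ?_⟩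
  rw [show VanCyc.quadPart (c * Φ f) = _ from h2]
  refine (quadOrd_sym_iff _).2 ?_
  have h3 : (Matrix.of fun i j => constantCoeff (c * Φ (G i j))) =
      constantCoeff c • Matrix.of fun i j => constantCoeff (G i j) := by
    ext i j
    simp [hcst]
  rw [h3, Matrix.mul_smul, Matrix.smul_mul]
  exact hW.congr _ hL _ (isUnit_iff_constantCoeff.1 hc).ne_zero

/-- Recognition of an ordinary quadratic hypersurface. -/
theorem exists_principal_ord {m : ℕ} {G : Set (MvPowerSeries (Fin m) K)}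
    (hG : ∀ z ∈ Ideal.span G, constantCoeff z = 0 ∧ ∀ i, QuadSing19.lin z i = 0)
    (f : MvPowerSeries (Fin (p + 1)) K) (hf : VanCyc.OrdQuadSeries f)
    (ψ : (MvPowerSeries (Fin (p + 1)) K ⧸ Ideal.span {f}) ≃ₐ[K] (MvPowerSeries (Fin m) K ⧸ Ideal.span G)) :
    m = p + 1 ∧ ∃ g ∈ G, Ideal.span G = Ideal.span {g} ∧ VanCyc.OrdQuadSeries g := by
  have hfne : f ≠ 0 := by
    rintro rfl
    refine one_ne_zero (congrFun (hf.2 (fun _ => (1 : K)) ?_ ?_) 0)
    · simp [VanCyc.quadEval, VanCyc.quadPart]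
    · ext i
      simp [VanCyc.polarMatrix, VanCyc.quadPart, mulVec, dotProduct]
  obtain ⟨hm, g, hgG, hgspan, Φ, c, hc, hgc, hΦ, hL⟩ := exists_principal_data hG f hf.1 hfne ψ
  subst hm
  exact ⟨rfl, g, hgG, hgspan, hgc ▸ ordQuadSeries_map f hf Φ hΦ hL c hc⟩

end Groth.Agent.HensCoord15
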