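import Groth.Agent.Lib.QuadSing19.Hessian
import Groth.Agent.Lib.H2Alg.PSHom
import Groth.Agent.Lib.MulEtale20.Basic
import Mathlib.Algebra.DualNumber
import Mathlib.LinearAlgebra.Matrix.NonsingularInverse

/-!
# An ideal without linear terms cutting out a non-degenerate quadratic hypersurface singularity
-/

set_option autoImplicit false
set_option linter.style.haveILetI false
set_option backward.isDefEq.respectTransparency.types false

universe u

open IsLocalRing MvPowerSeries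

noncomputable section

namespace Groth.Agent.HensCoord15

variable {K : Type u} [Field K]

theorem complete_V (m : ℕ) : IsAdicComplete (H2Alg.PSHom.V m K) (MvPowerSeries (Fin m) K) :=
  { toIsHausdorff := inferInstance, toIsPrecomplete := inferInstance }

theorem complete_dual : IsAdicComplete (RingHom.ker (TrivSqZeroExt.fstHom K K K)) (DualNumber K) := by
  have h : RingHom.ker (TrivSqZeroExt.fstHom K K K) ^ 2 = (⊥ : Ideal (DualNumber K)) := by
    rw [eq_bot_iff, pow_two, Ideal.mul_le]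
    intro a ha b hb
    rw [RingHom.mem_ker, TrivSqZeroExt.fstHom_apply] at ha hb
    rw [Ideal.mem_bot]
    exact TrivSqZeroExt.ext (by simp [ha]) (by simp [ha, hb])
  refine { toIsHausdorff := ⟨fun x hx => ?_⟩, toIsPrecomplete := ⟨fun f hf => ⟨f 2, fun n => ?_⟩⟩ }
  · have h2 := hx 2
    rw [SModEq.zero, smul_eq_mul, Ideal.mul_top, h, Ideal.mem_bot] at h2
    exact h2
  · rcases le_or_gt n 2 with hn | hn
    · exact hf hn
    · have h2 := hf hn.le
      rw [SModEq.sub_mem, smul_eq_mul, Ideal.mul_top, h, Ideal.mem_bot, sub_eq_zero] at h2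
      rw [h2]
      exact SModEq.rfl

variable {p m : ℕ}

/-- The tangent vector `v` of power series. -/
theorem exists_tangent (v : Fin m → K) :
    ∃ τ : MvPowerSeries (Fin m) K →ₐ[K] DualNumber K, (∀ i, τ (X i) = TrivSqZeroExt.inr (v i)) ∧
      ∀ z, constantCoeff z = 0 → τ z = TrivSqZeroExt.inr (∑ i, QuadSing19.lin z i * v i) := by
  haveI := complete_dual (K := K)
  obtain ⟨τ, hτ⟩ := H2Alg.PSHom.exists_algHom (A := K) (RingHom.ker (TrivSqZeroExt.fstHom K K K))
    (fun i : Fin m => (TrivSqZeroExt.inr (v i) : DualNumber K)) fun i => by simp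
  refine ⟨τ, hτ, fun z hz => ?_⟩
  obtain ⟨g, rfl, hg⟩ := PSIdeal.exists_eq_sum_X_mul hz
  rw [map_sum]
  have h : ∀ i, τ (X i * g i) = TrivSqZeroExt.inr (v i * constantCoeff (g i)) := fun i => by
    have h0 : TrivSqZeroExt.fst (τ (g i)) = constantCoeff (g i) := by
      obtain ⟨q, hq, -⟩ := PSIdeal.exists_eq_sum_X_mul
        (show constantCoeff (g i - C (constantCoeff (g i))) = 0 by simp)
      rw [← sub_add_cancel (g i) (C (constantCoeff (g i))), map_add, hq, map_sum, MvPowerSeries.c_eq_algebraMap,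
        AlgHom.commutes, TrivSqZeroExt.fst_add, TrivSqZeroExt.fst_sum]
      simp [hτ, TrivSqZeroExt.algebraMap_eq_inl', ← MvPowerSeries.c_eq_algebraMap]
    rw [map_mul, hτ]
    exact TrivSqZeroExt.ext (by simp) (by simp [h0])
  simp only [h]
  rw [← TrivSqZeroExt.inr_sum]
  exact congrArg _ (Finset.sum_congr rfl fun i _ => by rw [hg, QuadSing19.lin, mul_comm])

theorem constantCoeff_eq_zero_of_not_isUnit_mk {J : Ideal (MvPowerSeries (Fin m) K)} {x : MvPowerSeries (Fin m) K}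
    (h : ¬ IsUnit (Ideal.Quotient.mk J x)) : constantCoeff x = 0 := by
  by_contra hne
  exact h ((isUnit_iff_constantCoeff.2 (isUnit_iff_ne_zero.2 hne)).map _)

/-- A surjection of quotients of power series without linear relations bounds the number of variables. -/
theorem le_of_surjective {I : Ideal (MvPowerSeries (Fin p) K)} {J : Ideal (MvPowerSeries (Fin m) K)}
    (hI : I ≠ ⊤) (hJ : ∀ z ∈ J, constantCoeff z = 0 ∧ ∀ i, QuadSing19.lin z i = 0)
    (ψ : (MvPowerSeries (Fin p) K ⧸ I) →ₐ[K] (MvPowerSeries (Fin m) K ⧸ J)) (hψ : Function.Surjective ψ)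
    (a : Fin p → MvPowerSeries (Fin m) K) (ha : ∀ i, Ideal.Quotient.mk J (a i) = ψ (Ideal.Quotient.mk I (X i)))
    (ha0 : ∀ i, constantCoeff (a i) = 0) :
    Function.Injective (Matrix.of fun i j => QuadSing19.lin (a i) j).mulVec := by
  intro v w hvw
  rw [← sub_eq_zero]
  set d := v - w
  have hd : ∀ i, ∑ j, QuadSing19.lin (a i) j * d j = 0 := fun i => by
    have := congrFun hvw i
    simp only [Matrix.mulVec, dotProduct, Matrix.of_apply] at this
    simp [d, mul_sub, this]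
  haveI := complete_dual (K := K)
  obtain ⟨τ, hτX, hτ⟩ := exists_tangent d
  obtain ⟨τ₀, hτ₀X, hτ₀⟩ := exists_tangent (0 : Fin m → K)
  have hk : ∀ z ∈ J, τ z = 0 := fun z hz => by
    rw [hτ z (hJ z hz).1]; simp [(hJ z hz).2]
  have hk₀ : ∀ z ∈ J, τ₀ z = 0 := fun z hz => by
    rw [hτ₀ z (hJ z hz).1]; simp
  have he : ((Ideal.Quotient.liftₐ J τ hk).comp ψ).comp (Ideal.Quotient.mkₐ K I) =
      ((Ideal.Quotient.liftₐ J τ₀ hk₀).comp ψ).comp (Ideal.Quotient.mkₐ K I) := by
    refine H2Alg.PSHom.algHom_ext (RingHom.ker (TrivSqZeroExt.fstHom K K K)) (fun i => ?_) fun i => ?_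
    · show Ideal.Quotient.liftₐ J τ hk (ψ (Ideal.Quotient.mk I (X i))) ∈ _
      rw [← ha]
      show τ (a i) ∈ _
      rw [hτ _ (ha0 i), hd]
      simp
    · show Ideal.Quotient.liftₐ J τ hk (ψ (Ideal.Quotient.mk I (X i))) =
        Ideal.Quotient.liftₐ J τ₀ hk₀ (ψ (Ideal.Quotient.mk I (X i)))
      rw [← ha]
      show τ (a i) = τ₀ (a i)
      rw [hτ _ (ha0 i), hτ₀ _ (ha0 i), hd]
      simp
  funext j
  obtain ⟨u, hu⟩ := hψ (Ideal.Quotient.mk J (X j))
  obtain ⟨u, rfl⟩ := Ideal.Quotient.mk_surjective u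
  have h := DFunLike.congr_fun he u
  simp only [AlgHom.comp_apply, Ideal.Quotient.mkₐ_eq_mk, hu] at h
  have h' : τ (X j) = τ₀ (X j) := h
  rw [hτX, hτ₀X] at h'
  simpa using congrArg TrivSqZeroExt.snd h'

set_option maxHeartbeats 1000000 in
/-- Recognition of a hypersurface without linear part. -/
theorem exists_principal_data {G : Set (MvPowerSeries (Fin m) K)}
    (hG : ∀ z ∈ Ideal.span G, constantCoeff z = 0 ∧ ∀ i, QuadSing19.lin z i = 0)
    (f : MvPowerSeries (Fin (p + 1)) K) (hf : VanCyc.NoLowTerms f) (hfne : f ≠ 0)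
    (ψ : (MvPowerSeries (Fin (p + 1)) K ⧸ Ideal.span {f}) ≃ₐ[K] (MvPowerSeries (Fin m) K ⧸ Ideal.span G)) :
    m = p + 1 ∧ ∃ g ∈ G, Ideal.span G = Ideal.span {g} ∧
      ∃ (Φ : MvPowerSeries (Fin (p + 1)) K →ₐ[K] MvPowerSeries (Fin m) K) (c : MvPowerSeries (Fin m) K),
        IsUnit c ∧ g = c * Φ f ∧ (∀ i, constantCoeff (Φ (X i)) = 0) ∧
        Function.Injective (Matrix.of fun i j => QuadSing19.lin (Φ (X i)) j).mulVec := by
  classical
  obtain ⟨hf0, hf1⟩ := hf
  have hfI : ∀ z ∈ Ideal.span {f}, constantCoeff z = 0 ∧ ∀ i, QuadSing19.lin z i = 0 := fun z hz => by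
    obtain ⟨c, rfl⟩ := Ideal.mem_span_singleton'.1 hz
    refine ⟨by simp [hf0], fun i => ?_⟩
    rw [QuadSing19.lin, QuadSing19.coeff_single_mul]
    simp [QuadSing19.lin, hf0, hf1 i]
  have hIt : Ideal.span {f} ≠ (⊤ : Ideal (MvPowerSeries (Fin (p + 1)) K)) := fun h => by
    simpa using (hfI 1 (h ▸ trivial)).1
  have hJt : Ideal.span G ≠ ⊤ := fun h => by simpa using (hG 1 (h ▸ trivial)).1
  choose a ha using fun i => Ideal.Quotient.mk_surjective (ψ (Ideal.Quotient.mk _ (X i)))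
  choose b hb using fun j => Ideal.Quotient.mk_surjective (ψ.symm (Ideal.Quotient.mk _ (X j)))
  haveI : Nontrivial (MvPowerSeries (Fin (p + 1)) K ⧸ Ideal.span {f}) := Ideal.Quotient.nontrivial_iff.2 hIt
  haveI : Nontrivial (MvPowerSeries (Fin m) K ⧸ Ideal.span G) := Ideal.Quotient.nontrivial_iff.2 hJt
  haveI : IsLocalRing (MvPowerSeries (Fin (p + 1)) K ⧸ Ideal.span {f}) :=
    IsLocalRing.of_surjective' _ Ideal.Quotient.mk_surjective
  haveI : IsLocalRing (MvPowerSeries (Fin m) K ⧸ Ideal.span G) :=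
    IsLocalRing.of_surjective' _ Ideal.Quotient.mk_surjective
  have hXu : ∀ (q : ℕ) (i : Fin q) (I : Ideal (MvPowerSeries (Fin q) K)),
      (∀ z ∈ I, constantCoeff z = 0) → ¬ IsUnit (Ideal.Quotient.mk I (X i)) := by
    intro q i I hI hu
    obtain ⟨y, hy⟩ := Ideal.Quotient.mk_surjective (hu.unit⁻¹).1
    have h2 : Ideal.Quotient.mk I (X i * y) = Ideal.Quotient.mk I 1 := by
      rw [map_mul, hy, map_one, hu.mul_val_inv]
    simpa using hI _ (Ideal.Quotient.eq.1 h2)
  have ha0 : ∀ i, constantCoeff (a i) = 0 := fun i => constantCoeff_eq_zero_of_not_isUnit_mk (J := Ideal.span G) (by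
    rw [ha, MulEquiv.isUnit_map ψ]; exact hXu _ i _ fun z hz => (hfI z hz).1)
  have hb0 : ∀ j, constantCoeff (b j) = 0 := fun j => constantCoeff_eq_zero_of_not_isUnit_mk (J := Ideal.span {f}) (by
    rw [hb, MulEquiv.isUnit_map ψ.symm]; exact hXu _ j _ fun z hz => (hG z hz).1)
  have hA := le_of_surjective hIt hG ψ.toAlgHom ψ.surjective a ha ha0
  have hB := le_of_surjective hJt hfI ψ.symm.toAlgHom ψ.symm.surjective b hb hb0
  have hm : m = p + 1 := by
    have h1 := LinearMap.finrank_le_finrank_of_injective (f := Matrix.mulVecLin _) hA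
    have h2 := LinearMap.finrank_le_finrank_of_injective (f := Matrix.mulVecLin _) hB
    simp only [Module.finrank_fintype_fun_eq_card, Fintype.card_fin] at h1 h2
    omega
  refine ⟨hm, ?_⟩
  subst hm
  set A : Matrix (Fin (p + 1)) (Fin (p + 1)) K := Matrix.of fun i j => QuadSing19.lin (a i) j
  have hAu : IsUnit A := Matrix.mulVec_injective_iff_isUnit.1 hA
  haveI := complete_V (K := K) (p + 1)
  obtain ⟨Φ, hΦ⟩ := H2Alg.PSHom.exists_algHom (A := K) (H2Alg.PSHom.V (p + 1) K) a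
    fun i => PSIdeal.mem_varIdeal (ha0 i)
  have hV : (H2Alg.PSHom.V (p + 1) K).map Φ = H2Alg.PSHom.V (p + 1) K := by
    refine le_antisymm ?_ ?_
    · rw [H2Alg.PSHom.V, Ideal.map_span, Ideal.span_le]
      rintro _ ⟨_, ⟨i, rfl⟩, rfl⟩
      rw [hΦ]
      exact PSIdeal.mem_varIdeal (ha0 i)
    refine PSIdeal.le_of_le_sup_varIdeal_mul (Submodule.fg_span (Set.finite_range _)) ?_
    refine Ideal.span_le.2 ?_
    rintro _ ⟨l, rfl⟩
    rw [SetLike.mem_coe]
    have hmem : ∑ i, C (A⁻¹ l i) * a i ∈ (H2Alg.PSHom.V (p + 1) K).map Φ := sum_mem fun i _ =>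
      Ideal.mul_mem_left _ _ (by rw [← hΦ]; exact Ideal.mem_map_of_mem _ (H2Alg.PSHom.X_mem i))
    have hd : X l - ∑ i, C (A⁻¹ l i) * a i ∈ PSIdeal.varIdeal (Fin (p + 1)) K ^ 2 := by
      refine PSIdeal.mem_varIdeal_sq (by simp [ha0]) fun j => ?_
      have h1 : ∑ i, A⁻¹ l i * A i j = (1 : Matrix (Fin (p + 1)) (Fin (p + 1)) K) l j := by
        rw [← Matrix.mul_apply, Matrix.nonsing_inv_mul _ ((Matrix.isUnit_iff_isUnit_det A).1 hAu)]
      simp only [A, Matrix.of_apply, QuadSing19.lin] at h1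
      simp only [A]
      rw [map_sub, map_sum, coeff_X]
      simp only [coeff_C_mul]
      erw [h1]
      simp [Matrix.one_apply, Finsupp.single_eq_single_iff, eq_comm]
    show X l ∈ _
    rw [← sub_add_cancel (X l : MvPowerSeries (Fin (p + 1)) K) (∑ i, C (A⁻¹ l i) * a i)]
    refine add_mem (Ideal.mem_sup_right ?_) (Ideal.mem_sup_left hmem)
    rwa [pow_two] at hd
  have hsurj : Function.Surjective Φ := H2Alg.PSHom.surjective Φ (H2Alg.PSHom.V (p + 1) K) hV fun t =>
    ⟨constantCoeff t, PSIdeal.mem_varIdeal (by simp [← c_eq_algebraMap])⟩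
  have hinj : Function.Injective Φ := MulEtale20.injective_of_surjective_endo Φ.toRingHom hsurj
  haveI : IsHausdorff ((H2Alg.PSHom.V (p + 1) K).map (Ideal.Quotient.mk (Ideal.span G)))
      (MvPowerSeries (Fin (p + 1)) K ⧸ Ideal.span G) := by
    rw [← H2Alg.PSHom.maximalIdeal_eq, IsLocalRing.map_maximalIdeal_of_surjective _ Ideal.Quotient.mk_surjective]
    exact IsHausdorff.of_isLocalRing _ _ (IsLocalRing.maximalIdeal.isMaximal _).ne_top
  have hcomp : (Ideal.Quotient.mkₐ K (Ideal.span G)).comp Φ = ψ.toAlgHom.comp (Ideal.Quotient.mkₐ K (Ideal.span {f})) := by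
    refine H2Alg.PSHom.algHom_ext ((H2Alg.PSHom.V (p + 1) K).map (Ideal.Quotient.mk (Ideal.span G))) (fun i => ?_)
      fun i => ?_
    · show Ideal.Quotient.mk _ (Φ (X i)) ∈ _
      rw [hΦ]
      exact Ideal.mem_map_of_mem _ (PSIdeal.mem_varIdeal (ha0 i))
    · show Ideal.Quotient.mk _ (Φ (X i)) = ψ (Ideal.Quotient.mk _ (X i))
      rw [hΦ]; exact ha i
  have hspan : Ideal.span G = Ideal.span {Φ f} := by
    refine le_antisymm (fun z hz => ?_) ((Ideal.span_singleton_le_iff_mem _).2 ?_)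
    · obtain ⟨w, rfl⟩ := hsurj z
      have h : Ideal.Quotient.mk (Ideal.span G) (Φ w) = ψ (Ideal.Quotient.mk _ w) := DFunLike.congr_fun hcomp w
      rw [Ideal.Quotient.eq_zero_iff_mem.2 hz, eq_comm, EmbeddingLike.map_eq_zero_iff,
        Ideal.Quotient.eq_zero_iff_mem, Ideal.mem_span_singleton'] at h
      obtain ⟨c, rfl⟩ := h
      rw [map_mul]
      exact Ideal.mul_mem_left _ _ (Ideal.mem_span_singleton_self _)
    · have h : Ideal.Quotient.mk (Ideal.span G) (Φ f) = ψ (Ideal.Quotient.mk _ f) := DFunLike.congr_fun hcomp f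
      rw [Ideal.Quotient.eq_zero_iff_mem.2 (Ideal.mem_span_singleton_self f), map_zero] at h
      exact Ideal.Quotient.eq_zero_iff_mem.1 h
  obtain ⟨g, hgG, c, hc, hgc⟩ : ∃ g ∈ G, ∃ c, IsUnit c ∧ g = c * Φ f := by
    by_contra hne
    push Not at hne
    have hle : Ideal.span G ≤ Ideal.span {Φ f} * H2Alg.PSHom.V (p + 1) K := Ideal.span_le.2 fun g hg => by
      obtain ⟨c, hc⟩ := Ideal.mem_span_singleton'.1 (hspan ▸ Ideal.subset_span hg)
      rw [SetLike.mem_coe, Ideal.mem_span_singleton_mul]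
      refine ⟨c, ?_, by rw [mul_comm]; exact hc⟩
      rw [← H2Alg.PSHom.maximalIdeal_eq, mem_maximalIdeal]
      exact fun hu => hne g hg c hu hc.symm
    obtain ⟨d, hd, hd'⟩ := Ideal.mem_span_singleton_mul.1
      (hle (hspan ▸ Ideal.mem_span_singleton_self (Φ f)))
    have hu : IsUnit (1 - d) := by
      rw [← H2Alg.PSHom.maximalIdeal_eq] at hd
      exact IsLocalRing.isUnit_one_sub_self_of_mem_nonunits d hd
    have h0 : Φ f = 0 := hu.mul_left_eq_zero.1 (by rw [mul_sub, mul_one, hd', sub_self])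
    exact hfne (hinj (h0.trans (map_zero Φ).symm))
  have hgspan : Ideal.span G = Ideal.span {g} := by rw [hspan, hgc, Ideal.span_singleton_mul_left_unit hc]
  refine ⟨g, hgG, hgspan, Φ, c, hc, hgc, fun i => by rw [hΦ]; exact ha0 i, ?_⟩
  simp only [hΦ]
  exact hA

/-- Recognition of a non-degenerate quadratic hypersurface. -/
theorem exists_principal {G : Set (MvPowerSeries (Fin m) K)}
    (hG : ∀ z ∈ Ideal.span G, constantCoeff z = 0 ∧ ∀ i, QuadSing19.lin z i = 0)
    (f : MvPowerSeries (Fin (p + 1)) K) (hf : VanCyc.NondegQuadSeries f)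
    (ψ : (MvPowerSeries (Fin (p + 1)) K ⧸ Ideal.span {f}) ≃ₐ[K] (MvPowerSeries (Fin m) K ⧸ Ideal.span G)) :
    m = p + 1 ∧ ∃ g ∈ G, Ideal.span G = Ideal.span {g} ∧ IsUnit (QuadSing19.hess g).det := by
  obtain ⟨⟨hf0, hf1⟩, hfq⟩ := hf
  have hfne : f ≠ 0 := by
    rintro rfl
    have hdet : VanCyc.polarMatrix (VanCyc.quadPart (0 : MvPowerSeries (Fin (p + 1)) K)) = 0 := by
      ext i j
      simp [VanCyc.polarMatrix, VanCyc.quadPart]
    rw [VanCyc.QuadNondeg, hdet, Matrix.det_zero] at hfq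
    exact not_isUnit_zero hfq
  obtain ⟨hm, g, hgG, hgspan, -⟩ := exists_principal_data hG f ⟨hf0, hf1⟩ hfne ψ
  subst hm
  refine ⟨rfl, g, hgG, hgspan, ?_⟩
  exact QuadSing19.isUnit_det_hess_of_algEquiv g f (hG g (Ideal.subset_span hgG)).1 (hG g (Ideal.subset_span hgG)).2
    hf0 hf1 (ψ.trans (Ideal.quotientEquivAlgOfEq K hgspan))
    (by rw [QuadSing19.hess_eq_polarMatrix]; exact hfq)

end Groth.Agent.HensCoord15
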