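import Groth.Agent.Lib.HensCoord15.Compl
import Groth.Agent.Lib.HensCoord15.Principal
import Groth.Agent.Lib.HensCoord15.Fibre
import Groth.Agent.Lib.HensCoord15.OrdSeries
import Mathlib.RingTheory.FinitePresentation

/-!
# Henselian hypersurface presentation at a non-degenerate quadratic point
-/

set_option autoImplicit false
set_option linter.style.haveILetI false
set_option backward.isDefEq.respectTransparency.types false

universe u

open IsLocalRing

noncomputable section

namespace Groth.Agent.HensCoord15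

set_option maxHeartbeats 1000000 in
/-- A presentation without linear parts, with the completed geometric fibre. -/
theorem exists_reduced_presentation {A : Type u} [CommRing A] [HenselianLocalRing A]
    {K : Type u} [Field K] [Algebra A K] [IsLocalHom (algebraMap A K)]
    (B₀ : Type u) [CommRing B₀] [Algebra A B₀] [Algebra.FinitePresentation A B₀] (P : Ideal B₀) [P.IsPrime]
    (hPm : ∀ a : A, algebraMap A B₀ a ∈ P ↔ a ∈ maximalIdeal A)
    (hPr : ∀ y : B₀, ∃ a : A, y - algebraMap A B₀ a ∈ P)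
    [Module.Flat A (Localization.AtPrime P)]
    (C : Type u) [CommRing C] [IsLocalRing C] [Algebra (Localization.AtPrime P) C]
    [IsLocalHom (algebraMap (Localization.AtPrime P) C)] [Hensel.IsHenselization (Localization.AtPrime P) C]
    [Algebra A C] [IsScalarTower A (Localization.AtPrime P) C]
    (L : Type u) [CommRing L] [IsLocalRing L] [Algebra K L] [Algebra A L] [IsScalarTower A K L]
    (ι : Localization.AtPrime P →ₐ[A] L) (hι : IsLocalHom ι.toRingHom)
    (hex : ∀ (T : Type u) [CommRing T] [IsLocalRing T] [Algebra K T] (φ : Localization.AtPrime P →+* T), IsLocalHom φ →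
      (∀ a, φ (algebraMap A _ a) = algebraMap K T (algebraMap A K a)) →
      ∃ ψ : L →ₐ[K] T, IsLocalHom ψ.toRingHom ∧ ∀ x, ψ (ι x) = φ x)
    (huniq : ∀ (T : Type u) [CommRing T] [Algebra K T] (f g : L →ₐ[K] T), (∀ x, f (ι x) = g (ι x)) → f = g) :
    ∃ (m : ℕ) (π : H (Fin m) A →ₐ[A] C), Function.Surjective π ∧ (∀ i, π (X i) ∈ maximalIdeal C) ∧
      (RingHom.ker π).FG ∧ (∀ z ∈ RingHom.ker π, Hens.Hs.res z = 0 ∧ ∀ v, lin v z = 0) ∧
      Nonempty (AdicCompletion (maximalIdeal L) L ≃ₐ[K]
        (MvPowerSeries (Fin m) K ⧸ (RingHom.ker π).map (kappa (A := A) (K := K) m))) := by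
  classical
  haveI := hι
  obtain ⟨N, f₀, hf₀, -⟩ := (Algebra.FinitePresentation.out : ∃ (N : ℕ) (f : MvPolynomial (Fin N) A →ₐ[A] B₀),
    Function.Surjective f ∧ (RingHom.ker f.toRingHom).FG)
  choose a ha using fun i => hPr (f₀ (MvPolynomial.X i))
  let π₀ : MvPolynomial (Fin N) A →ₐ[A] B₀ :=
    MvPolynomial.aeval fun i => f₀ (MvPolynomial.X i) - algebraMap A B₀ (a i)
  have hπ₀ : Function.Surjective π₀ := by
    intro b
    obtain ⟨p, rfl⟩ := hf₀ b
    refine ⟨MvPolynomial.aeval (fun i => MvPolynomial.X i + MvPolynomial.C (a i)) p, ?_⟩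
    refine DFunLike.congr_fun (MvPolynomial.algHom_ext (f := π₀.comp (MvPolynomial.aeval _)) (g := f₀) fun i => ?_) p
    simp [π₀]
  have hQ : P.comap π₀ = RingHom.ker (algebraMap (MvPolynomial (Fin N) A) (ResidueField A)) := by
    ext p
    rw [Ideal.mem_comap, RingHom.mem_ker]
    have h : π₀ p - algebraMap A B₀ (MvPolynomial.eval (fun _ => 0) p) ∈ P := by
      induction p using MvPolynomial.induction_on with
      | C c => simp [π₀]
      | add p q hp hq => rw [map_add, map_add, map_add, add_sub_add_comm]; exact add_mem hp hq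
      | mul_X p i hp =>
        rw [map_mul, map_mul, MvPolynomial.eval_X, mul_zero, map_zero, sub_zero]
        refine Ideal.mul_mem_left _ _ ?_
        simpa [π₀] using ha i
    have e : algebraMap (MvPolynomial (Fin N) A) (ResidueField A) p = residue A (MvPolynomial.eval (fun _ => 0) p) := by
      refine RingHom.congr_fun (MvPolynomial.ringHom_ext (f := algebraMap (MvPolynomial (Fin N) A) (ResidueField A))
        (g := (residue A).comp (MvPolynomial.eval fun _ => 0)) (fun c => ?_) fun i => ?_) p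
      · exact (MvPolynomial.eval₂Hom_C _ _ c).trans (by simp)
      · exact (MvPolynomial.eval₂Hom_X' _ _ i).trans (by simp)
    rw [e, residue_eq_zero_iff, ← hPm, ← Submodule.sub_mem_iff_left P h, sub_sub_cancel]
  obtain ⟨p₀, hp₀, -, hp₀X, hker⟩ := exists_presentation B₀ π₀ hπ₀ P hQ C
  have hfg₀ : (RingHom.ker p₀).FG := by
    rw [hker]; exact (Algebra.FinitePresentation.ker_fG_of_surjective π₀ hπ₀).map _
  obtain ⟨m, θ, hθ, hθX, hθk, hθl⟩ := exists_elim N (RingHom.ker p₀) (le_maximalIdeal (RingHom.ker_ne_top p₀))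
  let π₁ : H (Fin m) A →+* C := RingHom.liftOfSurjective θ.toRingHom hθ ⟨p₀.toRingHom, fun z hz => hθk hz⟩
  have hπ₁ : ∀ z, π₁ (θ z) = p₀ z := fun z => RingHom.liftOfSurjective_comp_apply θ.toRingHom hθ _ z
  let π : H (Fin m) A →ₐ[A] C :=
    { π₁ with
      commutes' := fun c => by
        show π₁ (algebraMap A _ c) = _
        rw [← θ.commutes, hπ₁, p₀.commutes] }
  have hπ : Function.Surjective π := fun c => by
    obtain ⟨z, rfl⟩ := hp₀ c
    exact ⟨θ z, hπ₁ z⟩
  have hkerπ : RingHom.ker π = (RingHom.ker p₀).map θ := by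
    refine le_antisymm (fun z hz => ?_) (Ideal.map_le_iff_le_comap.2 fun z hz => ?_)
    · obtain ⟨z, rfl⟩ := hθ z
      exact Ideal.mem_map_of_mem _ (show p₀ z = 0 by rw [← hπ₁]; exact hz)
    · rw [Ideal.mem_comap, RingHom.mem_ker]
      exact (hπ₁ z).trans hz
  haveI : HenselianLocalRing C := Hensel.IsHenselization.henselian (R := Localization.AtPrime P)
  haveI : IsLocalHom π.toRingHom := IsLocalHom.of_surjective _ hπ
  have hπX : ∀ i, π (X i) ∈ maximalIdeal C := fun i => map_nonunit π.toRingHom _ (X_mem i)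
  have hfg : (RingHom.ker π).FG := by rw [hkerπ]; exact hfg₀.map _
  have hlin : ∀ z ∈ RingHom.ker π, Hens.Hs.res z = 0 ∧ ∀ v, lin v z = 0 := fun z hz =>
    ⟨(Hens.Hs.res_eq_zero_iff z).2 (le_maximalIdeal (RingHom.ker_ne_top π) hz), hθl z (hkerπ ▸ hz)⟩
  obtain ⟨E⟩ := exists_completion_iso (K := K) C π hπ hπX L ι hex huniq
  exact ⟨m, π, hπ, hπX, hfg, hlin, ⟨E⟩⟩

set_option maxHeartbeats 1000000 in
/-- A presentation by a single element with non-degenerate Hessian. -/
theorem exists_hypersurface {A : Type u} [CommRing A] [HenselianLocalRing A]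
    {K : Type u} [Field K] [Algebra A K] [IsLocalHom (algebraMap A K)]
    (B₀ : Type u) [CommRing B₀] [Algebra A B₀] [Algebra.FinitePresentation A B₀] (P : Ideal B₀) [P.IsPrime]
    (hPm : ∀ a : A, algebraMap A B₀ a ∈ P ↔ a ∈ maximalIdeal A)
    (hPr : ∀ y : B₀, ∃ a : A, y - algebraMap A B₀ a ∈ P)
    [Module.Flat A (Localization.AtPrime P)]
    (C : Type u) [CommRing C] [IsLocalRing C] [Algebra (Localization.AtPrime P) C]
    [IsLocalHom (algebraMap (Localization.AtPrime P) C)] [Hensel.IsHenselization (Localization.AtPrime P) C]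
    [Algebra A C] [IsScalarTower A (Localization.AtPrime P) C]
    (L : Type u) [CommRing L] [IsLocalRing L] [Algebra K L] [Algebra A L] [IsScalarTower A K L]
    (ι : Localization.AtPrime P →ₐ[A] L) (hι : IsLocalHom ι.toRingHom)
    (hex : ∀ (T : Type u) [CommRing T] [IsLocalRing T] [Algebra K T] (φ : Localization.AtPrime P →+* T), IsLocalHom φ →
      (∀ a, φ (algebraMap A _ a) = algebraMap K T (algebraMap A K a)) →
      ∃ ψ : L →ₐ[K] T, IsLocalHom ψ.toRingHom ∧ ∀ x, ψ (ι x) = φ x)
    (huniq : ∀ (T : Type u) [CommRing T] [Algebra K T] (f g : L →ₐ[K] T), (∀ x, f (ι x) = g (ι x)) → f = g)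
    (n : ℕ) (hq : VanCyc.IsNondegQuadSing K L n) :
    ∃ (F : H (Fin (n + 1)) A) (π : H (Fin (n + 1)) A →ₐ[A] C), Hens.Hs.res F = 0 ∧ (∀ v, lin v F = 0) ∧
      HessNondeg F ∧ Function.Surjective π ∧ (∀ i, π (X i) ∈ maximalIdeal C) ∧ RingHom.ker π = Ideal.span {F} := by
  classical
  obtain ⟨m, π, hπ, hπX, hfg, hlin, ⟨E⟩⟩ := exists_reduced_presentation (K := K) B₀ P hPm hPr C L ι hι hex huniq
  obtain ⟨f, hf, ⟨ψ⟩⟩ := hq
  set G : Set (MvPowerSeries (Fin m) K) := kappa (A := A) (K := K) m '' (RingHom.ker π : Set (H (Fin m) A))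
  have hspanG : (RingHom.ker π).map (kappa (A := A) (K := K) m) = Ideal.span G := rfl
  have hG : ∀ z ∈ Ideal.span G, MvPowerSeries.constantCoeff z = 0 ∧ ∀ i, QuadSing19.lin z i = 0 := by
    intro z hz
    induction hz using Submodule.span_induction with
    | mem x hx =>
      obtain ⟨w, hw, rfl⟩ := hx
      obtain ⟨h1, h2, -⟩ := kappa_facts (K := K) w (hlin w hw).1 (hlin w hw).2
      exact ⟨h1, h2⟩
    | zero => exact ⟨map_zero _, fun i => by simp [QuadSing19.lin]⟩
    | add x y _ _ hx hy => exact ⟨by rw [map_add, hx.1, hy.1, add_zero], fun i => by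
        have e1 := hx.2 i; have e2 := hy.2 i
        simp only [QuadSing19.lin] at e1 e2 ⊢
        rw [map_add, e1, e2, add_zero]⟩
    | smul c x _ hx =>
      refine ⟨by rw [smul_eq_mul, map_mul, hx.1, mul_zero], fun i => ?_⟩
      simp only [smul_eq_mul, QuadSing19.lin]
      rw [QuadSing19.coeff_single_mul, hx.1, hx.2 i]
      simp
  obtain ⟨hm, g, hgG, hgspan, hu⟩ := exists_principal hG f hf
    ((ψ.symm.trans E).trans (Ideal.quotientEquivAlgOfEq K hspanG))
  subst hm
  obtain ⟨F, hF, rfl⟩ := hgG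
  haveI : Module.Flat A C :=
    haveI := Hens.henselization_flat (Localization.AtPrime P) C
    Module.Flat.trans A (Localization.AtPrime P) C
  have hker' := eq_span_singleton (K := K) π hπ hfg F hF (le_maximalIdeal (RingHom.ker_ne_top π) hF)
    (hspanG.trans hgspan)
  obtain ⟨-, -, h3⟩ := kappa_facts (K := K) F (hlin F hF).1 (hlin F hF).2
  exact ⟨F, π, (hlin F hF).1, (hlin F hF).2, h3 hu, hπ, hπX, hker'⟩

set_option maxHeartbeats 1000000 in
/-- A presentation by a single element with ordinary quadratic part. -/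
theorem exists_hypersurface_ord {A : Type u} [CommRing A] [HenselianLocalRing A]
    {K : Type u} [Field K] [Algebra A K] [IsLocalHom (algebraMap A K)]
    (B₀ : Type u) [CommRing B₀] [Algebra A B₀] [Algebra.FinitePresentation A B₀] (P : Ideal B₀) [P.IsPrime]
    (hPm : ∀ a : A, algebraMap A B₀ a ∈ P ↔ a ∈ maximalIdeal A)
    (hPr : ∀ y : B₀, ∃ a : A, y - algebraMap A B₀ a ∈ P)
    [Module.Flat A (Localization.AtPrime P)]
    (C : Type u) [CommRing C] [IsLocalRing C] [Algebra (Localization.AtPrime P) C]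
    [IsLocalHom (algebraMap (Localization.AtPrime P) C)] [Hensel.IsHenselization (Localization.AtPrime P) C]
    [Algebra A C] [IsScalarTower A (Localization.AtPrime P) C]
    (L : Type u) [CommRing L] [IsLocalRing L] [Algebra K L] [Algebra A L] [IsScalarTower A K L]
    (ι : Localization.AtPrime P →ₐ[A] L) (hι : IsLocalHom ι.toRingHom)
    (hex : ∀ (T : Type u) [CommRing T] [IsLocalRing T] [Algebra K T] (φ : Localization.AtPrime P →+* T), IsLocalHom φ →
      (∀ a, φ (algebraMap A _ a) = algebraMap K T (algebraMap A K a)) →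
      ∃ ψ : L →ₐ[K] T, IsLocalHom ψ.toRingHom ∧ ∀ x, ψ (ι x) = φ x)
    (huniq : ∀ (T : Type u) [CommRing T] [Algebra K T] (f g : L →ₐ[K] T), (∀ x, f (ι x) = g (ι x)) → f = g)
    (n : ℕ) (hq : VanCyc.IsOrdQuadSing K L n) :
    ∃ (F : H (Fin (n + 1)) A) (π : H (Fin (n + 1)) A →ₐ[A] C), VanCyc.OrdQuadSeries (kappa (K := K) (n + 1) F) ∧
      Function.Surjective π ∧ (∀ i, π (X i) ∈ maximalIdeal C) ∧ RingHom.ker π = Ideal.span {F} := by
  classical
  obtain ⟨m, π, hπ, hπX, hfg, hlin, ⟨E⟩⟩ := exists_reduced_presentation (K := K) B₀ P hPm hPr C L ι hι hex huniq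
  obtain ⟨f, hf, ⟨ψ⟩⟩ := hq
  set G : Set (MvPowerSeries (Fin m) K) := kappa (A := A) (K := K) m '' (RingHom.ker π : Set (H (Fin m) A))
  have hspanG : (RingHom.ker π).map (kappa (A := A) (K := K) m) = Ideal.span G := rfl
  have hG : ∀ z ∈ Ideal.span G, MvPowerSeries.constantCoeff z = 0 ∧ ∀ i, QuadSing19.lin z i = 0 := by
    intro z hz
    induction hz using Submodule.span_induction with
    | mem x hx =>
      obtain ⟨w, hw, rfl⟩ := hx
      obtain ⟨h1, h2, -⟩ := kappa_facts (K := K) w (hlin w hw).1 (hlin w hw).2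
      exact ⟨h1, h2⟩
    | zero => exact ⟨map_zero _, fun i => by simp [QuadSing19.lin]⟩
    | add x y _ _ hx hy => exact ⟨by rw [map_add, hx.1, hy.1, add_zero], fun i => by
        have e1 := hx.2 i; have e2 := hy.2 i
        simp only [QuadSing19.lin] at e1 e2 ⊢
        rw [map_add, e1, e2, add_zero]⟩
    | smul c x _ hx =>
      refine ⟨by rw [smul_eq_mul, map_mul, hx.1, mul_zero], fun i => ?_⟩
      simp only [smul_eq_mul, QuadSing19.lin]
      rw [QuadSing19.coeff_single_mul, hx.1, hx.2 i]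
      simp
  obtain ⟨hm, g, hgG, hgspan, hu⟩ := exists_principal_ord hG f hf
    ((ψ.symm.trans E).trans (Ideal.quotientEquivAlgOfEq K hspanG))
  subst hm
  obtain ⟨F, hF, rfl⟩ := hgG
  haveI : Module.Flat A C :=
    haveI := Hens.henselization_flat (Localization.AtPrime P) C
    Module.Flat.trans A (Localization.AtPrime P) C
  have hker' := eq_span_singleton (K := K) π hπ hfg F hF (le_maximalIdeal (RingHom.ker_ne_top π) hF)
    (hspanG.trans hgspan)
  exact ⟨F, π, hu, hπ, hπX, hker'⟩

end Groth.Agent.HensCoord15
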