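import Groth.Agent.Lib.HensCoord15.Inv
import Groth.Agent.Lib.HensCoord15.Sym

/-!
# The Morse lemma in `A{x}`
-/

set_option autoImplicit false
set_option linter.style.haveILetI false
set_option backward.isDefEq.respectTransparency.types false

universe u

open IsLocalRing

noncomputable section

namespace Groth.Agent.HensCoord15

variable {σ : Type} {A : Type u} [CommRing A] [IsLocalRing A]

instance : HenselianLocalRing (DualNumber (DualNumber (ResidueField A))) :=
  isLocalRing_of_nilpotent (k := ResidueField A) fun z => ⟨TrivSqZeroExt.fst (TrivSqZeroExt.fst z), ⟨3, by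
    have hc : ∀ c : ResidueField A, algebraMap (ResidueField A) (DualNumber (DualNumber (ResidueField A))) c =
        TrivSqZeroExt.inl (TrivSqZeroExt.inl c) := fun c => rfl
    rw [hc, pow_succ, pow_succ, pow_one]
    refine TrivSqZeroExt.ext (TrivSqZeroExt.ext ?_ ?_) (TrivSqZeroExt.ext ?_ ?_) <;> simp⟩⟩

instance : IsLocalRing (DualNumber (DualNumber (ResidueField A))) :=
  (inferInstance : HenselianLocalRing (DualNumber (DualNumber (ResidueField A)))).toIsLocalRing

/-- The double tangent reduction to the residue field. -/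
def fst₂ : DualNumber (DualNumber (ResidueField A)) →ₐ[A] ResidueField A :=
  ((TrivSqZeroExt.fstHom (ResidueField A) (ResidueField A) (ResidueField A)).restrictScalars A).comp
    ((TrivSqZeroExt.fstHom (DualNumber (ResidueField A)) (DualNumber (ResidueField A))
      (DualNumber (ResidueField A))).restrictScalars A)

instance : IsLocalHom (algebraMap A (DualNumber (DualNumber (ResidueField A)))) where
  map_nonunit a ha := by
    have h := RingHom.isUnit_map (fst₂ (A := A)).toRingHom ha
    change IsUnit (fst₂ (algebraMap A _ a)) at h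
    rw [AlgHom.commutes] at h
    exact residue_ne_zero_iff_isUnit a |>.1 (isUnit_iff_ne_zero.1 h)

theorem mem_of_fst₂ {z : DualNumber (DualNumber (ResidueField A))} (h : fst₂ z = 0) :
    z ∈ maximalIdeal (DualNumber (DualNumber (ResidueField A))) :=
  (mem_maximalIdeal _).2 fun hu => by
    have h' : IsUnit (fst₂ z) := RingHom.isUnit_map (fst₂ (A := A)).toRingHom hu
    simp [h] at h'

/-- Two tangent vectors at the origin. -/
def dual₂ (v w : σ → ResidueField A) : H σ A →ₐ[A] DualNumber (DualNumber (ResidueField A)) :=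
  lift (T := DualNumber (DualNumber (ResidueField A)))
    (fun i => TrivSqZeroExt.inl (TrivSqZeroExt.inr (v i)) + TrivSqZeroExt.inr (TrivSqZeroExt.inl (w i)))
    fun i => mem_of_fst₂ (by simp [fst₂])

/-- The Hessian pairing. -/
def hess (v w : σ → ResidueField A) (z : H σ A) : ResidueField A :=
  TrivSqZeroExt.snd (TrivSqZeroExt.snd (dual₂ v w z))

theorem fst_fst_dual₂ (v w : σ → ResidueField A) (z : H σ A) :
    TrivSqZeroExt.fst (TrivSqZeroExt.fst (dual₂ v w z)) = Hens.Hs.res z := by
  haveI := isLocalHom_residue (A := A)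
  have h : fst₂.comp (dual₂ v w) = resA := by
    refine hom_ext (fun i => ?_) fun i => ?_ <;> simp [dual₂, fst₂, res_X]
  exact DFunLike.congr_fun h z

theorem hess_add (v w : σ → ResidueField A) (a b : H σ A) : hess v w (a + b) = hess v w a + hess v w b := by
  simp [hess]

theorem hess_sum (v w : σ → ResidueField A) {ι : Type*} (s : Finset ι) (f : ι → H σ A) :
    hess v w (∑ i ∈ s, f i) = ∑ i ∈ s, hess v w (f i) := by
  classical
  induction s using Finset.induction with
  | empty => simp [hess]
  | insert i s hi ih => rw [Finset.sum_insert hi, Finset.sum_insert hi, hess_add, ih]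

theorem hess_algebraMap (v w : σ → ResidueField A) (a : A) : hess v w (algebraMap A _ a) = 0 := by
  have hc : algebraMap A (DualNumber (DualNumber (ResidueField A))) a =
      TrivSqZeroExt.inl (algebraMap A (DualNumber (ResidueField A)) a) := rfl
  rw [hess, AlgHom.commutes, hc]
  simp

theorem hess_algebraMap_mul_X (v w : σ → ResidueField A) (a : A) (i : σ) :
    hess v w (algebraMap A _ a * X i) = 0 := by
  have hc : algebraMap A (DualNumber (DualNumber (ResidueField A))) a =
      TrivSqZeroExt.inl (TrivSqZeroExt.inl (residue A a)) := rfl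
  rw [hess, map_mul, AlgHom.commutes, hc]
  simp [dual₂]

theorem hess_mul_X_X (v w : σ → ResidueField A) (c : H σ A) (i j : σ) :
    hess v w (c * X i * X j) = Hens.Hs.res c * (v i * w j + w i * v j) := by
  rw [hess, map_mul, map_mul, ← fst_fst_dual₂ v w c]
  simp only [dual₂, lift_X]
  simp
  ring

variable [HenselianLocalRing A]

theorem not_isUnit_X (i : σ) : ¬ IsUnit (X i : H σ A) :=
  (mem_maximalIdeal _).1 (X_mem i)

theorem lin_sum (v : σ → ResidueField A) {ι : Type*} (s : Finset ι) (f : ι → H σ A) :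
    lin v (∑ i ∈ s, f i) = ∑ i ∈ s, lin v (f i) := by
  classical
  induction s using Finset.induction with
  | empty => simp [lin]
  | insert i s hi ih => rw [Finset.sum_insert hi, Finset.sum_insert hi, lin_add, ih]

variable [Fintype σ]

/-- Second-order expansion at the origin. -/
theorem exists_expansion₂ (F : H σ A) :
    ∃ (l : σ → A) (h : σ → σ → H σ A), F = algebraMap A _ (ev₀ σ A F) + ∑ i, algebraMap A _ (l i) * X i +
      ∑ i, ∑ j, h i j * X i * X j := by
  obtain ⟨g, hg⟩ := exists_eq_add_sum F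
  choose h hh using fun i => exists_eq_add_sum (g i)
  refine ⟨fun i => ev₀ σ A (g i), h, ?_⟩
  conv_lhs => rw [hg]
  rw [add_assoc, ← Finset.sum_add_distrib]
  refine congrArg₂ (· + ·) rfl (Finset.sum_congr rfl fun i _ => ?_)
  conv_lhs => rw [hh i]
  rw [mul_add, Finset.mul_sum]
  exact congrArg₂ (· + ·) (mul_comm _ _) (Finset.sum_congr rfl fun j _ => by ring)

theorem lin_expansion (v : σ → ResidueField A) (b : A) (l : σ → A) (h : σ → σ → H σ A) :
    lin v (algebraMap A _ b + ∑ i, algebraMap A _ (l i) * X i + ∑ i, ∑ j, h i j * X i * X j) =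
      ∑ i, residue A (l i) * v i := by
  simp [lin_add, lin_sum, lin_mul, lin_algebraMap, res_X, res_algebraMap]

theorem hess_expansion (v w : σ → ResidueField A) (b : A) (l : σ → A) (h : σ → σ → H σ A) :
    hess v w (algebraMap A _ b + ∑ i, algebraMap A _ (l i) * X i + ∑ i, ∑ j, h i j * X i * X j) =
      ∑ i, ∑ j, Hens.Hs.res (h i j) * (v i * w j + w i * v j) := by
  simp only [hess_add, hess_sum, hess_algebraMap, hess_algebraMap_mul_X, hess_mul_X_X]
  simp

/-- The Hessian pairing of `F` is non-degenerate. -/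
def HessNondeg (F : H σ A) : Prop :=
  ∀ v, (∀ w, hess v w F = 0) → v = 0

set_option maxHeartbeats 1000000 in
/-- Moving the critical point to the origin. -/
theorem exists_critical (F : H σ A) (hl : ∀ v, lin v F = 0) (hF : HessNondeg F) :
    ∃ (θ : H σ A ≃ₐ[A] H σ A) (h : σ → σ → H σ A),
      θ F = algebraMap A _ (ev₀ σ A (θ F)) + ∑ i, ∑ j, h i j * X i * X j ∧
      (∀ v w, hess v w (θ F) = hess v w F) := by
  classical
  obtain ⟨l, h, hFe⟩ := exists_expansion₂ F
  set b := ev₀ σ A F with hb
  have hlm : ∀ i, l i ∈ maximalIdeal A := fun i => by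
    have := hl (Pi.single i 1)
    rw [hFe, lin_expansion] at this
    simpa [Pi.single_apply, residue_eq_zero_iff] using this
  let x : σ → (H (σ ⊕ σ) A) := fun i => X (Sum.inl i)
  let u : σ → (H (σ ⊕ σ) A) := fun i => X (Sum.inr i)
  have hxm : ∀ i, x i ∈ maximalIdeal (H (σ ⊕ σ) A) := fun i => X_mem _
  let τ : H σ A →ₐ[A] (H (σ ⊕ σ) A) := lift (fun i => x i + u i) fun i => add_mem (X_mem _) (X_mem _)
  let ι : H σ A →ₐ[A] (H (σ ⊕ σ) A) := lift x hxm
  let r : (H (σ ⊕ σ) A) →ₐ[A] H σ A := lift (Sum.elim X fun _ => 0) (by rintro (i | i) <;> simp [X_mem, not_isUnit_X])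
  have hrι : ∀ z, r (ι z) = z := fun z => DFunLike.congr_fun
    (hom_ext (f := r.comp ι) (g := AlgHom.id A _) (fun i => by simp [r, ι, x]) fun i => by simp [r, ι, x, X_mem, not_isUnit_X]) z
  have hq : ∀ z, ∃ q : σ → (H (σ ⊕ σ) A), τ z - ι z = ∑ k, u k * q k := fun z => by
    have h1 : τ z - ι z ∈ Ideal.span (Set.range u) := sub_mem τ ι _
      (fun i => by simpa [τ, ι] using Ideal.subset_span (Set.mem_range_self i))
      (fun i => by simpa [τ] using add_mem (hxm i) (X_mem _)) z
    obtain ⟨q, hq⟩ := Ideal.mem_span_range_iff_exists_fun.1 h1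
    exact ⟨q, hq.symm.trans (Finset.sum_congr rfl fun k _ => mul_comm _ _)⟩
  choose q hq using fun i j => hq (h i j)
  let Gt : σ → (H (σ ⊕ σ) A) := fun k => algebraMap A _ (l k) + ∑ i, ∑ j, q i j k * (x i + u i) * (x j + u j) +
    ∑ j, ι (h k j) * (x j + u j) + ∑ i, ι (h i k) * x i
  have hdiff : τ F - ι F = ∑ k, u k * Gt k := by
    have e1 : τ F - ι F = ∑ i, algebraMap A _ (l i) * u i +
        ∑ i, ∑ j, (τ (h i j) * (x i + u i) * (x j + u j) - ι (h i j) * x i * x j) := by
      rw [hFe]
      simp only [map_add, map_sum, map_mul, AlgHom.commutes, Finset.sum_sub_distrib, τ, ι, lift_X, mul_add,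
        Finset.sum_add_distrib]
      abel
    have e2 : ∀ i j, τ (h i j) * (x i + u i) * (x j + u j) - ι (h i j) * x i * x j =
        (∑ k, u k * q i j k) * (x i + u i) * (x j + u j) + u i * (ι (h i j) * (x j + u j)) +
          u j * (ι (h i j) * x i) := fun i j => by
      rw [← hq i j]; ring
    rw [e1, Finset.sum_congr rfl fun i _ => Finset.sum_congr rfl fun j _ => e2 i j]
    have s1 : ∑ i, ∑ j, (∑ k, u k * q i j k) * (x i + u i) * (x j + u j) =
        ∑ k, u k * ∑ i, ∑ j, q i j k * (x i + u i) * (x j + u j) := by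
      simp only [Finset.mul_sum, Finset.sum_mul]
      refine ((Finset.sum_congr rfl fun i _ => Finset.sum_comm).trans Finset.sum_comm).trans ?_
      exact Finset.sum_congr rfl fun k _ => Finset.sum_congr rfl fun i _ => Finset.sum_congr rfl fun j _ => by ring
    have s2 : ∑ i, ∑ j, u i * (ι (h i j) * (x j + u j)) = ∑ k, u k * ∑ j, ι (h k j) * (x j + u j) := by
      simp only [Finset.mul_sum]
    have s3 : ∑ i, ∑ j, u j * (ι (h i j) * x i) = ∑ k, u k * ∑ i, ι (h i k) * x i := by
      simp only [Finset.mul_sum]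
      exact Finset.sum_comm
    simp only [Finset.sum_add_distrib, s1, s2, s3]
    simp only [← Finset.sum_add_distrib, Gt]
    exact Finset.sum_congr rfl fun k _ => by ring
  let G : σ → H σ A := fun k => r (Gt k)
  have hlin : ∀ v k, lin v (G k) = ∑ j, (Hens.Hs.res (h k j) + Hens.Hs.res (h j k)) * v j := fun v k => by
    simp [G, Gt, map_sum, hrι, r, x, u, lin_add, lin_sum, lin_mul, lin_algebraMap, res_X, add_mul,
      Finset.sum_add_distrib]
  have hres : ∀ k, Hens.Hs.res (G k) = 0 := fun k => by
    simp [G, Gt, map_sum, hrι, r, x, u, res_X, res_algebraMap, residue_eq_zero_iff, hlm]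
  have hGm : ∀ k, G k ∈ maximalIdeal (H σ A) := fun k => (Hens.Hs.res_eq_zero_iff _).1 (hres k)
  have hGinj : ∀ v, (∀ k, lin v (G k) = 0) → v = 0 := fun v hv => hF v fun w => by
    rw [hFe, hess_expansion]
    calc ∑ i, ∑ j, Hens.Hs.res (h i j) * (v i * w j + w i * v j)
        = ∑ i, ∑ j, Hens.Hs.res (h i j) * (v j * w i) + ∑ i, ∑ j, Hens.Hs.res (h j i) * (v j * w i) := by
          rw [Finset.sum_comm (f := fun i j => Hens.Hs.res (h j i) * (v j * w i)), ← Finset.sum_add_distrib]
          refine Finset.sum_congr rfl fun i _ => ?_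
          rw [← Finset.sum_add_distrib]
          exact Finset.sum_congr rfl fun j _ => by ring
      _ = ∑ k, lin v (G k) * w k := by
          simp only [hlin, Finset.sum_mul, ← Finset.sum_add_distrib]
          exact Finset.sum_congr rfl fun i _ => Finset.sum_congr rfl fun j _ => by ring
      _ = 0 := by simp [hv]
  let e := AlgEquiv.ofBijective (lift (A := A) G hGm) (bijective_lift G hGm hGinj)
  let ψ : H σ A →ₐ[A] A := (ev₀ σ A).comp e.symm.toAlgHom
  have hψm : ∀ z ∈ maximalIdeal (H σ A), ψ z ∈ maximalIdeal A := fun z hz => by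
    refine map_mem_maximalIdeal (ev₀ σ A) (fun i => by simp) ?_
    rw [mem_maximalIdeal, mem_nonunits_iff] at hz ⊢
    exact fun hu => hz (by simpa using hu.map e)
  have hψG : ∀ k, ψ (G k) = 0 := fun k => by
    show ev₀ σ A (e.symm (G k)) = 0
    rw [show G k = e (X k) from (lift_X G hGm k).symm, AlgEquiv.symm_apply_apply, ev₀_X]
  let t : σ → A := fun i => ψ (X i)
  have htm : ∀ i, t i ∈ maximalIdeal A := fun i => hψm _ (X_mem i)
  let T : σ → H σ A := fun i => algebraMap A _ (t i)
  have hTm : ∀ i, T i ∈ maximalIdeal (H σ A) := fun i => map_nonunit (algebraMap A (H σ A)) _ (htm i)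
  let ε : (H (σ ⊕ σ) A) →ₐ[A] H σ A := lift (Sum.elim T fun i => X i - T i) (by
    rintro (i | i)
    · exact hTm i
    · exact Ideal.sub_mem _ (X_mem i) (hTm i))
  have hετ : ∀ z, ε (τ z) = z := fun z => DFunLike.congr_fun
    (hom_ext (f := ε.comp τ) (g := AlgHom.id A _) (fun i => by simp [ε, τ, x, u])
      fun i => by simp [ε, τ, x, u, X_mem, not_isUnit_X]) z
  have hει : ∀ z, ε (ι z) = algebraMap A _ (ψ z) := fun z => DFunLike.congr_fun
    (hom_ext (f := ε.comp ι) (g := (Algebra.ofId A _).comp ψ) (fun i => by simp [ε, ι, x, T, t])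
      fun i => by simp [ε, ι, x, hTm i]) z
  have hεGt : ∀ k, ε (Gt k) ∈ Ideal.span (Set.range fun i => X i - T i) := fun k => by
    have h1 := sub_mem ε ((Algebra.ofId A _).comp (ψ.comp r)) (Ideal.span (Set.range fun i => X i - T i))
      (by
        rintro (i | i)
        · simp [ε, r, T, t]
        · simpa [ε, r] using Ideal.subset_span (Set.mem_range_self i))
      (by
        rintro (i | i)
        · simpa [ε] using hTm i
        · simpa [ε] using Ideal.sub_mem _ (X_mem i) (hTm i)) (Gt k)
    simpa [show ψ (r (Gt k)) = 0 from hψG k] using h1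
  choose h' hh' using fun k => Ideal.mem_span_range_iff_exists_fun.1 (hεGt k)
  let θ : H σ A →ₐ[A] H σ A := lift (fun i => X i + T i) fun i => add_mem (X_mem i) (hTm i)
  let θ' : H σ A →ₐ[A] H σ A := lift (fun i => X i - T i) fun i => Ideal.sub_mem _ (X_mem i) (hTm i)
  let Θ : H σ A ≃ₐ[A] H σ A := AlgEquiv.ofAlgHom θ θ'
    (hom_ext (fun i => by simp [θ, θ', T]) fun i => by simp [θ, θ', T, X_mem, not_isUnit_X])
    (hom_ext (fun i => by simp [θ, θ', T]) fun i => by simp [θ, θ', T, X_mem, not_isUnit_X])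
  have hΘF : θ F = algebraMap A _ (ψ F) + ∑ i, ∑ j, θ (h' i j) * X i * X j := by
    have e1 : F = algebraMap A _ (ψ F) + ∑ k, ∑ j, h' k j * (X k - T k) * (X j - T j) := by
      have := congrArg ε hdiff
      rw [map_sub, hετ, hει, sub_eq_iff_eq_add', map_sum] at this
      refine this.trans (congrArg₂ (· + ·) rfl (Finset.sum_congr rfl fun k _ => ?_))
      rw [map_mul, ← hh' k, Finset.mul_sum]
      simp only [ε, u, lift_X, Sum.elim_inr]
      exact Finset.sum_congr rfl fun j _ => by ring
    conv_lhs => rw [e1]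
    simp [map_sum, θ, T]
  refine ⟨Θ, fun i j => θ (h' i j), ?_, fun v w => ?_⟩
  · show θ F = algebraMap A _ (ev₀ σ A (θ F)) + _
    have : ev₀ σ A (θ F) = ψ F := by rw [hΘF]; simp [map_sum]
    rw [this]; exact hΘF
  · show TrivSqZeroExt.snd (TrivSqZeroExt.snd ((dual₂ v w).comp θ F)) = _
    have ht0 : ∀ i, algebraMap A (DualNumber (DualNumber (ResidueField A))) (t i) = 0 := fun i => by
      rw [IsScalarTower.algebraMap_apply A (ResidueField A),
        show algebraMap A (ResidueField A) (t i) = 0 from (residue_eq_zero_iff _).2 (htm i), map_zero]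
    have hc : (dual₂ v w).comp θ = dual₂ v w := by
      refine hom_ext (σ := σ) (A := A) (T := DualNumber (DualNumber (ResidueField A))) (fun i => ?_) fun i => ?_
      · show dual₂ v w (θ (X i)) = dual₂ v w (X i)
        rw [lift_X, map_add, AlgHom.commutes, ht0, add_zero]
      · show dual₂ v w (θ (X i)) ∈ _
        rw [lift_X, map_add, AlgHom.commutes, ht0, add_zero]
        exact map_mem_maximalIdeal _ (fun j => by rw [dual₂, lift_X]; exact mem_of_fst₂ (by simp [fst₂])) (X_mem i)
    rw [hc]
    rfl

end Groth.Agent.HensCoord15
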