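import Groth.Agent.Lib.HensCoord15.Elim
import Groth.Agent.Lib.HensCoord15.Morse
import Groth.Agent.Lib.QuadSing19.Hessian
import Groth.Agent.Lib.H2Alg.PSHom
import Mathlib.RingTheory.AdicCompletion.Noetherian
import Mathlib.RingTheory.Henselian

/-!
# From `A{x}` to power series over a field over the residue field
-/

set_option autoImplicit false
set_option linter.style.haveILetI false
set_option backward.isDefEq.respectTransparency.types false

universe u

open IsLocalRing

noncomputable section

namespace Groth.Agent.HensCoord15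

variable {K : Type u} [Field K]

instance instCompleteSeries (m : ℕ) :
    IsAdicComplete (maximalIdeal (MvPowerSeries (Fin m) K)) (MvPowerSeries (Fin m) K) := by
  rw [H2Alg.PSHom.maximalIdeal_eq]
  exact { toIsHausdorff := inferInstance, toIsPrecomplete := inferInstance }

instance instHenselianSeries (m : ℕ) : HenselianLocalRing (MvPowerSeries (Fin m) K) :=
  Hens.henselianLocalRing_iff.2 (IsAdicComplete.henselianRing _ _)

variable {A : Type u} [CommRing A] [IsLocalRing A] [Algebra A K] [IsLocalHom (algebraMap A K)]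

instance instIsLocalHomSeries (m : ℕ) : IsLocalHom (algebraMap A (MvPowerSeries (Fin m) K)) where
  map_nonunit a ha := by
    have h := ha.map (MvPowerSeries.constantCoeff (σ := Fin m) (R := K))
    rw [MvPowerSeries.algebraMap_apply, MvPowerSeries.constantCoeff_C] at h
    exact IsLocalHom.map_nonunit a h

/-- The expansion map `A{x} → K[[x]]`. -/
def kappa (m : ℕ) : H (Fin m) A →ₐ[A] MvPowerSeries (Fin m) K :=
  lift (fun i => MvPowerSeries.X i) fun i => by
    rw [H2Alg.PSHom.maximalIdeal_eq]; exact H2Alg.PSHom.X_mem i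

@[simp]
theorem kappa_X {m : ℕ} (i : Fin m) : kappa (A := A) (K := K) m (X i) = MvPowerSeries.X i := lift_X _ _ i

theorem constantCoeff_kappa {m : ℕ} (z : H (Fin m) A) (a : A)
    (ha : Hens.Hs.res z = residue A a) : MvPowerSeries.constantCoeff (kappa (K := K) m z) = algebraMap A K a := by
  have h : z - algebraMap A _ a ∈ maximalIdeal (H (Fin m) A) := by
    rw [← Hens.Hs.res_eq_zero_iff, map_sub, res_algebraMap, ha, sub_self]
  have h' := map_mem_maximalIdeal (kappa (A := A) (K := K) m) (fun i => by
    rw [kappa_X, H2Alg.PSHom.maximalIdeal_eq]; exact H2Alg.PSHom.X_mem i) h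
  rw [H2Alg.PSHom.maximalIdeal_eq] at h'
  have h'' := PSIdeal.constantCoeff_of_mem (f := kappa (A := A) (K := K) m (z - algebraMap A _ a)) h'
  rwa [map_sub, map_sub, AlgHom.commutes, MvPowerSeries.algebraMap_apply, MvPowerSeries.constantCoeff_C,
    sub_eq_zero] at h''

theorem res_eq_zero_of_kappa {m : ℕ} (z : H (Fin m) A)
    (h : MvPowerSeries.constantCoeff (kappa (K := K) m z) = 0) : Hens.Hs.res z = 0 := by
  obtain ⟨a, ha⟩ := exists_algebraMap_residue z
  rw [constantCoeff_kappa z a ha] at h
  rw [ha, residue_eq_zero_iff, mem_maximalIdeal]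
  exact fun hu => (hu.map (algebraMap A K)).ne_zero h

variable [HenselianLocalRing A]

theorem residue_ev₀ {σ : Type} (z : H σ A) : residue A (ev₀ σ A z) = Hens.Hs.res z := by
  haveI := isLocalHom_residue (A := A)
  have h : (IsScalarTower.toAlgHom A A (ResidueField A)).comp (ev₀ σ A) = resA := by
    refine hom_ext (fun i => ?_) fun i => ?_ <;> simp [res_X]
  exact DFunLike.congr_fun h z

open MvPowerSeries (constantCoeff) in
/-- Expansions of elements without linear part. -/
theorem kappa_facts {m : ℕ} (z : H (Fin m) A) (hz : Hens.Hs.res z = 0) (hl : ∀ v, lin v z = 0) :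
    constantCoeff (kappa (K := K) m z) = 0 ∧ (∀ i, QuadSing19.lin (kappa (K := K) m z) i = 0) ∧
      (IsUnit (QuadSing19.hess (kappa (K := K) m z)).det → HessNondeg z) := by
  classical
  have h0 : constantCoeff (kappa (K := K) m z) = 0 := by
    rw [constantCoeff_kappa z 0 (by rw [hz, map_zero]), map_zero]
  obtain ⟨l, h, hzx⟩ := exists_expansion₂ z
  set b := ev₀ (Fin m) A z
  have hl0 : ∀ i, algebraMap A K (l i) = 0 := fun i => by
    have h1 := hl (Pi.single i 1)
    rw [hzx, lin_expansion] at h1
    have h2 : l i ∈ maximalIdeal A := by simpa [Pi.single_apply, residue_eq_zero_iff] using h1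
    by_contra hne
    exact (mem_maximalIdeal _).1 h2 (IsLocalHom.map_nonunit (f := algebraMap A K) _ (isUnit_iff_ne_zero.2 hne))
  have hb0 : algebraMap A K b = 0 := by
    have h1 : residue A b = 0 := by rw [residue_ev₀, hz]
    rw [residue_eq_zero_iff] at h1
    by_contra hne
    exact (mem_maximalIdeal _).1 h1 (IsLocalHom.map_nonunit (f := algebraMap A K) _ (isUnit_iff_ne_zero.2 hne))
  let G : Fin m → Fin m → MvPowerSeries (Fin m) K := fun i j => kappa m (h i j)
  have hk : kappa (K := K) m z = ∑ i, ∑ j, G i j * (MvPowerSeries.X i * MvPowerSeries.X j) := by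
    rw [hzx]
    simp [map_sum, MvPowerSeries.algebraMap_apply, hb0, hl0, G, mul_assoc]
  have hq : ∀ i j, constantCoeff (MvPowerSeries.X i * MvPowerSeries.X j : MvPowerSeries (Fin m) K) = 0 ∧
      ∀ l, QuadSing19.lin (MvPowerSeries.X i * MvPowerSeries.X j : MvPowerSeries (Fin m) K) l = 0 := fun i j => ⟨by simp, fun l => by
    rw [QuadSing19.lin, QuadSing19.coeff_single_mul]; simp⟩
  refine ⟨h0, fun i => ?_, fun hu v hv => ?_⟩
  · rw [hk, QuadSing19.lin, map_sum]
    refine Finset.sum_eq_zero fun a _ => ?_
    rw [map_sum]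
    refine Finset.sum_eq_zero fun c _ => ?_
    rw [QuadSing19.coeff_single_mul, (hq a c).1, (hq a c).2]
    simp
  choose r hr using fun i j => exists_algebraMap_residue (h i j)
  let M : Matrix (Fin m) (Fin m) A := Matrix.of fun i j => r i j + r j i
  have hH : QuadSing19.hess (kappa (K := K) m z) = M.map (algebraMap A K) := by
    rw [hk, QuadSing19.hess_sum]
    simp only [QuadSing19.hess_sum]
    have e : ∀ i j, QuadSing19.hess (G i j * (MvPowerSeries.X i * MvPowerSeries.X j)) =
        algebraMap A K (r i j) • (Matrix.vecMulVec (Pi.single i 1) (Pi.single j 1) +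
          Matrix.vecMulVec (Pi.single j 1) (Pi.single i 1)) := fun i j => by
      rw [QuadSing19.hess_mul_of_sq _ _ (hq i j).1 (hq i j).2, constantCoeff_kappa _ _ (hr i j),
        QuadSing19.hess_mul _ _ (MvPowerSeries.constantCoeff_X i) (MvPowerSeries.constantCoeff_X j)]
      simp [QuadSing19.lin_X]
    simp only [e]
    ext a c
    simp only [Matrix.sum_apply, Matrix.smul_apply, Matrix.add_apply, Matrix.vecMulVec_apply, smul_eq_mul,
      Pi.single_apply, Matrix.map_apply, M, Matrix.of_apply, map_add, mul_add, Finset.sum_add_distrib]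
    simp
  have hM : IsUnit (M.map (residue A)).det := by
    rw [hH, ← RingHom.mapMatrix_apply, ← RingHom.map_det] at hu
    rw [← RingHom.mapMatrix_apply, ← RingHom.map_det]
    exact (IsLocalHom.map_nonunit (f := algebraMap A K) _ hu).map _
  refine Matrix.eq_zero_of_mulVec_eq_zero hM.ne_zero (funext fun i => ?_)
  have h1 := hv (Pi.single i 1)
  rw [hzx, hess_expansion] at h1
  simp only [hr, mul_add, Finset.sum_add_distrib] at h1
  simp [Pi.single_apply] at h1
  simp only [Matrix.mulVec, dotProduct, Matrix.map_apply, M, Matrix.of_apply, map_add, add_mul,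
    Finset.sum_add_distrib, Pi.zero_apply]
  rw [← h1]
  simp [add_comm]
end Groth.Agent.HensCoord15
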