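import Groth.Agent.Lib.HensCoord15.Quot
import Groth.Agent.Lib.HensCoord15.Kappa
import Groth.Prelude.Def_QuadSing

/-!
# The standard degenerate model
-/

set_option autoImplicit false
set_option linter.style.haveILetI false
set_option backward.isDefEq.respectTransparency.types false

universe u

open IsLocalRing

noncomputable section

namespace Groth.Agent.HensCoord15

variable {A : Type u} [CommRing A] [HenselianLocalRing A] {m : ℕ}

theorem pt_C {σ : Type} (e : A) :
    algebraMap (MvPolynomial σ A) (ResidueField A) (MvPolynomial.C e) = residue A e :=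
  MvPolynomial.eval₂Hom_C _ _ e

theorem pt_X {σ : Type} (i : σ) : algebraMap (MvPolynomial σ A) (ResidueField A) (MvPolynomial.X i) = 0 :=
  MvPolynomial.eval₂Hom_X' _ _ i

theorem mem_of_pt_eq_zero {σ : Type} (J : Ideal (MvPolynomial σ A))
    (hC : ∀ e ∈ maximalIdeal A, MvPolynomial.C e ∈ J) (hX : ∀ i, MvPolynomial.X i ∈ J)
    {q : MvPolynomial σ A} (hq : algebraMap (MvPolynomial σ A) (ResidueField A) q = 0) : q ∈ J := by
  have key : ∀ q : MvPolynomial σ A, ∃ e : A, q - MvPolynomial.C e ∈ J ∧
      algebraMap (MvPolynomial σ A) (ResidueField A) q = residue A e := by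
    intro q
    induction q using MvPolynomial.induction_on with
    | C e => exact ⟨e, by simp, pt_C e⟩
    | add x y hx hy =>
      obtain ⟨e, he, he'⟩ := hx
      obtain ⟨f, hf, hf'⟩ := hy
      exact ⟨e + f, by rw [map_add, add_sub_add_comm]; exact add_mem he hf, by rw [map_add, map_add, he', hf']⟩
    | mul_X x i _ =>
      refine ⟨0, by rw [map_zero, sub_zero]; exact Ideal.mul_mem_left _ x (hX i), ?_⟩
      rw [map_mul, pt_X, mul_zero, map_zero]
  obtain ⟨e, he, he'⟩ := key q
  rw [he', residue_eq_zero_iff] at hq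
  rw [← sub_add_cancel q (MvPolynomial.C e)]
  exact add_mem he (hC e hq)

set_option maxHeartbeats 1000000 in
/-- Comparison with the henselization of the model at its point. -/
theorem degQuad_iso (a' : Fin (2 * m) → Fin (2 * m) → A) (b c : A) (hb : b ∈ maximalIdeal A) (hc : c ∈ maximalIdeal A)
    (Bh : Type u) [CommRing Bh] [Algebra A Bh]
    (π : H (Fin (2 * m + 1)) A →ₐ[A] Bh) (hπ : Function.Surjective π) (F : H (Fin (2 * m + 1)) A)
    (hker : RingHom.ker π = Ideal.span {F})
    (Φ : H (Fin (2 * m + 1)) A ≃ₐ[A] H (Fin (2 * m + 1)) A) (w : H (Fin (2 * m + 1)) A) (hw : IsUnit w)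
    (hΦ : Φ F = w * (X 0 ^ 2 + algebraMap A _ b * X 0 + algebraMap A _ c +
      VanCyc.quadEval (fun i j => algebraMap A (H (Fin (2 * m + 1)) A) (a' i j)) fun i => X i.succ))
    (Q : Ideal (VanCyc.degQuadRing A a' b c)) [Q.IsMaximal] (hside : VanCyc.sideIdeal A a' b c ≤ Q)
    (C : Type u) [CommRing C] [IsLocalRing C] [Algebra (Localization.AtPrime Q) C]
    [IsLocalHom (algebraMap (Localization.AtPrime Q) C)] [Hensel.IsHenselization (Localization.AtPrime Q) C]
    [Algebra A C] [IsScalarTower A (Localization.AtPrime Q) C] : Nonempty (Bh ≃ₐ[A] C) := by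
  classical
  let g := VanCyc.degQuadPoly A a' b c
  let π₂ : MvPolynomial (Fin (2 * m + 1)) A →ₐ[A] VanCyc.degQuadRing A a' b c := Ideal.Quotient.mkₐ A _
  set J := Q.comap π₂
  have hJC : ∀ e ∈ maximalIdeal A, MvPolynomial.C e ∈ J := fun e he =>
    hside (Ideal.mem_map_of_mem _ (Ideal.mem_sup_left (Ideal.mem_map_of_mem _ he)))
  have hJs : ∀ i : Fin (2 * m), MvPolynomial.X i.succ ∈ J := fun i =>
    hside (Ideal.mem_map_of_mem _ (Ideal.mem_sup_right (Ideal.subset_span (Set.mem_range_self i))))
  have hren : MvPolynomial.rename Fin.succ (VanCyc.quadPoly a') =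
      ∑ i : Fin (2 * m), ∑ j : Fin (2 * m), if i ≤ j then
        MvPolynomial.C (a' i j) * MvPolynomial.X i.succ * MvPolynomial.X j.succ else 0 := by
    simp only [VanCyc.quadPoly, map_sum, apply_ite (MvPolynomial.rename Fin.succ), map_mul, MvPolynomial.rename_C,
      MvPolynomial.rename_X, map_zero]
  have hgJ : g ∈ J := by
    show Ideal.Quotient.mk _ g ∈ Q
    rw [Ideal.Quotient.eq_zero_iff_mem.2 (Ideal.mem_span_singleton_self g)]
    exact zero_mem _
  have hJ0 : MvPolynomial.X 0 ∈ J := by
    refine (inferInstance : J.IsPrime).mem_of_pow_mem 2 ?_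
    have e : (MvPolynomial.X 0 : MvPolynomial (Fin (2 * m + 1)) A) ^ 2 = g - MvPolynomial.C b * MvPolynomial.X 0 -
        MvPolynomial.C c - MvPolynomial.rename Fin.succ (VanCyc.quadPoly a') := by
      simp only [g, VanCyc.degQuadPoly]; ring
    rw [e]
    refine Ideal.sub_mem _ (Ideal.sub_mem _ (Ideal.sub_mem _ hgJ (Ideal.mul_mem_right _ _ (hJC b hb))) (hJC c hc)) ?_
    rw [hren]
    refine sum_mem fun i _ => sum_mem fun j _ => ?_
    split
    · exact Ideal.mul_mem_left _ _ (hJs j)
    · exact zero_mem _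
  have hJX : ∀ i, MvPolynomial.X i ∈ J := fun i => by
    induction i using Fin.cases with
    | zero => exact hJ0
    | succ i => exact hJs i
  have hQ : J = RingHom.ker (algebraMap (MvPolynomial (Fin (2 * m + 1)) A) (ResidueField A)) := by
    haveI : (RingHom.ker (algebraMap (MvPolynomial (Fin (2 * m + 1)) A) (ResidueField A))).IsMaximal :=
      RingHom.ker_isMaximal_of_surjective _ fun z => by
        obtain ⟨e, rfl⟩ := residue_surjective z
        exact ⟨MvPolynomial.C e, pt_C e⟩
    exact ((Ideal.IsMaximal.eq_of_le inferInstance (inferInstance : J.IsPrime).ne_top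
      fun q hq => mem_of_pt_eq_zero J hJC hJX (RingHom.mem_ker.1 hq))).symm
  obtain ⟨ρ, hρ, -, -, hρk⟩ := exists_presentation (VanCyc.degQuadRing A a' b c) π₂
    Ideal.Quotient.mk_surjective Q hQ C
  let p := π.comp Φ.symm.toAlgHom
  have hp : Function.Surjective p := hπ.comp Φ.symm.surjective
  have hg : algebraMap (MvPolynomial (Fin (2 * m + 1)) A) (H (Fin (2 * m + 1)) A) g =
      X 0 ^ 2 + algebraMap A _ b * X 0 + algebraMap A _ c +
        VanCyc.quadEval (fun i j => algebraMap A (H (Fin (2 * m + 1)) A) (a' i j)) fun i => X i.succ := by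
    simp only [g, VanCyc.degQuadPoly, hren, map_add, map_mul, map_pow, map_sum,
      apply_ite (algebraMap (MvPolynomial (Fin (2 * m + 1)) A) (H (Fin (2 * m + 1)) A)), map_zero, VanCyc.quadEval]
    rfl
  have hk : RingHom.ker p = RingHom.ker ρ := by
    rw [hρk, show RingHom.ker π₂ = Ideal.span {g} from Ideal.mk_ker, Ideal.map_span, Set.image_singleton, hg,
      ← Ideal.span_singleton_mul_left_unit hw, ← hΦ]
    ext z
    rw [RingHom.mem_ker, Ideal.mem_span_singleton']
    show π (Φ.symm z) = 0 ↔ _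
    rw [← RingHom.mem_ker, hker, Ideal.mem_span_singleton']
    constructor
    · rintro ⟨v, hv⟩
      exact ⟨Φ v, by rw [← map_mul, hv, Φ.apply_symm_apply]⟩
    · rintro ⟨v, hv⟩
      exact ⟨Φ.symm v, by rw [← hv, map_mul, Φ.symm_apply_apply]⟩
  exact ⟨((Ideal.quotientKerAlgEquivOfSurjective hp).symm.trans (Ideal.quotientEquivAlgOfEq A hk)).trans
    (Ideal.quotientKerAlgEquivOfSurjective hρ)⟩

end Groth.Agent.HensCoord15
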