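import Groth.Agent.Lib.HensCoord15.Inv

/-!
# Eliminating coordinates along linear parts
-/

set_option autoImplicit false
set_option linter.style.haveILetI false
set_option backward.isDefEq.respectTransparency.types false

universe u

open IsLocalRing

noncomputable section

namespace Groth.Agent.HensCoord15

variable {A : Type u} [CommRing A] [HenselianLocalRing A]

theorem lin_eq_sum {σ : Type} [Fintype σ] (z : H σ A) :
    ∃ g : σ → H σ A, ∀ v, lin v z = ∑ i, Hens.Hs.res (g i) * v i := by
  classical
  obtain ⟨g, hg⟩ := exists_eq_add_sum z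
  refine ⟨g, fun v => ?_⟩
  conv_lhs => rw [hg]
  rw [lin_add, lin_algebraMap, zero_add]
  have h : ∀ s : Finset σ, lin v (∑ i ∈ s, X i * g i) = ∑ i ∈ s, Hens.Hs.res (g i) * v i := by
    intro s
    induction s using Finset.induction with
    | empty => simp [lin]
    | insert i s hi ih =>
      rw [Finset.sum_insert hi, Finset.sum_insert hi, lin_add, ih, lin_mul, lin_X, res_X, zero_mul, zero_add]
  exact h _

theorem mem_of_algHom_X {σ τ : Type} (f : H σ A →ₐ[A] H τ A) (hf : ∀ i, f (X i) ∈ maximalIdeal (H τ A))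
    (I : Ideal (H σ A)) (hI : I ≤ maximalIdeal (H σ A)) : I.map f ≤ maximalIdeal (H τ A) :=
  Ideal.map_le_iff_le_comap.2 fun _ hz => map_mem_maximalIdeal f hf (hI hz)

/-- An ideal of `A{x}` becomes free of linear parts after eliminating coordinates. -/
theorem exists_elim : ∀ (N : ℕ) (I : Ideal (H (Fin N) A)), I ≤ maximalIdeal (H (Fin N) A) →
    ∃ (m : ℕ) (θ : H (Fin N) A →ₐ[A] H (Fin m) A), Function.Surjective θ ∧
      (∀ i, θ (X i) ∈ maximalIdeal (H (Fin m) A)) ∧ RingHom.ker θ ≤ I ∧
      ∀ f ∈ I.map θ, ∀ v, lin v f = 0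
  | 0, I, _ => ⟨0, AlgHom.id A _, Function.surjective_id, fun i => i.elim0,
      fun z hz => by rw [show z = 0 from hz]; exact zero_mem _, fun f _ v => by
        obtain ⟨g, hg⟩ := lin_eq_sum f
        simp [hg]⟩
  | N + 1, I, hI => by
    classical
    by_cases hlin : ∀ f ∈ I, ∀ v, lin v f = 0
    · refine ⟨N + 1, AlgHom.id A _, Function.surjective_id, X_mem, fun z hz => ?_, fun f hf v => ?_⟩
      · rw [show z = 0 from hz]; exact zero_mem _
      · refine hlin f ?_ v
        rwa [show I.map (AlgHom.id A (H (Fin (N + 1)) A)) = I from Ideal.map_id I] at hf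
    push Not at hlin
    obtain ⟨f, hfI, v, hv⟩ := hlin
    obtain ⟨g, hg⟩ := lin_eq_sum f
    obtain ⟨j, hj⟩ : ∃ j, Hens.Hs.res (g j) ≠ 0 := by
      by_contra h
      push Not at h
      exact hv (by simp [hg, h])
    let y : Fin (N + 1) → H (Fin (N + 1)) A := Function.update X j f
    have hy : ∀ i, y i ∈ maximalIdeal (H (Fin (N + 1)) A) := fun i => by
      by_cases h : i = j
      · subst h; simpa [y] using hI hfI
      · simpa [y, h] using X_mem i
    have hinj : ∀ w, (∀ i, lin w (y i) = 0) → w = 0 := fun w hw => by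
      have h0 : ∀ i, i ≠ j → w i = 0 := fun i hi => by simpa [y, hi] using hw i
      have h1 : lin w f = 0 := by simpa [y] using hw j
      rw [hg, Finset.sum_eq_single_of_mem j (Finset.mem_univ j) fun i _ hi => by rw [h0 i hi, mul_zero]] at h1
      funext i
      by_cases hi : i = j
      · subst hi; exact (mul_eq_zero.1 h1).resolve_left hj
      · exact h0 i hi
    let e := AlgEquiv.ofBijective (lift (A := A) y hy) (bijective_lift y hy hinj)
    have he : ∀ i, e (X i) = y i := fun i => lift_X y hy i
    let r : H (Fin (N + 1)) A →ₐ[A] H (Fin N) A := lift (Fin.insertNth j 0 X) fun i => by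
      refine Fin.succAboveCases j ?_ (fun k => ?_) i
      · rw [Fin.insertNth_apply_same]; exact zero_mem _
      · rw [Fin.insertNth_apply_succAbove]; exact X_mem k
    let s : H (Fin N) A →ₐ[A] H (Fin (N + 1)) A := lift (fun k => X (j.succAbove k)) fun k => X_mem _
    have hrs : ∀ z, r (s z) = z := fun z => DFunLike.congr_fun
      (hom_ext (f := r.comp s) (g := AlgHom.id A _) (fun i => by simp [r, s])
        fun i => by
          simp only [AlgHom.comp_apply, r, s, lift_X, Fin.insertNth_apply_succAbove]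
          exact X_mem i) z
    let θ₁ : H (Fin (N + 1)) A →ₐ[A] H (Fin N) A := r.comp e.symm.toAlgHom
    have hres : ∀ z, Hens.Hs.res (θ₁ z) = Hens.Hs.res z := fun z => by
      show Hens.Hs.res (r (e.symm z)) = _
      rw [res_lift]
      conv_rhs => rw [← e.apply_symm_apply z]
      exact (res_lift y hy _).symm
    have hθ₁X : ∀ i, θ₁ (X i) ∈ maximalIdeal (H (Fin N) A) := fun i => by
      rw [← Hens.Hs.res_eq_zero_iff, hres, res_X]
    have hθ₁s : Function.Surjective θ₁ := fun z => ⟨e (s z), by
      show r (e.symm (e (s z))) = z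
      rw [e.symm_apply_apply, hrs]⟩
    have hker : RingHom.ker θ₁ ≤ I := fun z hz => by
      have h0 : r (e.symm z) = 0 := hz
      have h1 := sub_mem (AlgHom.id A _) (s.comp r) (Ideal.span {X j}) (fun i => by
        refine Fin.succAboveCases j ?_ (fun k => ?_) i
        · simp [r, s, Ideal.mem_span_singleton_self]
        · simp [r, s]) (fun i => X_mem i) (e.symm z)
      rw [AlgHom.comp_apply, h0, map_zero, sub_zero, AlgHom.id_apply, Ideal.mem_span_singleton'] at h1
      obtain ⟨c, hc⟩ := h1
      rw [← e.apply_symm_apply z, ← hc, map_mul, he, show y j = f from Function.update_self j f X]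
      exact Ideal.mul_mem_left _ _ hfI
    obtain ⟨m, θ₂, h2s, h2X, h2k, h2l⟩ := exists_elim N (I.map θ₁) (mem_of_algHom_X θ₁ hθ₁X I hI)
    refine ⟨m, θ₂.comp θ₁, h2s.comp hθ₁s, fun i => map_mem_maximalIdeal θ₂ h2X (hθ₁X i), fun z hz => ?_, ?_⟩
    · obtain ⟨w, hw, hwz⟩ := (Ideal.mem_map_iff_of_surjective θ₁ hθ₁s).1 (h2k (show θ₁ z ∈ RingHom.ker θ₂ from hz))
      rw [← sub_add_cancel z w]
      exact add_mem (hker (by rw [RingHom.mem_ker, map_sub, hwz, sub_self])) hw
    · intro q hq
      refine h2l q ?_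
      show q ∈ (I.map θ₁.toRingHom).map θ₂.toRingHom
      rw [Ideal.map_map]
      exact hq

end Groth.Agent.HensCoord15
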