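import Groth.Agent.Lib.HensCoord15.Base
import Groth.Agent.Lib.EtCodim19.Basic
import Mathlib.RingTheory.Kaehler.Polynomial
import Mathlib.RingTheory.Etale.Kaehler

/-!
# The inverse function theorem in `A{x}`
-/

set_option autoImplicit false
set_option linter.style.haveILetI false
set_option backward.isDefEq.respectTransparency.types false

universe u

open IsLocalRing KaehlerDifferential

noncomputable section

namespace Groth.Agent.HensCoord15

variable {σ : Type} {A : Type u} [CommRing A] [IsLocalRing A]

theorem exists_algebraMap_residue (z : H σ A) : ∃ a : A, Hens.Hs.res z = residue A a := by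
  obtain ⟨a, ha⟩ := residue_surjective (Hens.Hs.res z)
  exact ⟨a, ha.symm⟩

/-- `res` as an `A`-algebra map. -/
def resA : H σ A →ₐ[A] ResidueField A :=
  { (Hens.Hs.res : H σ A →ₐ[MvPolynomial σ A] ResidueField A).toRingHom with
    commutes' := fun a => res_algebraMap a }

@[simp]
theorem resA_apply (z : H σ A) : resA z = Hens.Hs.res z := rfl

theorem isLocalHom_residue : IsLocalHom (algebraMap A (ResidueField A)) :=
  IsLocalHom.of_surjective _ residue_surjective

theorem res_lift [HenselianLocalRing A] {τ : Type} (t : σ → H τ A) (ht : ∀ i, t i ∈ maximalIdeal (H τ A)) (z : H σ A) :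
    Hens.Hs.res (lift (A := A) t ht z) = Hens.Hs.res z := by
  haveI := isLocalHom_residue (A := A)
  refine DFunLike.congr_fun (hom_ext (f := (resA (σ := τ) (A := A)).comp (lift (A := A) t ht)) (g := resA)
    (fun i => ?_) fun i => ?_) z
  · simp only [AlgHom.comp_apply, lift_X, resA_apply, res_X]
    exact (Hens.Hs.res_eq_zero_iff _).2 (ht i)
  · simp only [AlgHom.comp_apply, lift_X, resA_apply, (Hens.Hs.res_eq_zero_iff _).2 (ht i)]
    exact zero_mem _

/-! ## Linear parts -/

instance : HenselianLocalRing (DualNumber (ResidueField A)) :=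
  isLocalRing_of_nilpotent fun z => ⟨TrivSqZeroExt.fst z, ⟨2, by
    rw [pow_two]
    refine TrivSqZeroExt.ext ?_ ?_ <;> simp [TrivSqZeroExt.algebraMap_eq_inl']⟩⟩

instance : IsLocalHom (algebraMap A (DualNumber (ResidueField A))) where
  map_nonunit a ha := by
    have h := ha.map (TrivSqZeroExt.fstHom (ResidueField A) (ResidueField A) (ResidueField A))
    change IsUnit (residue A a) at h
    rwa [← residue_ne_zero_iff_isUnit, ← isUnit_iff_ne_zero]

theorem inr_mem (c : ResidueField A) :
    (TrivSqZeroExt.inr c : DualNumber (ResidueField A)) ∈ maximalIdeal (DualNumber (ResidueField A)) := by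
  refine (mem_maximalIdeal _).2 fun h => ?_
  simpa using h.map (TrivSqZeroExt.fstHom (ResidueField A) (ResidueField A) (ResidueField A))

/-- The tangent vector `v` at the origin of the closed fibre. -/
def dual (v : σ → ResidueField A) : H σ A →ₐ[A] DualNumber (ResidueField A) :=
  lift (fun i => TrivSqZeroExt.inr (v i)) fun i => inr_mem (v i)

/-- The linear part. -/
def lin (v : σ → ResidueField A) (z : H σ A) : ResidueField A := TrivSqZeroExt.snd (dual v z)

theorem fst_dual (v : σ → ResidueField A) (z : H σ A) : TrivSqZeroExt.fst (dual v z) = Hens.Hs.res z := by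
  haveI := isLocalHom_residue (A := A)
  have h : ((TrivSqZeroExt.fstHom (ResidueField A) (ResidueField A) (ResidueField A)).restrictScalars A).comp (dual v) =
      resA := by
    refine hom_ext (fun i => ?_) fun i => ?_ <;> simp [dual, res_X]
  exact DFunLike.congr_fun h z

theorem lin_add (v : σ → ResidueField A) (a b : H σ A) : lin v (a + b) = lin v a + lin v b := by
  simp [lin]

theorem lin_mul (v : σ → ResidueField A) (a b : H σ A) :
    lin v (a * b) = Hens.Hs.res a * lin v b + Hens.Hs.res b * lin v a := by
  simp [lin, fst_dual, mul_comm]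

theorem lin_algebraMap (v : σ → ResidueField A) (a : A) : lin v (algebraMap A _ a) = 0 := by
  rw [lin, AlgHom.commutes, IsScalarTower.algebraMap_apply A (ResidueField A), TrivSqZeroExt.algebraMap_eq_inl']
  simp

@[simp]
theorem lin_X (v : σ → ResidueField A) (i : σ) : lin v (X i) = v i := by
  simp [lin, dual]

/-! ## Etale charts -/

section Chart

variable {τ : Type} {E : Type u} [CommRing E] [Algebra A E]

theorem exists_hom_of_etale (c : τ → E) (hc : (MvPolynomial.aeval c : MvPolynomial τ A →ₐ[A] E).toRingHom.Etale)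
    (toH : E →ₐ[A] H σ A) (t : τ → H σ A) (ht : ∀ i, Hens.Hs.res (t i) = Hens.Hs.res (toH (c i))) :
    ∃ f : E →ₐ[A] H σ A, (∀ i, f (c i) = t i) ∧ ∀ e, Hens.Hs.res (f e) = Hens.Hs.res (toH e) := by
  letI := (MvPolynomial.aeval c : MvPolynomial τ A →ₐ[A] E).toRingHom.toAlgebra
  haveI : Algebra.Etale (MvPolynomial τ A) E := hc
  letI := (MvPolynomial.aeval t : MvPolynomial τ A →ₐ[A] H σ A).toRingHom.toAlgebra
  let π : E →+* H σ A ⧸ maximalIdeal (H σ A) := (Ideal.Quotient.mk _).comp toH.toRingHom
  let σ₀ : E →ₐ[MvPolynomial τ A] H σ A ⧸ maximalIdeal (H σ A) :=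
    { π with
      commutes' := fun p => by
        show Ideal.Quotient.mk _ (toH (MvPolynomial.aeval c p)) = Ideal.Quotient.mk _ (MvPolynomial.aeval t p)
        refine DFunLike.congr_fun (MvPolynomial.algHom_ext
          (f := ((Ideal.Quotient.mkₐ A _).comp toH).comp (MvPolynomial.aeval c))
          (g := (Ideal.Quotient.mkₐ A (maximalIdeal (H σ A))).comp (MvPolynomial.aeval t)) fun i => ?_) p
        simp only [AlgHom.comp_apply, MvPolynomial.aeval_X, Ideal.Quotient.mkₐ_eq_mk]
        rw [Ideal.Quotient.eq, ← Hens.Hs.res_eq_zero_iff, map_sub, ht, sub_self] }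
  obtain ⟨f, hf, -⟩ := Hens.existsUnique_algHom_lift (Hens.henselianRing_maximalIdeal (H σ A)) σ₀
  refine ⟨{ f.toRingHom with commutes' := fun a => ?_ }, fun i => ?_, fun e => ?_⟩
  · have h := f.commutes (MvPolynomial.C a)
    show f (algebraMap A E a) = _
    rw [← MvPolynomial.aeval_C c]
    exact h.trans (MvPolynomial.aeval_C t a)
  · show f (c i) = t i
    rw [← MvPolynomial.aeval_X (R := A) c i]
    exact (f.commutes (MvPolynomial.X i)).trans (MvPolynomial.aeval_X t i)
  · rw [← sub_eq_zero, ← map_sub, Hens.Hs.res_eq_zero_iff, ← Ideal.Quotient.eq]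
    exact congr($hf e)

theorem eq_of_etale (c : τ → E) (hc : (MvPolynomial.aeval c : MvPolynomial τ A →ₐ[A] E).toRingHom.Etale)
    (f g : E →ₐ[A] H σ A) (h : ∀ i, f (c i) = g (c i)) (hr : ∀ e, Hens.Hs.res (f e) = Hens.Hs.res (g e)) :
    f = g := by
  letI := (MvPolynomial.aeval c : MvPolynomial τ A →ₐ[A] E).toRingHom.toAlgebra
  haveI : Algebra.Etale (MvPolynomial τ A) E := hc
  letI := (MvPolynomial.aeval fun i => g (c i) : MvPolynomial τ A →ₐ[A] H σ A).toRingHom.toAlgebra
  have hg : ∀ p, g (MvPolynomial.aeval c p) = MvPolynomial.aeval (fun i => g (c i)) p :=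
    fun p => DFunLike.congr_fun (MvPolynomial.algHom_ext (f := g.comp (MvPolynomial.aeval c))
      (g := MvPolynomial.aeval fun i => g (c i)) fun i => by simp) p
  have hf : ∀ p, f (MvPolynomial.aeval c p) = MvPolynomial.aeval (fun i => g (c i)) p :=
    fun p => DFunLike.congr_fun (MvPolynomial.algHom_ext (f := f.comp (MvPolynomial.aeval c))
      (g := MvPolynomial.aeval fun i => g (c i)) fun i => by simp [h]) p
  have := Hens.algHom_ext_of_le_jacobson (A := MvPolynomial τ A) (E := E)
    (maximalIdeal_le_jacobson (⊥ : Ideal (H σ A)))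
    (f := { f.toRingHom with commutes' := hf }) (g := { g.toRingHom with commutes' := hg }) fun e => by
      rw [← Hens.Hs.res_eq_zero_iff, map_sub, sub_eq_zero]
      exact hr e
  exact AlgHom.ext fun e => DFunLike.congr_fun this e

/-- A polynomial chart with invertible Jacobian. -/
theorem etale_of_isUnit_det [Fintype τ] [DecidableEq τ] [Algebra.FormallySmooth A E] [Algebra.FinitePresentation A E]
    (b : Module.Basis τ E Ω[E⁄A]) (c : τ → E)
    (hu : IsUnit (Matrix.of fun i j => b.repr (D A E (c i)) j).det) :
    (MvPolynomial.aeval c : MvPolynomial τ A →ₐ[A] E).toRingHom.Etale := by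
  letI := (MvPolynomial.aeval c : MvPolynomial τ A →ₐ[A] E).toRingHom.toAlgebra
  haveI : IsScalarTower A (MvPolynomial τ A) E :=
    IsScalarTower.of_algebraMap_eq fun a => (MvPolynomial.aeval_C c a).symm
  let b₁ := (mvPolynomialBasis A τ).baseChange E
  let f := mapBaseChange A (MvPolynomial τ A) E
  have hM : LinearMap.toMatrix b₁ b f = (Matrix.of fun i j => b.repr (D A E (c i)) j).transpose := by
    ext i j
    rw [LinearMap.toMatrix_apply, Matrix.transpose_apply, Matrix.of_apply]
    simp only [b₁, f, Module.Basis.baseChange_apply, mvPolynomialBasis_apply, mapBaseChange_tmul, one_smul, map_D]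
    rw [show algebraMap (MvPolynomial τ A) E (MvPolynomial.X j) = c j from MvPolynomial.aeval_X c j]
  have hbij : Function.Bijective f := by
    have hu' : IsUnit (LinearMap.toMatrix b₁ b f).det := by rw [hM, Matrix.det_transpose]; exact hu
    exact (LinearEquiv.ofIsUnitDet (f := f) hu').bijective
  haveI := EtCodim19.formallyEtale_of_bijective (A := A) (C := MvPolynomial τ A) (D := E) hbij
  haveI : Algebra.FinitePresentation (MvPolynomial τ A) E :=
    Algebra.FinitePresentation.of_restrict_scalars_finitePresentation A _ _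
  exact RingHom.etale_algebraMap.2 ⟨inferInstance, inferInstance⟩

end Chart

/-! ## The inverse function theorem -/

variable [HenselianLocalRing A]

/-- If both tuples of coordinates are étale charts on one algebra, the change of coordinates is bijective. -/
theorem bijective_of_charts [Fintype σ] {E : Type u} [CommRing E] [Algebra A E] (cx cy : σ → E)
    (hx : (MvPolynomial.aeval cx : MvPolynomial σ A →ₐ[A] E).toRingHom.Etale)
    (hy : (MvPolynomial.aeval cy : MvPolynomial σ A →ₐ[A] E).toRingHom.Etale)
    (toH : E →ₐ[A] H σ A) (hX : ∀ i, toH (cx i) = X i) (y : σ → H σ A) (hym : ∀ i, y i ∈ maximalIdeal (H σ A))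
    (hY : ∀ i, toH (cy i) = y i) : Function.Bijective (lift (A := A) y hym) := by
  obtain ⟨f, hf, hfr⟩ := exists_hom_of_etale cy hy toH X fun i => by
    rw [res_X, hY, (Hens.Hs.res_eq_zero_iff _).2 (hym i)]
  have hz : ∀ i, f (cx i) ∈ maximalIdeal (H σ A) := fun i => by
    rw [← Hens.Hs.res_eq_zero_iff, hfr, hX, res_X]
  let Φ := lift (A := A) y hym
  let Ψ := lift (A := A) (fun i => f (cx i)) hz
  have h1 : Ψ.comp toH = f := eq_of_etale cx hx _ _ (fun i => by simp [hX, Ψ]) fun e => by
    rw [AlgHom.comp_apply, res_lift, hfr]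
  have h2 : Φ.comp f = toH := eq_of_etale cy hy _ _ (fun i => by simp [hf, hY, Φ]) fun e => by
    rw [AlgHom.comp_apply, res_lift, hfr]
  have e1 : Ψ.comp Φ = AlgHom.id A _ := by
    refine hom_ext (fun i => ?_) fun i => ?_
    · rw [AlgHom.comp_apply, lift_X, AlgHom.id_apply, ← hY]
      exact (DFunLike.congr_fun h1 _).trans (hf i)
    · rw [AlgHom.comp_apply]
      exact map_mem_maximalIdeal Ψ (fun j => by simp [Ψ, hz]) (by simpa [Φ] using hym i)
  have e2 : Φ.comp Ψ = AlgHom.id A _ := by
    refine hom_ext (fun i => ?_) fun i => ?_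
    · rw [AlgHom.comp_apply, lift_X, AlgHom.id_apply, ← hX]
      exact DFunLike.congr_fun h2 _
    · rw [AlgHom.comp_apply]
      exact map_mem_maximalIdeal Φ (fun j => by simp [Φ, hym]) (by simpa [Ψ] using hz i)
  exact ⟨Function.LeftInverse.injective (g := Ψ) (DFunLike.congr_fun e1),
    Function.RightInverse.surjective (g := Ψ) (DFunLike.congr_fun e2)⟩

set_option maxHeartbeats 1000000 in
/-- The inverse function theorem. -/
theorem bijective_lift [Fintype σ] (y : σ → H σ A) (hym : ∀ i, y i ∈ maximalIdeal (H σ A))
    (hinj : ∀ v, (∀ i, lin v (y i) = 0) → v = 0) : Function.Bijective (lift (A := A) y hym) := by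
  classical
  obtain ⟨i, hi⟩ := Hens.Hs.exists_of_finset Finset.univ y
  choose z hz using hi
  obtain ⟨g, hg, hgz⟩ := Hens.Hs.exists_away i Finset.univ fun l => z l (Finset.mem_univ l)
  choose e he using hgz
  let E := Localization.Away g
  haveI : Algebra.Etale i.S E := Algebra.Etale.of_isLocalizationAway g
  haveI : Algebra.Etale (MvPolynomial σ A) E := Algebra.Etale.comp _ i.S E
  haveI : Algebra.FormallySmooth A E := Algebra.FormallySmooth.comp A (MvPolynomial σ A) E
  haveI : Algebra.FinitePresentation A E := Algebra.FinitePresentation.trans A (MvPolynomial σ A) E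
  let toH₀ := Hens.Hs.awayToHs i g hg
  have hR : ∀ r, toH₀ (algebraMap (MvPolynomial σ A) E r) = algebraMap _ (H σ A) r := fun r => by
    rw [IsScalarTower.algebraMap_apply _ i.S E, Hens.Hs.awayToHs_algebraMap,
      ← IsScalarTower.algebraMap_apply, AlgHom.commutes]
  let toH : E →ₐ[A] H σ A :=
    { toH₀ with
      commutes' := fun a => by
        show toH₀ (algebraMap A E a) = _
        rw [IsScalarTower.algebraMap_apply A (MvPolynomial σ A) E, hR, ← IsScalarTower.algebraMap_apply] }
  let cx : σ → E := fun l => algebraMap (MvPolynomial σ A) E (MvPolynomial.X l)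
  let cy : σ → E := fun l => e l (Finset.mem_univ l)
  have hX : ∀ l, toH (cx l) = X l := fun l => hR _
  have hY : ∀ l, toH (cy l) = y l := fun l => by
    show Hens.Hs.awayToHs i g hg (e l _) = y l
    rw [Hens.Hs.awayToHs_apply, he, hz]
  let b : Module.Basis σ E Ω[E⁄A] := ((mvPolynomialBasis A σ).baseChange E).map
    (tensorKaehlerEquivOfFormallyEtale A (MvPolynomial σ A) E)
  have hb : ∀ l, b l = D A E (cx l) := fun l => by
    simp only [b, cx, Module.Basis.map_apply, Module.Basis.baseChange_apply, mvPolynomialBasis_apply,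
      tensorKaehlerEquivOfFormallyEtale_apply, mapBaseChange_tmul, one_smul, map_D]
  let M : Matrix σ σ E := Matrix.of fun a c => b.repr (D A E (cy a)) c
  let χ : E →ₐ[A] ResidueField A := resA.comp toH
  have hlin : ∀ (v : σ → ResidueField A) (a : σ), lin v (y a) = ∑ c, χ (M a c) * v c := by
    intro v a
    letI := χ.toRingHom.toAlgebra
    haveI : IsScalarTower A E (ResidueField A) := IsScalarTower.of_algebraMap_eq fun r => (χ.commutes r).symm
    let d : Derivation A E (ResidueField A) :=
      Derivation.mk'
        { toFun := fun x => lin v (toH x)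
          map_add' := fun x x' => by rw [map_add, lin_add]
          map_smul' := fun r x => by
            rw [RingHom.id_apply, Algebra.smul_def, Algebra.smul_def, map_mul, AlgHom.commutes, lin_mul,
              lin_algebraMap, mul_zero, add_zero, res_algebraMap]
            rfl }
        fun x x' => by
          show lin v (toH (x * x')) = x • lin v (toH x') + x' • lin v (toH x)
          rw [map_mul, lin_mul, Algebra.smul_def, Algebra.smul_def]
          rfl
    have h : d.liftKaehlerDifferential (D A E (cy a)) = lin v (y a) := by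
      rw [Derivation.liftKaehlerDifferential_comp_D]
      exact congrArg (lin v) (hY a)
    rw [← h, ← b.sum_repr (D A E (cy a)), map_sum]
    refine Finset.sum_congr rfl fun c _ => ?_
    rw [map_smul, hb, Derivation.liftKaehlerDifferential_comp_D, Algebra.smul_def]
    show χ (M a c) * lin v (toH (cx c)) = _
    rw [hX, lin_X]
  have hdet : χ M.det ≠ 0 := by
    intro h0
    rw [AlgHom.map_det] at h0
    obtain ⟨v, hv0, hv⟩ := Matrix.exists_mulVec_eq_zero_iff.2 h0
    exact hv0 (hinj v fun a => (hlin v a).trans (congrFun hv a))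
  let E' := Localization.Away M.det
  haveI : Algebra.Etale E E' := Algebra.Etale.of_isLocalizationAway M.det
  haveI : Algebra.Etale (MvPolynomial σ A) E' := Algebra.Etale.comp _ E E'
  haveI : Algebra.FormallySmooth A E' := Algebra.FormallySmooth.comp A (MvPolynomial σ A) E'
  haveI : Algebra.FinitePresentation A E' := Algebra.FinitePresentation.trans A (MvPolynomial σ A) E'
  have hu : IsUnit (toH M.det) := by
    rw [Hens.Hs.isUnit_iff]; exact hdet
  let toH' : E' →ₐ[A] H σ A := IsLocalization.Away.liftAlgHom M.det (f := toH) hu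
  have hl : ∀ x, toH' (algebraMap E E' x) = toH x := fun x => IsLocalization.Away.lift_eq M.det hu x
  let b' : Module.Basis σ E' Ω[E'⁄A] := (b.baseChange E').map (tensorKaehlerEquivOfFormallyEtale A E E')
  have hb' : ∀ l, b' l = D A E' (algebraMap E E' (cx l)) := fun l => by
    simp only [b', Module.Basis.map_apply, Module.Basis.baseChange_apply, hb,
      tensorKaehlerEquivOfFormallyEtale_apply]
    refine (mapBaseChange_tmul A E E' 1 _).trans ?_
    rw [map_D]
    first
      | exact _root_.one_smul E' (D A E' (algebraMap E E' (cx l)))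
      | (erw [_root_.one_smul])
  have hrepr : ∀ a c, b'.repr (D A E' (algebraMap E E' (cy a))) c = algebraMap E E' (M a c) := fun a c => by
    simp only [b', Module.Basis.map_repr, LinearEquiv.trans_apply,
      tensorKaehlerEquivOfFormallyEtale_symm_D_algebraMap, Module.Basis.baseChange_repr_tmul, M, Matrix.of_apply,
      Algebra.smul_def, mul_one]
  refine bijective_of_charts (fun l => algebraMap E E' (cx l)) (fun l => algebraMap E E' (cy l)) ?_ ?_ toH'
    (fun l => (hl _).trans (hX l)) y hym fun l => (hl _).trans (hY l)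
  · refine etale_of_isUnit_det b' _ ?_
    rw [show (Matrix.of fun a c => b'.repr (D A E' (algebraMap E E' (cx a))) c) = 1 from ?_, Matrix.det_one]
    · exact isUnit_one
    ext a c
    rw [Matrix.of_apply, ← hb', Module.Basis.repr_self, Matrix.one_apply, Finsupp.single_apply]
  · refine etale_of_isUnit_det b' _ ?_
    rw [show (Matrix.of fun a c => b'.repr (D A E' (algebraMap E E' (cy a))) c) = M.map (algebraMap E E') from
      Matrix.ext hrepr, ← RingHom.mapMatrix_apply, ← RingHom.map_det]
    exact IsLocalization.Away.algebraMap_isUnit M.det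

end Groth.Agent.HensCoord15
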