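import Groth.Agent.Lib.HensCoord15.Morse

/-!
# The normal form `c + Q(x)` of an element with non-degenerate Hessian
-/

set_option autoImplicit false
set_option linter.style.haveILetI false
set_option backward.isDefEq.respectTransparency.types false

universe u

open IsLocalRing Matrix

noncomputable section

namespace Groth.Agent.HensCoord15

variable {A : Type u} [CommRing A] [IsLocalRing A] {n : ℕ}

/-- The index set of an upper-triangular table. -/
abbrev Upp (n : ℕ) : Type := {p : Fin n × Fin n // p.1 ≤ p.2}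

/-- The upper-triangular table with given entries. -/
def uppMat {R : Type u} [Zero R] (v : Upp n → R) : Matrix (Fin n) (Fin n) R :=
  Matrix.of fun i j => if h : i ≤ j then v ⟨(i, j), h⟩ else 0

theorem hess_quad (h : Fin n → Fin n → H (Fin n) A) (v w : Fin n → ResidueField A) :
    ∑ i, ∑ j, Hens.Hs.res (h i j) * (v i * w j + w i * v j) =
      w ⬝ᵥ ((Matrix.of fun i j => Hens.Hs.res (h i j) + Hens.Hs.res (h j i)) *ᵥ v) := by
  simp only [dotProduct, mulVec, Matrix.of_apply, Finset.mul_sum, mul_add, add_mul, Finset.sum_add_distrib]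
  rw [add_comm]
  refine congrArg₂ (· + ·) ?_ ?_
  · exact Finset.sum_congr rfl fun i _ => Finset.sum_congr rfl fun j _ => by ring
  · rw [Finset.sum_comm]
    exact Finset.sum_congr rfl fun i _ => Finset.sum_congr rfl fun j _ => by ring

variable [HenselianLocalRing A]

theorem res_ev₀ {σ : Type} (z : H σ A) : residue A (ev₀ σ A z) = Hens.Hs.res z := by
  haveI := isLocalHom_residue (A := A)
  have h : (IsScalarTower.toAlgHom A A (ResidueField A)).comp (ev₀ σ A) = resA := by
    refine hom_ext (fun i => ?_) fun i => ?_ <;> simp [res_X]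
  exact DFunLike.congr_fun h z

set_option maxHeartbeats 1000000 in
/-- A quadratic expansion with non-degenerate Hessian is a constant table in other coordinates. -/
theorem exists_const_table (h : Fin n → Fin n → H (Fin n) A)
    (hnd : ∀ v : Fin n → ResidueField A, (∀ w : Fin n → ResidueField A, ∑ i, ∑ j, Hens.Hs.res (h i j) * (v i * w j + w i * v j) = 0) → v = 0) :
    ∃ (a : Fin n → Fin n → A) (M : Matrix (Fin n) (Fin n) (H (Fin n) A)),
      VanCyc.QuadNondeg a ∧ M.map Hens.Hs.res = 1 ∧
      ∀ x : Fin n → H (Fin n) A, ∑ i, ∑ j, h i j * x i * x j =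
        VanCyc.quadEval (fun i j => algebraMap A (H (Fin n) A) (a i j)) (M *ᵥ x) := by
  classical
  let u := sym (Matrix.of h)
  let a : Matrix (Fin n) (Fin n) A := u.map (ev₀ (Fin n) A)
  have ha : ∀ i j, j < i → a i j = 0 := fun i j hij => by
    simp [a, u, sym_apply_of_lt _ hij]
  have hsa : sym a = a := sym_eq_self a ha
  let P : Matrix (Fin n) (Fin n) A := a + aᵀ
  have hPres : P.map (residue A) = Matrix.of fun i j => Hens.Hs.res (h i j) + Hens.Hs.res (h j i) := by
    ext i j
    simp only [P, a, u, Matrix.map_apply, Matrix.add_apply, Matrix.transpose_apply, map_add, res_ev₀]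
    simp only [sym, Matrix.of_apply]
    rcases lt_trichotomy i j with hij | rfl | hij
    · simp [hij.ne, hij.ne', hij, hij.not_gt]
    · simp
    · simp [hij.ne, hij.ne', hij, hij.not_gt, add_comm]
  have hP : IsUnit P.det := by
    rw [← residue_ne_zero_iff_isUnit, RingHom.map_det, RingHom.mapMatrix_apply, hPres]
    intro h0
    obtain ⟨v, hv0, hv⟩ := Matrix.exists_mulVec_eq_zero_iff.2 h0
    exact hv0 (hnd v fun w => by rw [hess_quad, hv, dotProduct_zero])
  -- the universal substitution
  let ι : A →+* H (Upp n) A := algebraMap A _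
  let Tm : Matrix (Fin n) (Fin n) (H (Upp n) A) := uppMat X
  let N := P⁻¹.map ι * Tm
  let Φ : Upp n → H (Upp n) A := fun p =>
    sym ((1 + N)ᵀ * a.map ι * (1 + N)) p.1.1 p.1.2 - ι (a p.1.1 p.1.2)
  have hPN : (a.map ι + (a.map ι)ᵀ) * N = Tm := by
    rw [show a.map ι + (a.map ι)ᵀ = P.map ι by ext i j; simp [P]]
    show P.map ι * (P⁻¹.map ι * Tm) = Tm
    rw [← Matrix.mul_assoc, ← Matrix.map_mul, Matrix.mul_nonsing_inv P hP,
      Matrix.map_one ι (map_zero _) (map_one _), Matrix.one_mul]
  have hTsym : sym Tm = Tm := sym_eq_self _ fun i j hij => by simp [Tm, uppMat, hij.not_ge]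
  have hΦ : ∀ p, Φ p = X p + sym (Nᵀ * a.map ι * N) p.1.1 p.1.2 := fun p => by
    have e : Tm p.1.1 p.1.2 = X p := by simp [Tm, uppMat, p.2]
    simp only [Φ, sym_expand, hPN, hTsym, Matrix.add_apply, e, ← map_sym, hsa, Matrix.map_apply]
    ring
  have hresN : N.map Hens.Hs.res = 0 := by
    ext i j
    simp only [N, Matrix.map_apply, Matrix.mul_apply, map_sum, map_mul, Matrix.zero_apply]
    refine Finset.sum_eq_zero fun l _ => ?_
    have e : Hens.Hs.res (Tm l j) = 0 := by
      simp only [Tm, uppMat, Matrix.of_apply]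
      split <;> simp [res_X]
    rw [e, mul_zero]
  have hlinN : ∀ v i j, lin v ((Nᵀ * a.map ι * N) i j) = 0 ∧ Hens.Hs.res ((Nᵀ * a.map ι * N) i j) = 0 := by
    intro v i j
    have e : ∀ i j, Hens.Hs.res (N i j) = 0 := fun i j => by
      simpa using congrFun (congrFun hresN i) j
    constructor <;>
      simp [Matrix.mul_apply, lin_sum, lin_mul, e, ι, lin_algebraMap, Finset.mul_sum, Finset.sum_mul]
  have hΦlin : ∀ v p, lin v (Φ p) = v p := fun v p => by
    rw [hΦ, lin_add, lin_X]
    simp only [sym, Matrix.of_apply]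
    split_ifs <;> simp [lin_add, (hlinN v _ _).1, show lin v (0 : H (Upp n) A) = 0 by simp [lin]]
  have hΦm : ∀ p, Φ p ∈ maximalIdeal (H (Upp n) A) := fun p => by
    rw [← Hens.Hs.res_eq_zero_iff, hΦ, map_add, res_X]
    simp only [sym, Matrix.of_apply]
    split_ifs <;> simp [(hlinN 0 _ _).2]
  let e := AlgEquiv.ofBijective (lift (A := A) Φ hΦm) (bijective_lift Φ hΦm fun v hv => funext fun p => by
    simpa [hΦlin] using hv p)
  let s : Upp n → H (Fin n) A := fun p => u p.1.1 p.1.2 - algebraMap A _ (a p.1.1 p.1.2)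
  have hsm : ∀ p, s p ∈ maximalIdeal (H (Fin n) A) := fun p => by
    rw [← Hens.Hs.res_eq_zero_iff, map_sub, res_algebraMap]
    simp [a, res_ev₀]
  let ψ : H (Upp n) A →ₐ[A] H (Fin n) A := (lift (A := A) s hsm).comp e.symm.toAlgHom
  have hψΦ : ∀ p, ψ (Φ p) = s p := fun p => by
    show lift (A := A) s hsm (e.symm (Φ p)) = s p
    rw [show Φ p = e (X p) from (lift_X Φ hΦm p).symm, AlgEquiv.symm_apply_apply, lift_X]
  have hψres : ∀ z, Hens.Hs.res (ψ z) = Hens.Hs.res z := fun z => by
    show Hens.Hs.res (lift (A := A) s hsm (e.symm z)) = _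
    rw [res_lift]
    conv_rhs => rw [← e.apply_symm_apply z]
    exact (res_lift Φ hΦm _).symm
  let M : Matrix (Fin n) (Fin n) (H (Fin n) A) := 1 + N.map ψ
  have hM : M.map Hens.Hs.res = 1 := by
    ext i j
    have := congrFun (congrFun hresN i) j
    simp only [Matrix.map_apply, Matrix.zero_apply] at this
    simp [M, hψres, this, Matrix.one_apply, apply_ite Hens.Hs.res]
  refine ⟨a, M, ?_, hM, fun x => ?_⟩
  · show IsUnit (VanCyc.polarMatrix a).det
    rw [← hsa, polarMatrix_eq]
    exact hP
  have key : sym (Mᵀ * a.map (algebraMap A _) * M) = u := by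
    ext i j
    rcases le_or_gt i j with hij | hij
    · have hp := hψΦ ⟨(i, j), hij⟩
      simp only [Φ, map_sub, s] at hp
      rw [AlgHom.commutes, sub_left_inj] at hp
      rw [← hp]
      show _ = (sym ((1 + N)ᵀ * a.map ι * (1 + N))).map ψ.toRingHom i j
      rw [map_sym]
      congr 2
      simp only [Matrix.map_mul, ← Matrix.transpose_map]
      have e1 : (1 + N).map ψ.toRingHom = M := by
        rw [Matrix.map_add _ (map_add _), Matrix.map_one _ (map_zero _) (map_one _)]
        rfl
      have e2 : (a.map ι).map ψ.toRingHom = a.map (algebraMap A (H (Fin n) A)) := by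
        ext i j
        exact ψ.commutes _
      rw [e1, e2, Matrix.transpose_map, e1]
    · rw [sym_apply_of_lt _ hij, show u i j = 0 from sym_apply_of_lt _ hij]
  show ∑ i, ∑ j, Matrix.of h i j * x i * x j = VanCyc.quadEval (a.map (algebraMap A _)) (M *ᵥ x)
  rw [← quadEval_sym, quadEval_mulVec _ (fun i j hij => by simp [ha i j hij]) M x, key]

/-- **Morse lemma** in `A{x}`. -/
theorem exists_normalForm (F : H (Fin n) A) (hF0 : Hens.Hs.res F = 0) (hl : ∀ v, lin v F = 0) (hF : HessNondeg F) :
    ∃ (a : Fin n → Fin n → A) (c : A) (Φ : H (Fin n) A ≃ₐ[A] H (Fin n) A),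
      VanCyc.QuadNondeg a ∧ c ∈ maximalIdeal A ∧
      Φ F = algebraMap A _ c + VanCyc.quadEval (fun i j => algebraMap A (H (Fin n) A) (a i j)) X := by
  obtain ⟨θ, h, hθ, hhess⟩ := exists_critical F hl hF
  set c := ev₀ (Fin n) A (θ F)
  have hθres : ∀ z, Hens.Hs.res (θ z) = Hens.Hs.res z := fun z => by
    haveI := isLocalHom_residue (A := A)
    have e : (resA (σ := Fin n) (A := A)).comp θ.toAlgHom = resA := by
      refine hom_ext (fun i => ?_) fun i => ?_
      · simp only [AlgHom.comp_apply, resA_apply, res_X]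
        refine (Hens.Hs.res_eq_zero_iff _).2 ((mem_maximalIdeal _).2 fun hu => ?_)
        exact not_isUnit_X i (by simpa using hu.map θ.symm)
      · simp only [AlgHom.comp_apply, resA_apply, mem_maximalIdeal, mem_nonunits_iff, isUnit_iff_ne_zero, ne_eq, not_not]
        refine (Hens.Hs.res_eq_zero_iff _).2 ((mem_maximalIdeal _).2 fun hu => ?_)
        exact not_isUnit_X i (by simpa using hu.map θ.symm)
    exact DFunLike.congr_fun e z
  have hc : c ∈ maximalIdeal A := by
    rw [← residue_eq_zero_iff, res_ev₀, hθres, hF0]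
  obtain ⟨a, M, ha, hM, hq⟩ := exists_const_table h fun v hv => hF v fun w => by
    rw [← hhess, hθ]
    simp only [hess_add, hess_sum, hess_algebraMap, hess_mul_X_X, zero_add]
    exact hv w
  let y : Fin n → H (Fin n) A := M *ᵥ X
  have hy : ∀ i, y i ∈ maximalIdeal (H (Fin n) A) := fun i =>
    (show ∑ j, M i j * X j ∈ maximalIdeal (H (Fin n) A) from sum_mem fun j _ => Ideal.mul_mem_left _ _ (X_mem j))
  have hlin : ∀ v i, lin v (y i) = v i := fun v i => by
    have hm : ∀ j, Hens.Hs.res (M i j) = (1 : Matrix (Fin n) (Fin n) (ResidueField A)) i j :=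
      fun j => congrFun (congrFun hM i) j
    simp [y, mulVec, dotProduct, lin_sum, lin_mul, res_X, hm, Matrix.one_apply]
  let σe := AlgEquiv.ofBijective (lift (A := A) y hy) (bijective_lift y hy fun v hv => funext fun i => by
    simpa [hlin] using hv i)
  refine ⟨a, c, θ.trans σe.symm, ha, hc, ?_⟩
  show σe.symm (θ F) = _
  rw [AlgEquiv.symm_apply_eq, hθ, hq]
  simp only [map_add, VanCyc.quadEval, map_sum, apply_ite σe, map_zero, map_mul, AlgEquiv.commutes]
  have hX : ∀ i, σe (X i) = y i := fun i => lift_X y hy i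
  simp only [hX]
  rfl

end Groth.Agent.HensCoord15
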