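import Groth.Agent.Lib.HensCoord15.Normal

/-!
# Splitting off one coordinate and tables with constant entries
-/

set_option autoImplicit false
set_option linter.style.haveILetI false
set_option backward.isDefEq.respectTransparency.types false

universe u

open IsLocalRing Matrix

noncomputable section

namespace Groth.Agent.HensCoord15

variable {A : Type u} [CommRing A] [HenselianLocalRing A]

/-- `A{x}{y}` as an `A`-algebra. -/
instance instAlgH₂ {σ τ : Type} : Algebra A (H σ (H τ A)) :=
  ((algebraMap (H τ A) (H σ (H τ A))).comp (algebraMap A (H τ A))).toAlgebra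

instance {σ τ : Type} : IsScalarTower A (H τ A) (H σ (H τ A)) := IsScalarTower.of_algebraMap_eq fun _ => rfl

instance {σ τ : Type} : IsLocalHom (algebraMap A (H σ (H τ A))) :=
  RingHom.isLocalHom_comp (algebraMap (H τ A) (H σ (H τ A))) (algebraMap A (H τ A))

set_option maxHeartbeats 1000000 in
/-- Splitting off the coordinate along a vector `r` with unit entry `r p`. -/
theorem exists_split {n : ℕ} (r : Fin (n + 1) → A) (p : Fin (n + 1)) (hp : IsUnit (r p)) :
    ∃ Ψ : H (Fin (n + 1)) A ≃ₐ[A] H (Fin n) (H (Fin 1) A), ∀ i, Ψ (X i) =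
      algebraMap A _ (r i) * algebraMap (H (Fin 1) A) _ (X 0) +
        Fin.insertNth (α := fun _ => H (Fin n) (H (Fin 1) A)) p 0 (fun k => X k) i := by
  let B := H (Fin (n + 1)) A
  let A₀ := H (Fin 1) A
  let T := H (Fin n) A₀
  obtain ⟨s, hs⟩ := hp.exists_left_inv
  let y₀ : B := algebraMap A B s * X p
  have hy₀ : y₀ ∈ maximalIdeal B := Ideal.mul_mem_left _ _ (X_mem p)
  let j₀ : A₀ →ₐ[A] B := lift (fun _ => y₀) fun _ => hy₀
  letI : Algebra A₀ B := j₀.toRingHom.toAlgebra
  haveI : IsScalarTower A A₀ B := IsScalarTower.of_algebraMap_eq fun a => (j₀.commutes a).symm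
  haveI : IsLocalHom (algebraMap A₀ B) := ⟨fun z hz => by
    by_contra hn
    exact (mem_maximalIdeal _).1 (map_mem_maximalIdeal j₀ (fun i => by rw [lift_X]; exact hy₀)
      ((mem_maximalIdeal z).2 hn)) hz⟩
  let y : Fin n → B := fun k => X (p.succAbove k) - algebraMap A B (r (p.succAbove k)) * y₀
  have hy : ∀ k, y k ∈ maximalIdeal B := fun k => Ideal.sub_mem _ (X_mem _) (Ideal.mul_mem_left _ _ hy₀)
  let bwd₀ : T →ₐ[A₀] B := lift y hy
  let bwd : T →ₐ[A] B := bwd₀.restrictScalars A
  let u : Fin (n + 1) → T := fun i => algebraMap A T (r i) * algebraMap A₀ T (X 0) +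
    Fin.insertNth (α := fun _ => T) p 0 (fun k => X k) i
  have hu : ∀ i, u i ∈ maximalIdeal T := fun i => by
    refine add_mem (Ideal.mul_mem_left _ _ (map_nonunit (algebraMap A₀ T) _ (X_mem 0))) ?_
    refine Fin.succAboveCases p ?_ (fun k => ?_) i
    · rw [Fin.insertNth_apply_same]; exact zero_mem _
    · rw [Fin.insertNth_apply_succAbove]; exact X_mem k
  let fwd : B →ₐ[A] T := lift u hu
  have hj : bwd (algebraMap A₀ T (X 0)) = y₀ := by
    show bwd₀ (algebraMap A₀ T (X 0)) = y₀
    rw [AlgHom.commutes]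
    exact lift_X (fun _ => y₀) (fun _ => hy₀) 0
  have hbu : ∀ i, bwd (u i) = X i := by
    intro i
    simp only [u, map_add, map_mul, AlgHom.commutes, hj]
    refine Fin.succAboveCases p ?_ (fun k => ?_) i
    · rw [Fin.insertNth_apply_same, map_zero, add_zero, show y₀ = algebraMap A B s * X p from rfl, ← mul_assoc,
        ← map_mul, mul_comm (r p), hs, map_one, one_mul]
    · rw [Fin.insertNth_apply_succAbove, show bwd (X k) = y k from lift_X y hy k]
      simp [y]
  have h1 : bwd.comp fwd = AlgHom.id A B := by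
    refine hom_ext (fun i => ?_) fun i => ?_
    · rw [AlgHom.comp_apply, lift_X, AlgHom.id_apply, hbu]
    · rw [AlgHom.comp_apply, lift_X, hbu]
      exact X_mem i
  have hf₀ : fwd y₀ = algebraMap A₀ T (X 0) := by
    show fwd (algebraMap A B s * X p) = _
    rw [map_mul, AlgHom.commutes, lift_X]
    simp only [u, Fin.insertNth_apply_same, add_zero]
    rw [← mul_assoc, ← map_mul, hs, map_one, one_mul]
  have hfj : fwd.comp j₀ = IsScalarTower.toAlgHom A A₀ T := by
    refine hom_ext (fun i => ?_) fun i => ?_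
    · rw [Fin.fin_one_eq_zero i, AlgHom.comp_apply, lift_X, hf₀]
      rfl
    · rw [Fin.fin_one_eq_zero i, AlgHom.comp_apply, lift_X, hf₀]
      exact map_nonunit (algebraMap A₀ T) _ (X_mem 0)
  have hfk : ∀ k, fwd (y k) = X k := fun k => by
    simp only [y, map_sub, map_mul, AlgHom.commutes, hf₀]
    rw [lift_X]
    simp only [u, Fin.insertNth_apply_succAbove]
    ring
  have h2' : ({ fwd.toRingHom.comp bwd₀.toRingHom with
      commutes' := fun z => by
        show fwd (bwd₀ (algebraMap A₀ T z)) = _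
        rw [AlgHom.commutes]
        exact DFunLike.congr_fun hfj z } : T →ₐ[A₀] T) = AlgHom.id A₀ T := by
    refine hom_ext (fun k => ?_) fun k => ?_
    · show fwd (bwd₀ (X k)) = X k
      rw [lift_X, hfk]
    · show fwd (bwd₀ (X k)) ∈ _
      rw [lift_X, hfk]
      exact X_mem k
  have h2 : fwd.comp bwd = AlgHom.id A T := AlgHom.ext fun z => DFunLike.congr_fun h2' z
  exact ⟨AlgEquiv.ofAlgHom fwd bwd h2 h1, fun i => lift_X u hu i⟩

set_option maxHeartbeats 1000000 in
/-- A table congruent to a constant one is that table in other coordinates. -/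
theorem exists_table_eq {n : ℕ} {T : Type u} [CommRing T] [HenselianLocalRing T] [Algebra A T]
    [IsLocalHom (algebraMap A T)] (u : Matrix (Fin n) (Fin n) T) (hu : ∀ i j, j < i → u i j = 0)
    (a : Matrix (Fin n) (Fin n) A) (ha : ∀ i j, j < i → a i j = 0)
    (hua : ∀ i j, u i j - algebraMap A T (a i j) ∈ maximalIdeal T) (hP : IsUnit (a + aᵀ).det) :
    ∃ M : Matrix (Fin n) (Fin n) T, (∀ i j, M i j - (1 : Matrix (Fin n) (Fin n) T) i j ∈ maximalIdeal T) ∧
      sym (Mᵀ * a.map (algebraMap A T) * M) = u := by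
  classical
  have hsa : sym a = a := sym_eq_self a ha
  set P : Matrix (Fin n) (Fin n) A := a + aᵀ with hPdef
  let ι : A →+* H (Upp n) A := algebraMap A _
  let Tm : Matrix (Fin n) (Fin n) (H (Upp n) A) := uppMat X
  let N := P⁻¹.map ι * Tm
  let Φ : Upp n → H (Upp n) A := fun p =>
    sym ((1 + N)ᵀ * a.map ι * (1 + N)) p.1.1 p.1.2 - ι (a p.1.1 p.1.2)
  have hPN : (a.map ι + (a.map ι)ᵀ) * N = Tm := by
    rw [show a.map ι + (a.map ι)ᵀ = P.map ι by ext i j; simp [hPdef]]
    show P.map ι * (P⁻¹.map ι * Tm) = Tm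
    rw [← Matrix.mul_assoc, ← Matrix.map_mul, Matrix.mul_nonsing_inv P hP,
      Matrix.map_one ι (map_zero _) (map_one _), Matrix.one_mul]
  have hTsym : sym Tm = Tm := sym_eq_self _ fun i j hij => by simp [Tm, uppMat, hij.not_ge]
  have hΦ : ∀ p, Φ p = X p + sym (Nᵀ * a.map ι * N) p.1.1 p.1.2 := fun p => by
    have e : Tm p.1.1 p.1.2 = X p := by simp [Tm, uppMat, p.2]
    simp only [Φ, sym_expand, hPN, hTsym, Matrix.add_apply, e, ← map_sym, hsa, Matrix.map_apply]
    ring
  have hresN : ∀ i j, Hens.Hs.res (N i j) = 0 := by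
    intro i j
    simp only [N, Matrix.mul_apply, map_sum, map_mul]
    refine Finset.sum_eq_zero fun l _ => ?_
    have e : Hens.Hs.res (Tm l j) = 0 := by
      simp only [Tm, uppMat, Matrix.of_apply]
      split <;> simp [res_X]
    rw [e, mul_zero]
  have hlinN : ∀ v i j, lin v ((Nᵀ * a.map ι * N) i j) = 0 ∧ Hens.Hs.res ((Nᵀ * a.map ι * N) i j) = 0 := by
    intro v i j
    constructor <;>
      simp [Matrix.mul_apply, lin_sum, lin_mul, hresN, ι, lin_algebraMap, Finset.mul_sum, Finset.sum_mul]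
  have hΦlin : ∀ v p, lin v (Φ p) = v p := fun v p => by
    rw [hΦ, lin_add, lin_X]
    simp only [sym, Matrix.of_apply]
    split_ifs <;> simp [lin_add, (hlinN v _ _).1, show lin v (0 : H (Upp n) A) = 0 by simp [lin]]
  have hΦm : ∀ p, Φ p ∈ maximalIdeal (H (Upp n) A) := fun p => by
    rw [← Hens.Hs.res_eq_zero_iff, hΦ, map_add, res_X]
    simp only [sym, Matrix.of_apply]
    split_ifs <;> simp [(hlinN 0 _ _).2]
  let e := AlgEquiv.ofBijective (lift (A := A) Φ hΦm) (bijective_lift Φ hΦm fun v hv => funext fun p => by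
    simpa [hΦlin] using hv p)
  let s : Upp n → T := fun p => u p.1.1 p.1.2 - algebraMap A T (a p.1.1 p.1.2)
  have hsm : ∀ p, s p ∈ maximalIdeal T := fun p => hua _ _
  let ψ : H (Upp n) A →ₐ[A] T := (lift (A := A) s hsm).comp e.symm.toAlgHom
  have hψΦ : ∀ p, ψ (Φ p) = s p := fun p => by
    show lift (A := A) s hsm (e.symm (Φ p)) = s p
    rw [show Φ p = e (X p) from (lift_X Φ hΦm p).symm, AlgEquiv.symm_apply_apply, lift_X]
  have hψm : ∀ z ∈ maximalIdeal (H (Upp n) A), ψ z ∈ maximalIdeal T := fun z hz => by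
    refine map_mem_maximalIdeal (lift (A := A) s hsm) (fun i => by rw [lift_X]; exact hsm i) ?_
    rw [mem_maximalIdeal, mem_nonunits_iff] at hz ⊢
    exact fun hu => hz (by simpa using hu.map e)
  refine ⟨1 + N.map ψ, fun i j => ?_, ?_⟩
  · rw [Matrix.add_apply, add_sub_cancel_left, Matrix.map_apply]
    exact hψm _ ((Hens.Hs.res_eq_zero_iff _).1 (hresN i j))
  · ext i j
    rcases le_or_gt i j with hij | hij
    · have hp := hψΦ ⟨(i, j), hij⟩
      simp only [Φ, map_sub, s] at hp
      rw [AlgHom.commutes, sub_left_inj] at hp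
      rw [← hp]
      show _ = (sym ((1 + N)ᵀ * a.map ι * (1 + N))).map ψ.toRingHom i j
      rw [map_sym]
      congr 2
      simp only [Matrix.map_mul, ← Matrix.transpose_map]
      have e1 : (1 + N).map ψ.toRingHom = 1 + N.map ψ := by
        rw [Matrix.map_add _ (map_add _), Matrix.map_one _ (map_zero _) (map_one _)]
        rfl
      have e2 : (a.map ι).map ψ.toRingHom = a.map (algebraMap A T) := by
        ext i j
        exact ψ.commutes _
      rw [e1, e2, Matrix.transpose_map, e1]
    · rw [sym_apply_of_lt _ hij, hu i j hij]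

end Groth.Agent.HensCoord15
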