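import Groth.Agent.Lib.HensCoord15.Kappa
import Mathlib.Algebra.QuadraticAlgebra.Basic

/-!
# Preparation of an element of order two in `A{x}`
-/

set_option autoImplicit false
set_option linter.style.haveILetI false
set_option backward.isDefEq.respectTransparency.types false

universe u

open IsLocalRing

noncomputable section

namespace Groth.Agent.HensCoord15

theorem mk_re_im {U : Type u} [CommRing U] {a b : U} (z : QuadraticAlgebra U a b) (h : IsUnit z.norm) : IsUnit z :=
  QuadraticAlgebra.isUnit_iff_norm_isUnit.2 h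

theorem isUnit_iff_re {U : Type u} [CommRing U] [IsLocalRing U] {a b : U} (ha : a ∈ maximalIdeal U)
    (hb : b ∈ maximalIdeal U) (z : QuadraticAlgebra U a b) : IsUnit z ↔ IsUnit z.re := by
  rw [QuadraticAlgebra.isUnit_iff_norm_isUnit, QuadraticAlgebra.norm_def]
  have hm : b * z.re * z.im - a * z.im * z.im ∈ maximalIdeal U :=
    Ideal.sub_mem _ (Ideal.mul_mem_right _ _ (Ideal.mul_mem_right _ _ hb))
      (Ideal.mul_mem_right _ _ (Ideal.mul_mem_right _ _ ha))
  rw [← residue_ne_zero_iff_isUnit, ← residue_ne_zero_iff_isUnit, add_sub_assoc, map_add,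
    (residue_eq_zero_iff _).2 hm, add_zero, map_mul, mul_self_ne_zero]

theorem isLocalRing_quad {U : Type u} [CommRing U] [IsLocalRing U] {a b : U} (ha : a ∈ maximalIdeal U)
    (hb : b ∈ maximalIdeal U) : IsLocalRing (QuadraticAlgebra U a b) :=
  IsLocalRing.of_isUnit_or_isUnit_one_sub_self fun z => by
    rw [isUnit_iff_re ha hb, isUnit_iff_re ha hb]
    simpa [QuadraticAlgebra.re_one] using IsLocalRing.isUnit_or_isUnit_one_sub_self z.re

variable {A : Type u} [CommRing A] [HenselianLocalRing A]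

set_option maxHeartbeats 1000000 in
/-- **Weierstrass preparation** for elements of order two. -/
theorem exists_weierstrass (c g : H (Fin 1) A) (e₀ e₁ : A) (he₀ : e₀ ∈ maximalIdeal A) (he₁ : e₁ ∈ maximalIdeal A)
    (hc : c = algebraMap A _ e₀ + algebraMap A _ e₁ * X 0 + X 0 ^ 2 * g) (hg : Hens.Hs.res g ≠ 0) :
    ∃ b c₀ : A, b ∈ maximalIdeal A ∧ c₀ ∈ maximalIdeal A ∧ ∃ w : H (Fin 1) A, IsUnit w ∧
      c = w * (X 0 ^ 2 + algebraMap A _ b * X 0 + algebraMap A _ c₀) := by
  let bv : (H (Fin 2) A) := X 0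
  let cv : (H (Fin 2) A) := X 1
  have hbm : -bv ∈ maximalIdeal (H (Fin 2) A) := neg_mem (X_mem 0)
  have hcm : -cv ∈ maximalIdeal (H (Fin 2) A) := neg_mem (X_mem 1)
  haveI : IsLocalRing (QuadraticAlgebra (H (Fin 2) A) (-cv) (-bv)) := isLocalRing_quad hcm hbm
  haveI : HenselianLocalRing (QuadraticAlgebra (H (Fin 2) A) (-cv) (-bv)) := Hens.henselianLocalRing_of_isIntegral (H (Fin 2) A) (QuadraticAlgebra (H (Fin 2) A) (-cv) (-bv))
  haveI : IsLocalHom (algebraMap (H (Fin 2) A) (QuadraticAlgebra (H (Fin 2) A) (-cv) (-bv))) := ⟨fun z hz => by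
    have h := (isUnit_iff_re hcm hbm _).1 hz
    rwa [QuadraticAlgebra.algebraMap_eq] at h⟩
  haveI : IsLocalHom (algebraMap A (QuadraticAlgebra (H (Fin 2) A) (-cv) (-bv))) := by
    rw [IsScalarTower.algebraMap_eq A (H (Fin 2) A) (QuadraticAlgebra (H (Fin 2) A) (-cv) (-bv))]
    infer_instance
  let ω : (QuadraticAlgebra (H (Fin 2) A) (-cv) (-bv)) := ⟨0, 1⟩
  have hω : ω ∈ maximalIdeal (QuadraticAlgebra (H (Fin 2) A) (-cv) (-bv)) := (mem_maximalIdeal _).2 fun hu =>
    not_isUnit_zero (show IsUnit (0 : (H (Fin 2) A)) from (isUnit_iff_re hcm hbm ω).1 hu)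
  let φ : H (Fin 1) A →ₐ[A] (QuadraticAlgebra (H (Fin 2) A) (-cv) (-bv)) := lift (fun _ => ω) fun _ => hω
  have hφX : φ (X 0) = ω := lift_X (fun _ => ω) (fun _ => hω) 0
  set α := (φ c).re with hα
  set β := (φ c).im with hβ
  obtain ⟨γ₀, hγ₀⟩ := exists_residue_eq g
  have hγ : Hens.Hs.res (φ g).re = Hens.Hs.res g := by
    have h1 : φ (g - algebraMap A _ γ₀) ∈ maximalIdeal (QuadraticAlgebra (H (Fin 2) A) (-cv) (-bv)) :=
      map_mem_maximalIdeal φ (fun i => by rw [lift_X]; exact hω) hγ₀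
    rw [map_sub, AlgHom.commutes, mem_maximalIdeal, mem_nonunits_iff, isUnit_iff_re hcm hbm] at h1
    have h2 : Hens.Hs.res ((φ g).re - algebraMap A (H (Fin 2) A) γ₀) = 0 := by
      rw [Hens.Hs.res_eq_zero_iff, mem_maximalIdeal]
      intro hu
      refine h1 ?_
      rwa [QuadraticAlgebra.re_sub, IsScalarTower.algebraMap_apply A (H (Fin 2) A) (QuadraticAlgebra (H (Fin 2) A) (-cv) (-bv)), QuadraticAlgebra.algebraMap_eq]
    have h3 : Hens.Hs.res g = residue A γ₀ := by
      rw [← res_algebraMap (σ := Fin 1) γ₀, ← sub_eq_zero, ← map_sub, Hens.Hs.res_eq_zero_iff]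
      exact hγ₀
    rw [map_sub, res_algebraMap, sub_eq_zero] at h2
    rw [h2, h3]
  have hαe : α = algebraMap A (H (Fin 2) A) e₀ + (-cv) * ((φ g).re + (-bv) * (φ g).im) := by
    rw [hα, hc]
    simp [hφX, ω, pow_two, IsScalarTower.algebraMap_apply A (H (Fin 2) A) (QuadraticAlgebra (H (Fin 2) A) (-cv) (-bv)), QuadraticAlgebra.algebraMap_eq]
    ring
  have hβe : β = algebraMap A (H (Fin 2) A) e₁ + ((-bv) * (φ g).re + ((-cv) + (-bv) * (-bv)) * (φ g).im) := by
    rw [hβ, hc]
    simp [hφX, ω, pow_two, IsScalarTower.algebraMap_apply A (H (Fin 2) A) (QuadraticAlgebra (H (Fin 2) A) (-cv) (-bv)), QuadraticAlgebra.algebraMap_eq]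
    ring
  let G : Fin 2 → (H (Fin 2) A) := ![α, β]
  have hGm : ∀ i, G i ∈ maximalIdeal (H (Fin 2) A) := by
    intro i
    fin_cases i
    · show α ∈ _
      rw [hαe]
      exact add_mem (map_nonunit (algebraMap A (H (Fin 2) A)) _ he₀) (Ideal.mul_mem_right _ _ hcm)
    · show β ∈ _
      rw [hβe]
      exact add_mem (map_nonunit (algebraMap A (H (Fin 2) A)) _ he₁) (add_mem (Ideal.mul_mem_right _ _ hbm)
        (Ideal.mul_mem_right _ _ (add_mem hcm (Ideal.mul_mem_right _ _ hbm))))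
  have hneg : ∀ (v : Fin 2 → ResidueField A) (z : (H (Fin 2) A)), lin v (-z) = -lin v z := fun v z => by simp [lin]
  have hinj : ∀ v, (∀ i, lin v (G i) = 0) → v = 0 := by
    intro v hv
    have h0 : lin v α = 0 := hv 0
    have h1 : lin v β = 0 := hv 1
    rw [hαe] at h0
    rw [hβe] at h1
    simp [lin_add, lin_mul, hneg, lin_algebraMap, bv, cv, res_X, hγ, hg] at h0 h1
    funext i
    fin_cases i
    · simpa [h0, hg] using h1
    · exact h0
  let e := AlgEquiv.ofBijective (lift (A := A) G hGm) (bijective_lift G hGm hinj)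
  let θ : (H (Fin 2) A) →ₐ[A] A := (ev₀ (Fin 2) A).comp e.symm.toAlgHom
  have hθG : ∀ i, θ (G i) = 0 := fun i => by
    show ev₀ _ A (e.symm (G i)) = 0
    rw [show G i = e (X i) from (lift_X G hGm i).symm, AlgEquiv.symm_apply_apply, ev₀_X]
  have hθm : ∀ z ∈ maximalIdeal (H (Fin 2) A), θ z ∈ maximalIdeal A := fun z hz => by
    refine map_mem_maximalIdeal (ev₀ (Fin 2) A) (fun i => by simp) ?_
    rw [mem_maximalIdeal, mem_nonunits_iff] at hz ⊢
    exact fun hu => hz (by simpa using hu.map e)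
  set b := θ bv with hb
  set c₀ := θ cv with hc₀
  refine ⟨b, c₀, hθm _ (X_mem 0), hθm _ (X_mem 1), ?_⟩
  let P : H (Fin 1) A := X 0 ^ 2 + algebraMap A _ b * X 0 + algebraMap A _ c₀
  have hPm : P ∈ maximalIdeal (H (Fin 1) A) := add_mem (add_mem (Ideal.pow_mem_of_mem _ (X_mem 0) 2 two_pos)
    (Ideal.mul_mem_left _ _ (X_mem 0))) (map_nonunit (algebraMap A (H (Fin 1) A)) _ (hθm _ (X_mem 1)))
  let I := Ideal.span {P}
  have hI : I ≠ ⊤ := fun h => (maximalIdeal.isMaximal _).ne_top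
    (top_le_iff.1 (h.symm.le.trans ((Ideal.span_singleton_le_iff_mem _).2 hPm)))
  let T := H (Fin 1) A ⧸ I
  haveI : HenselianLocalRing T := henselianLocalRing_quotient I hI
  haveI : IsLocalHom (algebraMap A T) := isLocalHom_comp_mk I hI
  letI : Algebra (H (Fin 2) A) T := ((algebraMap A T).comp θ.toRingHom).toAlgebra
  haveI : IsScalarTower A (H (Fin 2) A) T := IsScalarTower.of_algebraMap_eq fun a => by
    show algebraMap A T a = algebraMap A T (θ (algebraMap A (H (Fin 2) A) a))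
    rw [AlgHom.commutes]
    rfl
  let x : T := Ideal.Quotient.mk I (X 0)
  have hx : x * x = (-cv) • 1 + (-bv) • x := by
    rw [Algebra.smul_def, Algebra.smul_def, mul_one]
    show _ = algebraMap A T (θ (-cv)) + algebraMap A T (θ (-bv)) * x
    rw [map_neg, map_neg, map_neg, map_neg, ← hb, ← hc₀]
    have hP0 : Ideal.Quotient.mk I P = 0 := Ideal.Quotient.eq_zero_iff_mem.2 (Ideal.mem_span_singleton_self P)
    simp only [P, map_add, map_mul, map_pow] at hP0
    show x * x = -Ideal.Quotient.mk I (algebraMap A _ c₀) + -Ideal.Quotient.mk I (algebraMap A _ b) * x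
    linear_combination hP0
  let ψ : (QuadraticAlgebra (H (Fin 2) A) (-cv) (-bv)) →ₐ[(H (Fin 2) A)] T := QuadraticAlgebra.lift ⟨x, hx⟩
  have hψω : ψ ω = x := by simp [ψ, ω, QuadraticAlgebra.lift]
  have hψφ : (ψ.restrictScalars A).comp φ = Ideal.Quotient.mkₐ A I := by
    refine hom_ext (fun i => ?_) fun i => ?_
    · rw [Fin.fin_one_eq_zero i]
      show ψ (φ (X 0)) = x
      rw [hφX, hψω]
    · rw [Fin.fin_one_eq_zero i]
      show ψ (φ (X 0)) ∈ _
      rw [hφX, hψω]
      haveI : IsLocalHom (Ideal.Quotient.mk I) := IsLocalHom.of_surjective _ Ideal.Quotient.mk_surjective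
      exact map_nonunit (Ideal.Quotient.mk I) _ (X_mem 0)
  have hc0 : Ideal.Quotient.mk I c = 0 := by
    rw [show Ideal.Quotient.mk I c = ψ (φ c) from (DFunLike.congr_fun hψφ c).symm]
    have h0 : algebraMap (H (Fin 2) A) T α = 0 := by show algebraMap A T (θ (G 0)) = 0; rw [hθG, map_zero]
    have h1 : algebraMap (H (Fin 2) A) T β = 0 := by show algebraMap A T (θ (G 1)) = 0; rw [hθG, map_zero]
    rw [show φ c = algebraMap (H (Fin 2) A) (QuadraticAlgebra (H (Fin 2) A) (-cv) (-bv)) α + algebraMap (H (Fin 2) A) (QuadraticAlgebra (H (Fin 2) A) (-cv) (-bv)) β * ω from by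
      ext <;> simp [ω, QuadraticAlgebra.algebraMap_eq, α, β]]
    rw [map_add, map_mul, AlgHom.commutes, AlgHom.commutes, h0, h1, zero_mul, add_zero]
  obtain ⟨w, hw⟩ := Ideal.mem_span_singleton'.1 (Ideal.Quotient.eq_zero_iff_mem.1 hc0)
  refine ⟨w, ?_, hw.symm⟩
  by_contra hwu
  haveI := isLocalHom_residue (A := A)
  let κ := kappa (A := A) (K := ResidueField A) 1
  have hz : ∀ a ∈ maximalIdeal A, algebraMap A (MvPowerSeries (Fin 1) (ResidueField A)) a = 0 := fun a ha => by
    rw [IsScalarTower.algebraMap_apply A (ResidueField A),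
      show algebraMap A (ResidueField A) a = 0 from (residue_eq_zero_iff a).2 ha, map_zero]
  have h := congrArg κ (hw.trans hc)
  simp only [P, map_mul, map_add, map_pow, AlgHom.commutes, hz _ he₀, hz _ he₁,
    hz _ (hθm _ (X_mem 0)), hz _ (hθm _ (X_mem 1)), hb, hc₀, bv, cv, κ, kappa_X, zero_mul, add_zero, zero_add] at h
  rw [mul_comm, mul_right_inj' (pow_ne_zero 2 ?_)] at h
  · refine hg (res_eq_zero_of_kappa (K := ResidueField A) g ?_)
    rw [← h, constantCoeff_kappa w 0 (by rw [map_zero]; exact (Hens.Hs.res_eq_zero_iff w).2 ((mem_maximalIdeal w).2 hwu)),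
      map_zero]
  · intro h0
    simpa [MvPowerSeries.coeff_X] using congrArg (MvPowerSeries.coeff (Finsupp.single (0 : Fin 1) 1)) h0

end Groth.Agent.HensCoord15
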