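import Groth.Agent.Lib.HensCoord15.Kappa
import Groth.Agent.Lib.HensCoord15.OrdSeries
import Groth.Agent.Lib.HensCoord15.Split
import Groth.Agent.Lib.HensCoord15.Weier

/-!
# The normal form of an element with ordinary quadratic part in residue characteristic two
-/

set_option autoImplicit false
set_option linter.style.haveILetI false
set_option backward.isDefEq.respectTransparency.types false

universe u

open IsLocalRing Matrix

noncomputable section

namespace Groth.Agent.HensCoord15

section Series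

variable {A : Type u} [CommRing A] [HenselianLocalRing A]
  {K : Type u} [Field K] [Algebra A K] [IsLocalHom (algebraMap A K)]

theorem algebraMap_eq_zero_of_mem {a : A} (ha : a ∈ maximalIdeal A) : algebraMap A K a = 0 := by
  by_contra hne
  exact (mem_maximalIdeal _).1 ha (IsLocalHom.map_nonunit (f := algebraMap A K) _ (isUnit_iff_ne_zero.2 hne))

theorem mem_of_algebraMap_eq_zero {a : A} (ha : algebraMap A K a = 0) : a ∈ maximalIdeal A :=
  (mem_maximalIdeal _).2 fun hu => (hu.map (algebraMap A K)).ne_zero ha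

theorem constantCoeff_hom {N m : ℕ} (f : H (Fin N) A →ₐ[A] MvPowerSeries (Fin m) K)
    (hf : ∀ i, MvPowerSeries.constantCoeff (f (X i)) = 0) (z : H (Fin N) A) (a : A)
    (ha : z - algebraMap A _ a ∈ maximalIdeal _) :
    MvPowerSeries.constantCoeff (f z) = algebraMap A K a := by
  have h := map_mem_maximalIdeal f (fun i => by
    rw [H2Alg.PSHom.maximalIdeal_eq]; exact PSIdeal.mem_varIdeal (hf i)) ha
  rw [H2Alg.PSHom.maximalIdeal_eq] at h
  have h' := PSIdeal.constantCoeff_of_mem (f := f (z - algebraMap A _ a)) h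
  rwa [map_sub, map_sub, AlgHom.commutes, MvPowerSeries.algebraMap_apply, MvPowerSeries.constantCoeff_C,
    sub_eq_zero] at h'

/-- All series images of an element without linear part have their quadratic parts read off one table. -/
theorem exists_table {N : ℕ} (F : H (Fin N) A) (hF0 : Hens.Hs.res F = 0) (hl : ∀ v, lin v F = 0) :
    ∃ R : Matrix (Fin N) (Fin N) A, ∀ (m : ℕ) (f : H (Fin N) A →ₐ[A] MvPowerSeries (Fin m) K),
      (∀ i, MvPowerSeries.constantCoeff (f (X i)) = 0) →
      VanCyc.NoLowTerms (f F) ∧ Matrix.of (VanCyc.quadPart (f F)) =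
        sym ((Matrix.of fun i l => QuadSing19.lin (f (X i)) l)ᵀ * R.map (algebraMap A K) *
          Matrix.of fun i l => QuadSing19.lin (f (X i)) l) := by
  classical
  obtain ⟨l, h, hFe⟩ := exists_expansion₂ F
  set b := ev₀ (Fin N) A F
  have hb : algebraMap A K b = 0 := algebraMap_eq_zero_of_mem
    ((residue_eq_zero_iff b).1 (by rw [residue_ev₀, hF0]))
  have hlz : ∀ i, algebraMap A K (l i) = 0 := fun i => by
    have h1 := hl (Pi.single i 1)
    rw [hFe, lin_expansion] at h1
    exact algebraMap_eq_zero_of_mem (by simpa [Pi.single_apply, residue_eq_zero_iff] using h1)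
  choose R hR using fun i j => exists_residue_eq (h i j)
  refine ⟨Matrix.of R, fun m f hf => ?_⟩
  obtain ⟨h0, h1, h2⟩ := quadPart_expansion (fun i j => f (h i j)) (fun i => f (X i)) hf
  have e : f F = ∑ i, ∑ j, f (h i j) * (f (X i) * f (X j)) := by
    rw [hFe]
    simp [map_sum, MvPowerSeries.algebraMap_apply, hb, hlz, mul_assoc]
  rw [← e] at h0 h1 h2
  refine ⟨⟨h0, h1⟩, ?_⟩
  rw [h2, show (Matrix.of fun i j => MvPowerSeries.constantCoeff (f (h i j))) = (Matrix.of R).map (algebraMap A K) from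
    Matrix.ext fun i j => constantCoeff_hom f hf _ _ (hR i j)]

/-- An element whose series has no low terms has no linear part. -/
theorem low_of_kappa {m : ℕ} (z : H (Fin m) A) (h0 : VanCyc.NoLowTerms (kappa (K := K) m z)) :
    Hens.Hs.res z = 0 ∧ ∀ v, lin v z = 0 := by
  classical
  refine ⟨res_eq_zero_of_kappa (K := K) z h0.1, fun v => ?_⟩
  obtain ⟨l, h, hz⟩ := exists_expansion₂ z
  set b := ev₀ (Fin m) A z
  obtain ⟨-, hlq, -⟩ := quadPart_expansion (fun i j => kappa (K := K) m (h i j))
    (fun i => (MvPowerSeries.X i : MvPowerSeries (Fin m) K)) fun i => MvPowerSeries.constantCoeff_X i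
  have hl : ∀ i, residue A (l i) = 0 := fun i => by
    rw [residue_eq_zero_iff]
    refine mem_of_algebraMap_eq_zero (K := K) ?_
    have h1 := h0.2 i
    rw [hz] at h1
    simp only [map_add, map_sum, map_mul, AlgHom.commutes, kappa_X, mul_assoc] at h1
    have h2 := hlq i
    simp only [QuadSing19.lin, map_sum] at h2
    rw [h2, add_zero] at h1
    simpa [MvPowerSeries.algebraMap_apply, MvPowerSeries.coeff_C, MvPowerSeries.coeff_X,
      Finsupp.single_eq_single_iff] using h1
  rw [hz, lin_expansion]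
  simp [hl]

/-- The kernel vector of the polar form of an odd alternating table. -/
theorem exists_kernel_vector (h2 : (2 : ResidueField A) = 0) {m : ℕ} (R : Matrix (Fin (2 * m + 1)) (Fin (2 * m + 1)) A) :
    ∃ (r : Fin (2 * m + 1) → A) (p : Fin (2 * m + 1)), IsUnit (r p) ∧
      (R.map (algebraMap A K) + (R.map (algebraMap A K))ᵀ) *ᵥ (fun i => algebraMap A K (r i)) = 0 := by
  classical
  have hd : ((R + Rᵀ).map (residue A)).det = 0 := by
    refine det_eq_zero_of_alternating h2 _ ?_ fun i => ?_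
    · rw [← transpose_map, transpose_add, transpose_transpose]
      exact congrArg (fun M : Matrix _ _ A => M.map (residue A)) (add_comm _ _)
    · rw [Matrix.map_apply, Matrix.add_apply, transpose_apply, ← two_mul, map_mul, map_ofNat, h2, zero_mul]
  obtain ⟨v, hv0, hv⟩ := Matrix.exists_mulVec_eq_zero_iff.2 hd
  choose r hr using fun i => residue_surjective (v i)
  obtain ⟨p, hp⟩ := Function.ne_iff.1 hv0
  refine ⟨r, p, (residue_ne_zero_iff_isUnit _).1 (by rw [hr]; exact hp), funext fun i => ?_⟩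
  have h1 : residue A (((R + Rᵀ) *ᵥ r) i) = 0 := by
    rw [RingHom.map_mulVec, show residue A ∘ r = v from funext hr, hv]
    rfl
  have h3 := algebraMap_eq_zero_of_mem (K := K) ((residue_eq_zero_iff _).1 h1)
  rw [RingHom.map_mulVec, Matrix.map_add _ (map_add _), transpose_map] at h3
  exact h3

variable [IsAlgClosed K]

/-- Transversally to the kernel the polar form is non-degenerate. -/
theorem isUnit_det_transversal {n : ℕ} (W : Matrix (Fin (n + 1)) (Fin (n + 1)) K) (hW : OrdTable W)
    (r : Fin (n + 1) → K) (p : Fin (n + 1)) (hp : r p ≠ 0) (hr : (W + Wᵀ) *ᵥ r = 0)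
    (L : Matrix (Fin (n + 1)) (Fin n) K) (hLp : ∀ k, L p k = 0)
    (hL : ∀ j k, L (p.succAbove j) k = if j = k then 1 else 0) : IsUnit (Lᵀ * (W + Wᵀ) * L).det := by
  classical
  rw [isUnit_iff_ne_zero]
  intro hd
  obtain ⟨v, hv0, hv⟩ := Matrix.exists_mulVec_eq_zero_iff.2 hd
  rw [← mulVec_mulVec, ← mulVec_mulVec] at hv
  set w := (W + Wᵀ) *ᵥ (L *ᵥ v) with hw
  have h1 : ∀ j, w (p.succAbove j) = 0 := fun j => by
    have h := congrFun hv j
    simp only [mulVec, dotProduct, transpose_apply, Pi.zero_apply] at h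
    rw [Fin.sum_univ_succAbove _ p, hLp, zero_mul, zero_add] at h
    simpa [hL] using h
  have h2 : r ⬝ᵥ w = 0 := by
    rw [hw, dotProduct_mulVec, ← mulVec_transpose, transpose_add, transpose_transpose, add_comm Wᵀ, hr, zero_dotProduct]
  have h3 : w = 0 := funext fun i => by
    refine Fin.succAboveCases p ?_ h1 i
    rw [dotProduct, Fin.sum_univ_succAbove _ p] at h2
    simp only [h1, mul_zero, Finset.sum_const_zero, add_zero] at h2
    exact (mul_eq_zero.1 h2).resolve_left hp
  obtain ⟨s, hs⟩ := hW.exists_smul hr (fun h => hp (by rw [h]; rfl)) h3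
  have h4 := congrFun hs p
  simp only [mulVec, dotProduct, hLp, zero_mul, Finset.sum_const_zero, Pi.smul_apply, smul_eq_mul] at h4
  rw [(mul_eq_zero.1 h4.symm).resolve_right hp, zero_smul] at hs
  refine hv0 (funext fun k => ?_)
  have h5 := congrFun hs (p.succAbove k)
  simpa [mulVec, dotProduct, hL] using h5

end Series

section Const

variable {A : Type u} [CommRing A] [HenselianLocalRing A] {n : ℕ}

set_option maxHeartbeats 1000000 in
/-- Making the table constant: `c + Q_a` becomes a multiple of `P + Q_{a'}`. -/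
theorem exists_const_normalForm (a : Fin n → Fin n → H (Fin 1) A) (ha : VanCyc.QuadNondeg a)
    (w P : H (Fin 1) A) (hw : IsUnit w) :
    ∃ (a' : Fin n → Fin n → A) (σ : H (Fin n) (H (Fin 1) A) ≃ₐ[H (Fin 1) A] H (Fin n) (H (Fin 1) A)),
      VanCyc.QuadNondeg a' ∧
      σ (algebraMap (H (Fin 1) A) (H (Fin n) (H (Fin 1) A)) (w * P) +
          VanCyc.quadEval (fun i j => algebraMap (H (Fin 1) A) (H (Fin n) (H (Fin 1) A)) (a i j)) X) =
        algebraMap (H (Fin 1) A) _ w * (algebraMap (H (Fin 1) A) _ P +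
          VanCyc.quadEval (fun i j => algebraMap A (H (Fin n) (H (Fin 1) A)) (a' i j)) X) := by
  classical
  obtain ⟨wi, hwi⟩ := hw.exists_left_inv
  let u : Matrix (Fin n) (Fin n) (H (Fin 1) A) := Matrix.of fun i j => if i ≤ j then wi * a i j else 0
  let a' : Matrix (Fin n) (Fin n) A := u.map (ev₀ (Fin 1) A)
  have hu : ∀ i j, j < i → u i j = 0 := fun i j h => by simp [u, h.not_ge]
  have ha' : ∀ i j, j < i → a' i j = 0 := fun i j h => by simp [a', hu i j h]
  have hua : ∀ i j, u i j - algebraMap A _ (a' i j) ∈ maximalIdeal (H (Fin 1) A) := fun i j => by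
    rw [← Hens.Hs.res_eq_zero_iff, map_sub, res_algebraMap]
    simp [a', residue_ev₀]
  have hpol : VanCyc.polarMatrix u = wi • Matrix.of (VanCyc.polarMatrix a) := by
    ext i j
    simp only [VanCyc.polarMatrix, u, of_apply, Matrix.smul_apply, smul_eq_mul]
    rcases lt_trichotomy i j with h | rfl | h
    · simp [h.ne, h, h.le]
    · simp; ring
    · simp [h.ne', h.not_gt, h, h.ne, h.le]
  have hP : IsUnit (a' + a'ᵀ).det := by
    refine isUnit_of_map_unit (algebraMap A (H (Fin 1) A)) _ ?_
    rw [RingHom.map_det, RingHom.mapMatrix_apply, ← residue_ne_zero_iff_isUnit, RingHom.map_det,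
      RingHom.mapMatrix_apply]
    have e : ((a' + a'ᵀ).map (algebraMap A (H (Fin 1) A))).map (residue _) = (u + uᵀ).map (residue _) := by
      ext i j
      simp only [Matrix.map_apply, Matrix.add_apply, transpose_apply, map_add]
      exact congrArg₂ (· + ·) (Ideal.Quotient.eq.2 (hua i j)).symm (Ideal.Quotient.eq.2 (hua j i)).symm
    rw [e, ← RingHom.mapMatrix_apply, ← RingHom.map_det, residue_ne_zero_iff_isUnit, ← polarMatrix_eq,
      sym_eq_self u hu, hpol, Matrix.det_smul]
    exact ((IsUnit.of_mul_eq_one _ hwi).pow _).mul ha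
  obtain ⟨M, hM, hMu⟩ := exists_table_eq u hu a' ha' hua hP
  let y : Fin n → H (Fin n) (H (Fin 1) A) := M.map (algebraMap (H (Fin 1) A) _) *ᵥ X
  have hy : ∀ i, y i ∈ maximalIdeal (H (Fin n) (H (Fin 1) A)) := fun i =>
    show ∑ j, M.map (algebraMap (H (Fin 1) A) (H (Fin n) (H (Fin 1) A))) i j * X j ∈ _ from
      sum_mem fun j _ => Ideal.mul_mem_left _ _ (X_mem j)
  have hlin : ∀ v i, lin v (y i) = v i := fun v i => by
    have hm : ∀ j, residue (H (Fin 1) A) (M i j) = (1 : Matrix (Fin n) (Fin n) (ResidueField (H (Fin 1) A))) i j :=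
      fun j => (Ideal.Quotient.eq.2 (hM i j)).trans (by
        show residue _ ((1 : Matrix (Fin n) (Fin n) (H (Fin 1) A)) i j) = _
        simp [Matrix.one_apply, apply_ite (residue (H (Fin 1) A))])
    simp [y, mulVec, dotProduct, lin_sum, lin_mul, res_X, res_algebraMap, hm, Matrix.one_apply]
  let σe := AlgEquiv.ofBijective (lift (A := H (Fin 1) A) y hy) (bijective_lift y hy fun v hv => funext fun i => by
    simpa [hlin] using hv i)
  have hσ : ∀ i, σe (X i) = y i := fun i => lift_X y hy i
  refine ⟨a', σe.symm, ?_, ?_⟩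
  · show IsUnit (VanCyc.polarMatrix a').det
    rw [← sym_eq_self a' ha', polarMatrix_eq]
    exact hP
  · rw [AlgEquiv.symm_apply_eq]
    simp only [map_mul, map_add, AlgEquiv.commutes, VanCyc.quadEval, map_sum, apply_ite σe, map_zero]
    have hc : ∀ i j, σe (algebraMap A (H (Fin n) (H (Fin 1) A)) (a' i j)) =
        algebraMap A (H (Fin n) (H (Fin 1) A)) (a' i j) := fun i j => σe.commutes (algebraMap A (H (Fin 1) A) (a' i j))
    simp only [hc, hσ]
    rw [mul_add]
    congr 1
    have hu' : VanCyc.quadEval (u.map (algebraMap (H (Fin 1) A) (H (Fin n) (H (Fin 1) A)))) X =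
        algebraMap (H (Fin 1) A) _ wi * VanCyc.quadEval (fun i j => algebraMap (H (Fin 1) A) _ (a i j)) X := by
      simp only [VanCyc.quadEval, Finset.mul_sum]
      refine Finset.sum_congr rfl fun i _ => Finset.sum_congr rfl fun j _ => ?_
      by_cases h : i ≤ j
      · simp [h, u, mul_assoc]
      · simp [h]
    rw [← hMu, map_sym, Matrix.map_mul, Matrix.map_mul, Matrix.transpose_map, Matrix.map_map,
      show (algebraMap (H (Fin 1) A) (H (Fin n) (H (Fin 1) A)) : _ → _) ∘ algebraMap A (H (Fin 1) A) =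
        algebraMap A (H (Fin n) (H (Fin 1) A)) from rfl,
      ← quadEval_mulVec (a'.map _) (fun i j h => by simp [ha' i j h])] at hu'
    show VanCyc.quadEval (fun i j => algebraMap (H (Fin 1) A) (H (Fin n) (H (Fin 1) A)) (a i j)) X =
      _ * VanCyc.quadEval (a'.map (algebraMap A (H (Fin n) (H (Fin 1) A)))) y
    rw [hu', ← mul_assoc, ← map_mul, mul_comm w, hwi, map_one, one_mul]

end Const

theorem map_quadEval {R : Type u} {S : Type u} [CommRing R] [CommRing S] {F : Type*} [FunLike F R S] [RingHomClass F R S]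
    (f : F) {N : ℕ} (a : Fin N → Fin N → R) (v : Fin N → R) :
    f (VanCyc.quadEval a v) = VanCyc.quadEval (fun i j => f (a i j)) fun i => f (v i) := by
  simp only [VanCyc.quadEval, map_sum, apply_ite f, map_mul, map_zero]

section Main

variable {A : Type u} [CommRing A] [HenselianLocalRing A]
  {K : Type u} [Field K] [IsAlgClosed K] [Algebra A K] [IsLocalHom (algebraMap A K)]

variable (A K) in
/-- The value at the origin of the closed fibre, with values in `K`. -/
def evK : H (Fin 1) A →+* K :=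
  (MvPowerSeries.constantCoeff).comp (kappa (A := A) (K := K) 1).toRingHom

theorem evK_algebraMap (a : A) : evK A K (algebraMap A _ a) = algebraMap A K a := by
  show MvPowerSeries.constantCoeff (kappa 1 (algebraMap A _ a)) = _
  rw [AlgHom.commutes, MvPowerSeries.algebraMap_apply, MvPowerSeries.constantCoeff_C]

theorem evK_X : evK A K (X 0) = 0 := by
  show MvPowerSeries.constantCoeff (kappa 1 (X 0)) = _
  rw [kappa_X, MvPowerSeries.constantCoeff_X]

theorem isLocalHom_evK : IsLocalHom (evK A K) where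
  map_nonunit z hz := by
    by_contra hn
    refine hz.ne_zero ?_
    show MvPowerSeries.constantCoeff (kappa 1 z) = 0
    rw [constantCoeff_kappa z 0 (by rw [map_zero]; exact (Hens.Hs.res_eq_zero_iff z).2 ((mem_maximalIdeal z).2 hn)),
      map_zero]

/-- Linear parts of an endomorphism hitting the coordinates. -/
theorem injective_lin_of_surjective {N : ℕ} (f : H (Fin N) A →ₐ[A] MvPowerSeries (Fin N) K)
    (hf : ∀ i, MvPowerSeries.constantCoeff (f (X i)) = 0) (hs : ∀ i, ∃ z, f z = MvPowerSeries.X i) :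
    Function.Injective (Matrix.of fun i l => QuadSing19.lin (f (X i)) l).mulVec := by
  classical
  choose z hz using hs
  choose g hg using fun k => exists_eq_add_sum (z k)
  have h : (Matrix.of fun k i => MvPowerSeries.constantCoeff (f (g k i))) *
      (Matrix.of fun i l => QuadSing19.lin (f (X i)) l) = 1 := by
    ext k l
    have h1 := congrArg f (hg k)
    rw [hz, map_add, map_sum, AlgHom.commutes] at h1
    have h2 := congrArg (fun s => QuadSing19.lin s l) h1
    simp only [QuadSing19.lin, map_add, map_sum, map_mul, QuadSing19.coeff_single_mul, hf] at h2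
    rw [Matrix.mul_apply, ← lin_X_matrix (K := K) (n := N)]
    simp only [of_apply]
    refine Eq.trans ?_ h2.symm
    rw [show MvPowerSeries.coeff (Finsupp.single l 1) (algebraMap A (MvPowerSeries (Fin N) K) (ev₀ (Fin N) A (z k))) = 0 by
      simp [MvPowerSeries.algebraMap_apply, MvPowerSeries.coeff_C], zero_add]
    exact Finset.sum_congr rfl fun i _ => by simp [QuadSing19.lin, mul_comm]
  intro v w hvw
  simpa [mulVec_mulVec, h] using congrArg (Matrix.of fun k i => MvPowerSeries.constantCoeff (f (g k i))).mulVec hvw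

set_option maxHeartbeats 2000000 in
/-- The normal form `x₀² + b x₀ + c + Q'` up to a unit. -/
theorem exists_normalForm_ord (h2 : (2 : ResidueField A) = 0) {m : ℕ} (F : H (Fin (2 * m + 1)) A)
    (hord : VanCyc.OrdQuadSeries (kappa (K := K) (2 * m + 1) F)) :
    ∃ (a' : Fin (2 * m) → Fin (2 * m) → A) (b c₀ : A), VanCyc.QuadNondeg a' ∧ b ∈ maximalIdeal A ∧
      c₀ ∈ maximalIdeal A ∧ ∃ (Φ : H (Fin (2 * m + 1)) A ≃ₐ[A] H (Fin (2 * m + 1)) A) (w : H (Fin (2 * m + 1)) A),
        IsUnit w ∧ Φ F = w * (X 0 ^ 2 + algebraMap A _ b * X 0 + algebraMap A _ c₀ +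
          VanCyc.quadEval (fun i j => algebraMap A (H (Fin (2 * m + 1)) A) (a' i j)) fun i => X i.succ) := by
  classical
  obtain ⟨hF0, hl⟩ := low_of_kappa (K := K) F hord.1
  obtain ⟨R, hR⟩ := exists_table (K := K) F hF0 hl
  set W := R.map (algebraMap A K) with hWdef
  have hW : OrdTable W := by
    rw [← quadOrd_sym_iff]
    have h := (hR _ (kappa (K := K) (2 * m + 1)) fun i => by rw [kappa_X, MvPowerSeries.constantCoeff_X]).2
    simp only [kappa_X, lin_X_matrix, transpose_one, Matrix.one_mul, Matrix.mul_one] at h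
    rw [← h]
    exact hord.2
  have h2K : (2 : K) = 0 := by
    rw [← map_ofNat (algebraMap A K) 2]
    exact algebraMap_eq_zero_of_mem ((residue_eq_zero_iff _).1 (by rw [map_ofNat, h2]))
  obtain ⟨r, p, hp, hker⟩ := exists_kernel_vector (K := K) h2 R
  obtain ⟨Ψ, hΨ⟩ := exists_split r p hp
  obtain ⟨E, hE⟩ := exists_split (Pi.single (0 : Fin (2 * m + 1)) (1 : A)) 0 (by simp)
  -- the transversal non-degeneracy
  letI : Algebra (H (Fin 1) A) K := (evK A K).toAlgebra
  haveI : IsLocalHom (algebraMap (H (Fin 1) A) K) := isLocalHom_evK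
  haveI : IsScalarTower A (H (Fin 1) A) K := IsScalarTower.of_algebraMap_eq fun a => (evK_algebraMap a).symm
  haveI : IsScalarTower A (H (Fin 1) A) (MvPowerSeries (Fin (2 * m)) K) := IsScalarTower.of_algebraMap_eq fun a => by
    simp [MvPowerSeries.algebraMap_apply, ← IsScalarTower.algebraMap_apply A (H (Fin 1) A) K]
  let f' : H (Fin (2 * m + 1)) A →ₐ[A] MvPowerSeries (Fin (2 * m)) K :=
    ((kappa (A := H (Fin 1) A) (K := K) (2 * m)).restrictScalars A).comp Ψ.toAlgHom
  have hf' : ∀ i, f' (X i) = Fin.insertNth (α := fun _ => MvPowerSeries (Fin (2 * m)) K) p 0 (fun k => MvPowerSeries.X k) i := by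
    intro i
    show kappa (A := H (Fin 1) A) (K := K) (2 * m) (Ψ (X i)) = _
    rw [hΨ, map_add, map_mul, AlgHom.commutes]
    rw [show algebraMap (H (Fin 1) A) (MvPowerSeries (Fin (2 * m)) K) (X 0) = 0 by
      rw [MvPowerSeries.algebraMap_apply, show algebraMap (H (Fin 1) A) K (X 0) = 0 from evK_X, map_zero],
      mul_zero, zero_add]
    refine Fin.succAboveCases p ?_ (fun k => ?_) i
    · simp
    · simp
  obtain ⟨hG1, hG2⟩ := hR _ f' fun i => by
    rw [hf']
    refine Fin.succAboveCases p ?_ (fun k => ?_) i <;> simp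
  have hG : HessNondeg (Ψ F) := by
    obtain ⟨hres, hlin⟩ := low_of_kappa (K := K) (Ψ F) hG1
    refine (kappa_facts (K := K) (Ψ F) hres hlin).2.2 ?_
    rw [QuadSing19.hess_eq_polarMatrix]
    rw [show VanCyc.quadPart (kappa (A := H (Fin 1) A) (K := K) (2 * m) (Ψ F)) = _ from hG2, polarMatrix_eq]
    set L : Matrix (Fin (2 * m + 1)) (Fin (2 * m)) K := Matrix.of fun i l => QuadSing19.lin (f' (X i)) l with hLdef
    rw [show Lᵀ * W * L + (Lᵀ * W * L)ᵀ = Lᵀ * (W + Wᵀ) * L by
      rw [transpose_mul, transpose_mul, transpose_transpose, Matrix.mul_add, Matrix.add_mul, Matrix.mul_assoc Lᵀ Wᵀ L]]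
    refine isUnit_det_transversal W hW (fun i => algebraMap A K (r i)) p (hp.map _).ne_zero hker L (fun k => ?_)
      fun j k => ?_
    · simp [hLdef, hf', QuadSing19.lin]
    · simp only [hLdef, of_apply, hf', Fin.insertNth_apply_succAbove, QuadSing19.lin_X, Pi.single_apply]
      simp [eq_comm]
  obtain ⟨hres, hlin⟩ := low_of_kappa (K := K) (Ψ F) hG1
  obtain ⟨a, c, Φ₀, ha, -, hΦ₀⟩ := exists_normalForm (Ψ F) hres hlin hG
  -- expansion of the one-variable part
  obtain ⟨g₁, hg₁⟩ := exists_eq_add_sum c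
  obtain ⟨g₂, hg₂⟩ := exists_eq_add_sum (g₁ 0)
  set e₀ := ev₀ (Fin 1) A c
  set e₁ := ev₀ (Fin 1) A (g₁ 0)
  have hc : c = algebraMap A _ e₀ + algebraMap A _ e₁ * X 0 + X 0 ^ 2 * g₂ 0 := by
    conv_lhs => rw [hg₁, Fin.sum_univ_one, hg₂, Fin.sum_univ_one]
    ring
  let Θ : H (Fin (2 * m + 1)) A ≃ₐ[A] H (Fin (2 * m + 1)) A := (Ψ.trans (Φ₀.restrictScalars A)).trans E.symm
  let f : H (Fin (2 * m + 1)) A →ₐ[A] MvPowerSeries (Fin (2 * m + 1)) K := (kappa (2 * m + 1)).comp Θ.toAlgHom
  have hmax : ∀ z ∈ maximalIdeal (H (Fin (2 * m + 1)) A),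
      MvPowerSeries.constantCoeff (kappa (K := K) (2 * m + 1) z) = 0 := fun z hz => by
    rw [constantCoeff_kappa z 0 (by rw [map_zero]; exact (Hens.Hs.res_eq_zero_iff z).2 hz), map_zero]
  have hf : ∀ i, MvPowerSeries.constantCoeff (f (X i)) = 0 := fun i =>
    hmax _ ((mem_maximalIdeal _).2 fun hu => not_isUnit_X i (by simpa using hu.map Θ.symm))
  have hL := injective_lin_of_surjective f hf fun i => ⟨Θ.symm (X i), by
    show kappa (2 * m + 1) (Θ (Θ.symm (X i))) = _
    rw [Θ.apply_symm_apply, kappa_X]⟩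
  obtain ⟨hlow, hquad⟩ := hR _ f hf
  have hord' : VanCyc.QuadOrd (VanCyc.quadPart (f F)) := by
    rw [show VanCyc.quadPart (f F) = _ from hquad, quadOrd_sym_iff]
    simpa using hW.congr _ hL 1 one_ne_zero
  let j : H (Fin 1) A → H (Fin (2 * m + 1)) A := fun z => E.symm (algebraMap (H (Fin 1) A) (H (Fin (2 * m)) (H (Fin 1) A)) z)
  have hE0 : E.symm (algebraMap (H (Fin 1) A) (H (Fin (2 * m)) (H (Fin 1) A)) (X 0)) = X 0 := by
    rw [AlgEquiv.symm_apply_eq, hE]
    simp
  have hEk : ∀ k, E.symm (X (A := H (Fin 1) A) k) = X k.succ := fun k => by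
    rw [AlgEquiv.symm_apply_eq, hE]
    simp [Fin.insertNth_zero', Fin.succ_ne_zero]
  have hEA : ∀ e : A, E.symm (algebraMap (H (Fin 1) A) (H (Fin (2 * m)) (H (Fin 1) A)) (algebraMap A _ e)) =
      algebraMap A _ e := fun e => E.symm.commutes e
  have hfF : f F = algebraMap A _ e₀ + algebraMap A _ e₁ * MvPowerSeries.X 0 +
      (MvPowerSeries.X 0 * MvPowerSeries.X 0 * kappa (2 * m + 1) (j (g₂ 0)) +
      VanCyc.quadEval (fun k l => kappa (K := K) (2 * m + 1) (j (a k l))) fun k => MvPowerSeries.X k.succ) := by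
    show kappa (2 * m + 1) (E.symm (Φ₀ (Ψ F))) = _
    rw [hΦ₀, hc]
    simp only [map_add, map_mul, map_pow]
    rw [map_quadEval E.symm, map_quadEval (kappa (A := A) (K := K) (2 * m + 1))]
    simp only [hEk, kappa_X, hE0, hEA, AlgHom.commutes, j]
    ring
  let G'' : Fin (2 * m + 1) → Fin (2 * m + 1) → MvPowerSeries (Fin (2 * m + 1)) K :=
    Fin.cases (Fin.cases (kappa (2 * m + 1) (j (g₂ 0))) fun _ => 0)
      fun k => Fin.cases 0 fun l => if k ≤ l then kappa (2 * m + 1) (j (a k l)) else 0
  obtain ⟨hq0, hq1, hq2⟩ := quadPart_expansion G'' (fun i => (MvPowerSeries.X i : MvPowerSeries (Fin (2 * m + 1)) K))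
    fun i => MvPowerSeries.constantCoeff_X i
  have hsum : ∑ i, ∑ l, G'' i l * (MvPowerSeries.X i * MvPowerSeries.X l) =
      MvPowerSeries.X 0 * MvPowerSeries.X 0 * kappa (2 * m + 1) (j (g₂ 0)) +
      VanCyc.quadEval (fun k l => kappa (K := K) (2 * m + 1) (j (a k l))) fun k => MvPowerSeries.X k.succ := by
    simp only [Fin.sum_univ_succ, G'', Fin.cases_zero, Fin.cases_succ, zero_mul, Finset.sum_const_zero, add_zero,
      zero_add, VanCyc.quadEval, ite_mul]
    exact congrArg₂ (· + ·) (mul_comm _ _) (Finset.sum_congr rfl fun k _ => Finset.sum_congr rfl fun l _ => by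
      split <;> ring)
  rw [← hsum] at hfF
  have he₀ : algebraMap A K e₀ = 0 := by
    have h := hlow.1
    rw [hfF, map_add, map_add, hq0, map_mul, MvPowerSeries.algebraMap_apply, MvPowerSeries.constantCoeff_C,
      MvPowerSeries.constantCoeff_X, mul_zero, add_zero, add_zero] at h
    exact h
  have he₁ : algebraMap A K e₁ = 0 := by
    have h := hlow.2 0
    have h' := hq1 0
    rw [QuadSing19.lin] at h'
    rw [hfF, map_add, map_add, h', add_zero] at h
    simpa [MvPowerSeries.algebraMap_apply, MvPowerSeries.coeff_C, MvPowerSeries.coeff_X] using h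
  rw [MvPowerSeries.algebraMap_apply, MvPowerSeries.algebraMap_apply, he₀, he₁, map_zero, zero_mul, zero_add,
    zero_add] at hfF
  rw [hfF, show VanCyc.quadPart (∑ i, ∑ l, G'' i l * (MvPowerSeries.X i * MvPowerSeries.X l)) = _ from hq2,
    lin_X_matrix, transpose_one, Matrix.one_mul, Matrix.mul_one, quadOrd_sym_iff] at hord'
  have hg : Hens.Hs.res (g₂ 0) ≠ 0 := by
    intro h0
    have h00 : MvPowerSeries.constantCoeff (kappa (K := K) (2 * m + 1) (j (g₂ 0))) = 0 := hmax _ (by
      rw [mem_maximalIdeal]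
      intro hu
      refine (mem_maximalIdeal _).1 ((Hens.Hs.res_eq_zero_iff _).1 h0) ?_
      have h := hu.map E
      rw [show E (j (g₂ 0)) = algebraMap (H (Fin 1) A) (H (Fin (2 * m)) (H (Fin 1) A)) (g₂ 0) from E.apply_symm_apply _] at h
      exact isUnit_of_map_unit _ _ h)
    set V : Matrix (Fin (2 * m + 1)) (Fin (2 * m + 1)) K := Matrix.of fun i l => MvPowerSeries.constantCoeff (G'' i l)
    have hV : ∀ i, V i 0 = 0 ∧ V 0 i = 0 := fun i => by
      induction i using Fin.cases with
      | zero => simp [V, G'', h00]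
      | succ i => simp [V, G'']
    have h1 := hord' (Pi.single 0 1) (by simp [mulVec, dotProduct, Pi.single_apply, (hV 0).1]) (funext fun i => by
      simp [mulVec, dotProduct, Pi.single_apply, (hV i).1, (hV i).2])
    simpa using congrFun h1 0
  obtain ⟨b, c₀, hb, hc₀, w, hw, hcw⟩ := exists_weierstrass c (g₂ 0) e₀ e₁ (mem_of_algebraMap_eq_zero he₀)
    (mem_of_algebraMap_eq_zero he₁) hc hg
  obtain ⟨a', σ, ha', hσ⟩ := exists_const_normalForm a ha w _ hw
  refine ⟨a', b, c₀, ha', hb, hc₀, ((Ψ.trans (Φ₀.restrictScalars A)).trans (σ.restrictScalars A)).trans E.symm,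
    j w, (hw.map (algebraMap (H (Fin 1) A) _)).map E.symm, ?_⟩
  show E.symm (σ (Φ₀ (Ψ F))) = _
  have hEA' : ∀ e : A, E.symm (algebraMap A (H (Fin (2 * m)) (H (Fin 1) A)) e) = algebraMap A _ e :=
    fun e => E.symm.commutes e
  rw [hΦ₀, hcw, hσ]
  simp only [map_mul, map_add, map_pow]
  rw [map_quadEval E.symm]
  simp only [hE0, hEA, hEA', hEk, j]

end Main

end Groth.Agent.HensCoord15
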