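import Groth.Agent.Lib.HensCoord15.Core
import Groth.Agent.Lib.HensCoord15.Normal
import Mathlib.RingTheory.Jacobson.Ring
import Mathlib.RingTheory.Unramified.Field
import Mathlib.RingTheory.Unramified.Finite
import Mathlib.FieldTheory.PurelyInseparable.Basic
import Mathlib.FieldTheory.IsAlgClosed.Basic

/-!
# A non-degenerate quadratic point with purely inseparable residue field is rational
-/

set_option autoImplicit false
set_option linter.style.haveILetI false
set_option backward.isDefEq.respectTransparency.types false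

universe u

open IsLocalRing
open scoped TensorProduct

noncomputable section

namespace Groth.Agent.HensCoord15

section Jet

variable {k' : Type u} [Field k']

set_option maxHeartbeats 1000000 in
/-- A first order deformation of `k'` fixing a non-degenerate quadratic relation fixes the maximal ideal. -/
theorem snd_mem_of_quad {n : ℕ} (a : Fin n → Fin n → k') (ha : VanCyc.QuadNondeg a)
    {C : Type u} [CommRing C] [IsLocalRing C] [Algebra k' C] (π : H (Fin n) k' →ₐ[k'] C)
    (hπ : Function.Surjective π) (hπX : ∀ i, π (X i) ∈ maximalIdeal C)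
    (hker : RingHom.ker π ≤ Ideal.span {VanCyc.quadEval (fun i j => algebraMap k' (H (Fin n) k') (a i j)) X})
    (hQ : π (VanCyc.quadEval (fun i j => algebraMap k' (H (Fin n) k') (a i j)) X) = 0)
    (Ψ : C →+* DualNumber (C ⧸ maximalIdeal C ^ 2))
    (hfst : ∀ c, TrivSqZeroExt.fst (Ψ c) = Ideal.Quotient.mk _ c) (z : C) (hz : z ∈ maximalIdeal C) :
    TrivSqZeroExt.snd (Ψ z) ∈ (maximalIdeal C).map (Ideal.Quotient.mk (maximalIdeal C ^ 2)) := by
  classical
  haveI : IsLocalHom π.toRingHom := IsLocalHom.of_surjective _ hπ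
  have hmaxH : maximalIdeal (H (Fin n) k') = Ideal.span (Set.range X) := by
    rw [maximalIdeal_eq, IsLocalRing.maximalIdeal_eq_bot, Ideal.map_bot, bot_sup_eq]
  have hmC : maximalIdeal C = Ideal.span (Set.range fun i => π (X i)) := by
    rw [← IsLocalRing.map_maximalIdeal_of_surjective π.toRingHom hπ, hmaxH, Ideal.map_span, ← Set.range_comp]
    rfl
  let mk := Ideal.Quotient.mk (maximalIdeal C ^ 2)
  choose u hu using fun i => Ideal.Quotient.mk_surjective (TrivSqZeroExt.snd (Ψ (π (X i))))
  let av : Fin n → Fin n → C := fun i j => algebraMap k' C (a i j)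
  have hpair : ∀ c i j, TrivSqZeroExt.snd (Ψ (c * π (X i) * π (X j))) =
      mk (c * π (X i) * u j + c * u i * π (X j)) := by
    intro c i j
    obtain ⟨d, hd⟩ := Ideal.Quotient.mk_surjective (TrivSqZeroExt.snd (Ψ c))
    have h0 : mk (π (X i) * π (X j)) = 0 := Ideal.Quotient.eq_zero_iff_mem.2 (by
      rw [pow_two]; exact Ideal.mul_mem_mul (hπX i) (hπX j))
    rw [map_mul] at h0
    simp only [map_mul, map_add, TrivSqZeroExt.snd_mul, TrivSqZeroExt.fst_mul, hfst, ← hu, ← hd,
      smul_eq_mul, MulOpposite.smul_eq_mul_unop, MulOpposite.unop_op]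
    linear_combination (Ideal.Quotient.mk (maximalIdeal C ^ 2) d) * h0
  have hrel : mk (∑ i, (∑ j, algebraMap k' C (VanCyc.polarMatrix a i j) * u j) * π (X i)) = 0 := by
    have h : π (VanCyc.quadEval (fun i j => algebraMap k' (H (Fin n) k') (a i j)) X) =
        ∑ i, ∑ j, if i ≤ j then av i j * π (X i) * π (X j) else 0 := by
      simp [VanCyc.quadEval, map_sum, apply_ite π, av]
    have h' := congrArg (fun w => TrivSqZeroExt.snd (Ψ w)) (h.symm.trans hQ)
    simp only [map_sum, TrivSqZeroExt.snd_sum, apply_ite Ψ, map_zero, apply_ite TrivSqZeroExt.snd,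
      TrivSqZeroExt.snd_zero, hpair] at h'
    rw [← h', map_sum]
    simp only [VanCyc.polarMatrix, Finset.sum_mul, map_sum, map_mul]
    have e : ∀ i j : Fin n, mk (algebraMap k' C (if i = j then 2 * a i i else if i < j then a i j else a j i)) * mk (u j) * mk (π (X i)) =
        (if i ≤ j then mk (av i j * π (X i) * u j) else 0) + if j ≤ i then mk (av j i * u j * π (X i)) else 0 := by
      intro i j
      rcases lt_trichotomy i j with hij | rfl | hij
      · rw [if_neg hij.ne, if_pos hij, if_pos hij.le, if_neg hij.not_ge]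
        simp only [av, map_mul]; ring
      · simp only [le_refl, if_true, av, map_mul, map_ofNat, map_add, mk]
        ring
      · rw [if_neg hij.ne', if_neg hij.not_gt, if_neg hij.not_ge, if_pos hij.le]
        simp only [av, map_mul]; ring
    simp only [mk] at e ⊢
    simp only [e, Finset.sum_add_distrib]
    rw [Finset.sum_comm (f := fun i j : Fin n => if j ≤ i then Ideal.Quotient.mk (maximalIdeal C ^ 2) (av j i * u j * π (X i)) else 0),
      ← Finset.sum_add_distrib]
    refine Finset.sum_congr rfl fun i _ => ?_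
    rw [← Finset.sum_add_distrib]
    refine Finset.sum_congr rfl fun j _ => ?_
    split_ifs <;> simp
  -- independence of the coordinates modulo squares
  choose c hc using fun i => hπ (∑ j, algebraMap k' C (VanCyc.polarMatrix a i j) * u j)
  have hS : ∀ s ∈ maximalIdeal (H (Fin n) k') ^ 2, ∀ v, lin v s = 0 := by
    intro s hs v
    rw [pow_two] at hs
    refine Submodule.mul_induction_on hs (fun x hx y hy => ?_) fun x y hx hy => by rw [lin_add, hx, hy, add_zero]
    rw [lin_mul, (Hens.Hs.res_eq_zero_iff x).2 hx, (Hens.Hs.res_eq_zero_iff y).2 hy, zero_mul, zero_mul, add_zero]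
  have hQ2 : VanCyc.quadEval (fun i j => algebraMap k' (H (Fin n) k') (a i j)) X ∈ maximalIdeal (H (Fin n) k') ^ 2 := by
    refine _root_.sum_mem fun i _ => _root_.sum_mem fun j _ => ?_
    split
    · rw [pow_two, mul_assoc]
      exact Ideal.mul_mem_left _ _ (Ideal.mul_mem_mul (X_mem i) (X_mem j))
    · exact zero_mem _
  have hmem : ∑ i, c i * X i ∈ maximalIdeal (H (Fin n) k') ^ 2 := by
    have h1 : π (∑ i, c i * X i) ∈ (maximalIdeal (H (Fin n) k') ^ 2).map π.toRingHom := by
      rw [Ideal.map_pow, IsLocalRing.map_maximalIdeal_of_surjective π.toRingHom hπ]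
      rw [map_sum]
      simp only [map_mul, hc]
      exact Ideal.Quotient.eq_zero_iff_mem.1 hrel
    obtain ⟨s, hs, hse⟩ := (Ideal.mem_map_iff_of_surjective π.toRingHom hπ).1 h1
    have h2 : ∑ i, c i * X i - s ∈ RingHom.ker π := by
      rw [RingHom.mem_ker, map_sub, sub_eq_zero]
      exact hse.symm
    rw [← sub_add_cancel (∑ i, c i * X i) s]
    exact add_mem ((Ideal.span_singleton_le_iff_mem _).2 hQ2 (hker h2)) hs
  have hc0 : ∀ i, Hens.Hs.res (c i) = 0 := fun l => by
    have h := hS _ hmem (Pi.single l 1)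
    rw [show ∑ i, c i * X i = algebraMap k' _ (0 : k') + ∑ i, c i * X i by simp, lin_add, lin_algebraMap, zero_add] at h
    have : ∀ s : Finset (Fin n), lin (Pi.single l (1 : ResidueField k')) (∑ i ∈ s, c i * X i) =
        ∑ i ∈ s, Hens.Hs.res (c i) * (Pi.single l 1 : Fin n → ResidueField k') i := by
      intro s
      induction s using Finset.induction with
      | empty => simp [lin]
      | insert i s hi ih => rw [Finset.sum_insert hi, Finset.sum_insert hi, lin_add, ih, lin_mul, lin_X, res_X, zero_mul, add_zero]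
    rw [this] at h
    simpa [Pi.single_apply] using h
  have hum : ∀ i, residue C (u i) = 0 := by
    have hdet : IsUnit ((VanCyc.polarMatrix a).map ((residue C).comp (algebraMap k' C))).det := by
      rw [← RingHom.mapMatrix_apply, ← RingHom.map_det]
      exact ha.map _
    refine congrFun (Matrix.eq_zero_of_mulVec_eq_zero hdet.ne_zero (funext fun i => ?_))
    show ∑ j, _ * residue C (u j) = 0
    have h := (residue_eq_zero_iff _).2 (map_nonunit π.toRingHom _ ((Hens.Hs.res_eq_zero_iff _).1 (hc0 i)))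
    rw [show π.toRingHom (c i) = π (c i) from rfl, hc, map_sum] at h
    simpa [map_mul] using h
  rw [hmC, Ideal.mem_span_range_iff_exists_fun] at hz
  obtain ⟨g, rfl⟩ := hz
  simp only [map_sum, TrivSqZeroExt.snd_sum]
  refine _root_.sum_mem fun i _ => ?_
  simp only [map_mul, TrivSqZeroExt.snd_mul, hfst, ← hu, smul_eq_mul, MulOpposite.smul_eq_mul_unop, MulOpposite.unop_op]
  refine add_mem (Ideal.mul_mem_left _ _ (Ideal.mem_map_of_mem _ ((residue_eq_zero_iff _).1 (hum i)))) ?_
  exact Ideal.mul_mem_left _ _ (Ideal.mem_map_of_mem _ (hπX i))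

end Jet


/-- The ring map attached to a derivation. -/
theorem exists_jet {k k' C2 : Type u} [CommRing k] [CommRing k'] [Algebra k k'] [CommRing C2] (cC : k' →+* C2)
    (D : Derivation k k' k') :
    ∃ δ : k' →+* DualNumber C2, (∀ x, TrivSqZeroExt.fst (δ x) = cC x) ∧ ∀ x, TrivSqZeroExt.snd (δ x) = cC (D x) := by
  refine ⟨{ toFun := fun x => TrivSqZeroExt.inl (cC x) + TrivSqZeroExt.inr (cC (D x))
            map_one' := by simp [Derivation.map_one_eq_zero]
            map_mul' := fun x y => ?_
            map_zero' := by simp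
            map_add' := fun x y => ?_ }, fun x => ?_, fun x => ?_⟩
  · refine TrivSqZeroExt.ext (by simp) ?_
    simp only [TrivSqZeroExt.snd_mul, TrivSqZeroExt.snd_add, TrivSqZeroExt.fst_add, TrivSqZeroExt.fst_inl,
      TrivSqZeroExt.fst_inr, TrivSqZeroExt.snd_inl, TrivSqZeroExt.snd_inr, Derivation.leibniz, smul_eq_mul,
      MulOpposite.smul_eq_mul_unop, MulOpposite.unop_op, map_add, map_mul]
    ring
  · refine TrivSqZeroExt.ext (by simp) ?_
    simp
  · simp
  · simp

theorem henselian_sq {T : Type u} [CommRing T] [IsLocalRing T] :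
    ∃ (_ : IsLocalRing (T ⧸ maximalIdeal T ^ 2)), ∀ z ∈ maximalIdeal (T ⧸ maximalIdeal T ^ 2), z ^ 2 = 0 := by
  refine ⟨nilp_level (T := T) 1, fun z hz => ?_⟩
  haveI := nilp_level (T := T) 1
  have h := Ideal.pow_mem_pow hz 2
  rwa [maximalIdeal_pow_level, Ideal.mem_bot] at h

theorem henselian_dual {T : Type u} [CommRing T]
    (h : ∃ (_ : IsLocalRing T), ∀ z ∈ maximalIdeal T, z ^ 2 = 0) : HenselianLocalRing (DualNumber T) := by
  obtain ⟨_, h⟩ := h
  haveI : IsLocalHom (TrivSqZeroExt.fstHom T T T).toRingHom :=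
    ⟨fun z hz => TrivSqZeroExt.isUnit_iff_isUnit_fst.2 hz⟩
  haveI : IsLocalRing (DualNumber T) := (TrivSqZeroExt.fstHom T T T).toRingHom.domain_isLocalRing
  refine Hens.henselianLocalRing_iff.2 (Hens.henselianRing_of_nilpotent fun z hz => ⟨4, ?_⟩)
  have h2 : TrivSqZeroExt.fst z ^ 2 = 0 := h _ ((mem_maximalIdeal _).2 fun hu =>
    (mem_maximalIdeal _).1 hz (TrivSqZeroExt.isUnit_iff_isUnit_fst.2 hu))
  have h3 : TrivSqZeroExt.fst (z ^ 2) = 0 := by rw [TrivSqZeroExt.fst_pow, h2]
  rw [show (4 : ℕ) = 2 * 2 from rfl, pow_mul, pow_two]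
  exact TrivSqZeroExt.ext (by simp [h3]) (by simp [h3])

theorem exists_jet_lift {R C : Type u} [CommRing R] [IsLocalRing R] [CommRing C] [IsLocalRing C] [Algebra R C]
    [IsLocalHom (algebraMap R C)] [Hensel.IsHenselization R C] (Ψ₁ : R →+* DualNumber (C ⧸ maximalIdeal C ^ 2))
    (h1 : ∀ x, TrivSqZeroExt.fst (Ψ₁ x) = Ideal.Quotient.mk _ (algebraMap R C x)) :
    ∃ Ψ : C →+* DualNumber (C ⧸ maximalIdeal C ^ 2), (∀ x, Ψ (algebraMap R C x) = Ψ₁ x) ∧
      ∀ z, TrivSqZeroExt.fst (Ψ z) = Ideal.Quotient.mk _ z := by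
  haveI : IsLocalRing (C ⧸ maximalIdeal C ^ 2) := nilp_level (T := C) 1
  haveI : HenselianLocalRing (C ⧸ maximalIdeal C ^ 2) := henselian_level (T := C) 1
  haveI : HenselianLocalRing (DualNumber (C ⧸ maximalIdeal C ^ 2)) := henselian_dual henselian_sq
  haveI : IsLocalHom (Ideal.Quotient.mk (maximalIdeal C ^ 2)) := IsLocalHom.of_surjective _ Ideal.Quotient.mk_surjective
  haveI hl : IsLocalHom Ψ₁ := ⟨fun x hx => by
    have h := TrivSqZeroExt.isUnit_iff_isUnit_fst.1 hx
    rw [h1] at h
    exact IsLocalHom.map_nonunit (f := algebraMap R C) _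
      (IsLocalHom.map_nonunit (f := Ideal.Quotient.mk (maximalIdeal C ^ 2)) _ h)⟩
  obtain ⟨Ψ, hΨ, -⟩ := Hensel.IsHenselization.universal (R := R) (S := C) (DualNumber (C ⧸ maximalIdeal C ^ 2)) Ψ₁ hl
  obtain ⟨e, -, he⟩ := Hensel.IsHenselization.universal (R := R) (S := C) (C ⧸ maximalIdeal C ^ 2)
    ((Ideal.Quotient.mk _).comp (algebraMap R C)) (RingHom.isLocalHom_comp _ _)
  refine ⟨Ψ, fun x => RingHom.congr_fun hΨ x, fun z => ?_⟩
  refine RingHom.congr_fun ((he ((TrivSqZeroExt.fstHom (C ⧸ maximalIdeal C ^ 2) (C ⧸ maximalIdeal C ^ 2) (C ⧸ maximalIdeal C ^ 2)).toRingHom.comp Ψ) ?_).trans (he (Ideal.Quotient.mk _) rfl).symm) z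
  refine RingHom.ext fun x => ?_
  show TrivSqZeroExt.fst (Ψ (algebraMap R C x)) = _
  rw [show Ψ (algebraMap R C x) = Ψ₁ x from RingHom.congr_fun hΨ x, h1]
  rfl

set_option maxHeartbeats 4000000 in
/-- The residue field at a non-degenerate quadratic point with purely inseparable residue extension is trivial. -/
theorem residue_trivial (A : Type u) [CommRing A] [HenselianLocalRing A]
    (B₀ : Type u) [CommRing B₀] [Algebra A B₀] [Algebra.FinitePresentation A B₀]
    (P : Ideal B₀) [P.IsMaximal] (hP : (maximalIdeal A).map (algebraMap A B₀) ≤ P)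
    (hPi : ∀ y : B₀, ∃ (e : ℕ) (c : A),
      y ^ ringExpChar (ResidueField A) ^ e - algebraMap A B₀ c ∈ P)
    (n : ℕ) (hq : VanCyc.IsNondegQuadPt (VanCyc.fibHom A (Localization.AtPrime P)) n) (y : B₀) :
    ∃ c : A, y - algebraMap A B₀ c ∈ P := by
  classical
  let k := ResidueField A
  let K := AlgebraicClosure k
  let k' := B₀ ⧸ P
  letI : Field k' := Ideal.Quotient.field P
  let ek : k →+* k' := Ideal.Quotient.lift _ ((Ideal.Quotient.mk P).comp (algebraMap A B₀))
    fun a ha => Ideal.Quotient.eq_zero_iff_mem.2 (hP (Ideal.mem_map_of_mem _ ha))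
  letI : Algebra k k' := ek.toAlgebra
  haveI : IsScalarTower A k k' := IsScalarTower.of_algebraMap_eq fun _ => rfl
  haveI : Algebra.FiniteType A k' :=
    Algebra.FiniteType.of_surjective (Ideal.Quotient.mkₐ A P) Ideal.Quotient.mk_surjective
  haveI : Algebra.FiniteType k k' := Algebra.FiniteType.of_restrictScalars_finiteType A k k'
  haveI : Module.Finite k k' := finite_of_finite_type_of_isJacobsonRing k k'
  haveI : IsPurelyInseparable k k' := (isPurelyInseparable_iff_pow_mem k (ringExpChar k)).2 fun z => by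
    obtain ⟨z, rfl⟩ := Ideal.Quotient.mk_surjective z
    obtain ⟨e, c, hc⟩ := hPi z
    refine ⟨e, residue A c, ?_⟩
    show Ideal.Quotient.mk P (algebraMap A B₀ c) = _
    rw [← map_pow]
    exact (Ideal.Quotient.eq.2 hc).symm
  suffices hD : ∀ D : Derivation k k' k', D = 0 by
    have hsub : Subsingleton Ω[k'⁄k] := by
      refine subsingleton_of_forall_eq 0 fun x => ?_
      by_contra hx
      obtain ⟨φ, hφ⟩ := Module.Projective.exists_dual_ne_zero k' hx
      exact hφ (by
        have h0 : φ.compDer (KaehlerDifferential.D k k') = 0 := hD _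
        have hz : φ = 0 := Derivation.liftKaehlerDifferential_unique φ 0 (by rw [h0]; ext; simp)
        rw [hz]
        rfl)
    haveI : Algebra.FormallyUnramified k k' := ⟨hsub⟩
    haveI : Algebra.IsSeparable k k' := Algebra.FormallyUnramified.isSeparable k k'
    obtain ⟨c, hc⟩ := IsPurelyInseparable.surjective_algebraMap_of_isSeparable k k' (Ideal.Quotient.mk P y)
    obtain ⟨c, rfl⟩ := residue_surjective c
    exact ⟨c, Ideal.Quotient.eq.1 hc.symm⟩
  intro D
  -- the base change to `k'`
  haveI : Algebra.IsAlgebraic k k' := Algebra.IsAlgebraic.of_finite k k'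
  let j : k' →ₐ[k] K := IsAlgClosed.lift
  letI : Algebra k' K := j.toRingHom.toAlgebra
  haveI : IsScalarTower k k' K := IsScalarTower.of_algebraMap_eq fun c => (j.commutes c).symm
  haveI : IsLocalHom (algebraMap k' K) := ⟨fun a ha => isUnit_iff_ne_zero.2 fun h => by simp [h] at ha⟩
  let B' := k' ⊗[A] B₀
  let r : B' →ₐ[k'] k' := Algebra.TensorProduct.lift (AlgHom.id k' k') (Ideal.Quotient.mkₐ A P) fun _ _ => .all _ _
  have hr : ∀ (c : k') (b : B₀), r (c ⊗ₜ b) = c * Ideal.Quotient.mk P b := fun c b =>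
    Algebra.TensorProduct.lift_tmul _ _ _ c b
  let P' : Ideal B' := RingHom.ker r
  haveI : P'.IsMaximal := RingHom.ker_isMaximal_of_surjective r fun c => ⟨c ⊗ₜ 1, by
    show r (c ⊗ₜ 1) = c
    rw [hr, map_one, mul_one]⟩
  have hP'r : ∀ z : B', ∃ a : k', z - algebraMap k' B' a ∈ P' := fun z =>
    ⟨r z, by rw [RingHom.mem_ker, map_sub, AlgHom.commutes]; exact sub_self _⟩
  have hP'm : ∀ a : k', algebraMap k' B' a ∈ P' ↔ a ∈ maximalIdeal k' := fun a => by
    rw [RingHom.mem_ker, AlgHom.commutes, IsLocalRing.maximalIdeal_eq_bot, Ideal.mem_bot]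
    rfl
  let R := Localization.AtPrime P
  let R' := Localization.AtPrime P'
  let C := Hens.Hh R'
  letI : Algebra k' C := ((algebraMap R' C).comp (algebraMap k' R')).toAlgebra
  haveI : IsScalarTower k' R' C := IsScalarTower.of_algebraMap_eq fun _ => rfl
  -- the geometric local ring
  let O := VanCyc.fibQuot A R
  letI : Algebra k O := (VanCyc.fibHom A R).toAlgebra
  have hmR : (maximalIdeal A).map (algebraMap A R) ≤ maximalIdeal R := by
    rw [IsScalarTower.algebraMap_eq A B₀ R, ← Ideal.map_map, Ideal.map_le_iff_le_comap]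
    intro x hx
    exact (IsLocalization.AtPrime.to_map_mem_maximal_iff R P x).2 (hP hx)
  have huP : ∀ s : P.primeCompl, IsUnit (Ideal.Quotient.mk P (s : B₀)) := fun s =>
    isUnit_iff_ne_zero.2 fun h => s.2 (Ideal.Quotient.eq_zero_iff_mem.1 h)
  let evR : R →+* k' := IsLocalization.lift huP
  have hevR : ∀ b, evR (algebraMap B₀ R b) = Ideal.Quotient.mk P b := fun b => IsLocalization.lift_eq huP b
  let evO : O →ₐ[k] k' :=
    { Ideal.Quotient.lift _ evR (fun x hx => by
        refine (show (maximalIdeal A).map (algebraMap A R) ≤ RingHom.ker evR from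
          Ideal.map_le_iff_le_comap.2 fun a ha => ?_) hx
        rw [Ideal.mem_comap, RingHom.mem_ker, IsScalarTower.algebraMap_apply A B₀ R, hevR]
        exact Ideal.Quotient.eq_zero_iff_mem.2 (hP (Ideal.mem_map_of_mem _ ha))) with
      commutes' := fun c => by
        obtain ⟨a, rfl⟩ := residue_surjective c
        show evR (algebraMap A R a) = _
        rw [IsScalarTower.algebraMap_apply A B₀ R, hevR]
        rfl }
  let θ : K ⊗[k] O →ₐ[K] K := Algebra.TensorProduct.lift (AlgHom.id K K) (j.comp evO) fun _ _ => .all _ _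
  let M : Ideal (K ⊗[k] O) := RingHom.ker θ
  haveI : M.IsMaximal := RingHom.ker_isMaximal_of_surjective θ fun c => ⟨c ⊗ₜ 1, by simp [θ]⟩
  let L := Localization.AtPrime M
  haveI : IsScalarTower A k' L := IsScalarTower.of_algebraMap_eq fun a => by
    rw [IsScalarTower.algebraMap_apply k' K L, IsScalarTower.algebraMap_apply A K L,
      IsScalarTower.algebraMap_apply A k K, IsScalarTower.algebraMap_apply A k k',
      ← IsScalarTower.algebraMap_apply k k' K]
  let κO : O →+* L := (algebraMap (K ⊗[k] O) L).comp (Algebra.TensorProduct.includeRight : O →ₐ[k] K ⊗[k] O).toRingHom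
  have hκOA : ∀ a, κO (Ideal.Quotient.mk _ (algebraMap A R a)) = algebraMap A L a := fun a => by
    show algebraMap (K ⊗[k] O) L ((1 : K) ⊗ₜ[k] (Ideal.Quotient.mk _ (algebraMap A R a) : O)) = _
    rw [show (Ideal.Quotient.mk _ (algebraMap A R a) : O) = algebraMap k O (residue A a) from rfl,
      ← Algebra.TensorProduct.includeRight_apply, AlgHom.commutes, IsScalarTower.algebraMap_apply k K (K ⊗[k] O),
      ← IsScalarTower.algebraMap_apply K (K ⊗[k] O) L]
    show _ = algebraMap K L (algebraMap A K a)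
    rw [IsScalarTower.algebraMap_apply A k K]
    rfl
  let bL : B₀ →ₐ[A] L :=
    { κO.comp ((Ideal.Quotient.mk _).comp (algebraMap B₀ R)) with
      commutes' := fun a => by
        show κO (Ideal.Quotient.mk _ (algebraMap B₀ R (algebraMap A B₀ a))) = _
        rw [← IsScalarTower.algebraMap_apply, hκOA] }
  let ι₀ : B' →ₐ[k'] L := Algebra.TensorProduct.lift (Algebra.ofId k' L) bL fun _ _ => .all _ _
  have hθres : ∀ z : B', ∃ w : K ⊗[k] O, algebraMap (K ⊗[k] O) L w = ι₀ z ∧ θ w = algebraMap k' K (r z) := by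
    intro z
    induction z using TensorProduct.induction_on with
    | zero => exact ⟨0, by simp, by simp⟩
    | tmul c b =>
      refine ⟨algebraMap k' K c ⊗ₜ[k] (Ideal.Quotient.mk _ (algebraMap B₀ R b) : O), ?_, ?_⟩
      · simp only [ι₀, Algebra.TensorProduct.lift_tmul]
        show _ = algebraMap K L (algebraMap k' K c) * algebraMap (K ⊗[k] O) L ((1 : K) ⊗ₜ[k] _)
        rw [IsScalarTower.algebraMap_apply K (K ⊗[k] O) L, ← map_mul,
          Algebra.TensorProduct.algebraMap_apply, Algebra.TensorProduct.tmul_mul_tmul, mul_one, one_mul]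
        rfl
      · rw [hr, map_mul]
        simp only [θ, Algebra.TensorProduct.lift_tmul, AlgHom.comp_apply, AlgHom.id_apply]
        show algebraMap k' K c * j (evR (algebraMap B₀ R b)) = _
        rw [hevR]
        rfl
    | add x y hx hy =>
      obtain ⟨w, hw, hw'⟩ := hx
      obtain ⟨v, hv, hv'⟩ := hy
      exact ⟨w + v, by rw [map_add, map_add, hw, hv], by rw [map_add, map_add, map_add, hw', hv']⟩
  have hu' : ∀ s : P'.primeCompl, IsUnit (ι₀ (s : B')) := fun s => by
    obtain ⟨w, hw, hw'⟩ := hθres s.1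
    rw [← hw]
    refine IsLocalization.map_units L (⟨w, fun h => s.2 ?_⟩ : M.primeCompl)
    rw [SetLike.mem_coe, RingHom.mem_ker, hw', map_eq_zero] at h
    exact h
  have hι₀t : ∀ b, ι₀ ((1 : k') ⊗ₜ[A] b) = bL b := fun b => by
    refine (Algebra.TensorProduct.lift_tmul _ _ _ (1 : k') b).trans ?_
    rw [map_one, one_mul]
  let ι : R' →ₐ[k'] L := IsLocalization.liftAlgHom (M := P'.primeCompl) hu'
  have hι : ∀ z, ι (algebraMap B' R' z) = ι₀ z := fun z => IsLocalization.lift_eq _ z
  have hιl : IsLocalHom ι.toRingHom := ⟨fun z hz => by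
    obtain ⟨b, s, rfl⟩ := IsLocalization.exists_mk'_eq P'.primeCompl z
    refine (IsLocalization.AtPrime.isUnit_mk'_iff R' P' b s).2 fun hb => ?_
    obtain ⟨w, hw, hw'⟩ := hθres b
    have h1 : IsUnit (ι₀ b) := by
      rw [← hι, ← IsLocalization.mk'_spec R' b s, map_mul, hι]
      exact hz.mul (hu' s)
    rw [← hw] at h1
    refine (IsLocalization.AtPrime.isUnit_to_map_iff L M w).1 h1 ?_
    rw [SetLike.mem_coe, RingHom.mem_ker, hw', show r b = 0 from hb, map_zero]⟩
  have hex : ∀ (T : Type u) [CommRing T] [IsLocalRing T] [Algebra K T] (φ : R' →+* T), IsLocalHom φ →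
      (∀ a, φ (algebraMap k' R' a) = algebraMap K T (algebraMap k' K a)) →
      ∃ ψ : L →ₐ[K] T, IsLocalHom ψ.toRingHom ∧ ∀ x, ψ (ι x) = φ x := by
    intro T _ _ _ φ hφl hφ
    haveI := hφl
    letI : Algebra k T := ((algebraMap K T).comp (algebraMap k K)).toAlgebra
    haveI : IsScalarTower k K T := IsScalarTower.of_algebraMap_eq fun _ => rfl
    let φB : B₀ →+* T := (φ.comp (algebraMap B' R')).comp
      (Algebra.TensorProduct.includeRight : B₀ →ₐ[A] B').toRingHom
    have hφA : ∀ a, φB (algebraMap A B₀ a) = algebraMap K T (algebraMap A K a) := fun a => by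
      show φ (algebraMap B' R' (Algebra.TensorProduct.includeRight (algebraMap A B₀ a))) = _
      rw [AlgHom.commutes, IsScalarTower.algebraMap_apply A k' B', ← IsScalarTower.algebraMap_apply k' B' R', hφ,
        IsScalarTower.algebraMap_apply A k k', ← IsScalarTower.algebraMap_apply k k' K,
        ← IsScalarTower.algebraMap_apply A k K]
    have huB : ∀ s : P.primeCompl, IsUnit (φB (s : B₀)) := fun s => by
      refine IsUnit.map φ (IsLocalization.map_units R' (⟨_, fun h => s.2 ?_⟩ : P'.primeCompl))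
      rw [SetLike.mem_coe, RingHom.mem_ker] at h
      have h' : Ideal.Quotient.mk P (s : B₀) = 0 := by
        refine Eq.trans ?_ h
        show _ = r ((1 : k') ⊗ₜ[A] (s : B₀))
        rw [hr, one_mul]
      exact Ideal.Quotient.eq_zero_iff_mem.1 h'
    let φR : R →+* T := IsLocalization.lift huB
    have hφR : ∀ b, φR (algebraMap B₀ R b) = φB b := fun b => IsLocalization.lift_eq huB b
    let φO : O →ₐ[k] T :=
      { Ideal.Quotient.lift _ φR (fun x hx => by
          refine (show (maximalIdeal A).map (algebraMap A R) ≤ RingHom.ker φR from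
            Ideal.map_le_iff_le_comap.2 fun a ha => ?_) hx
          rw [Ideal.mem_comap, RingHom.mem_ker, IsScalarTower.algebraMap_apply A B₀ R, hφR, hφA,
            IsScalarTower.algebraMap_apply A k K, show algebraMap A k a = 0 from (residue_eq_zero_iff a).2 ha,
            map_zero, map_zero]) with
        commutes' := fun c => by
          obtain ⟨a, rfl⟩ := residue_surjective c
          show φR (algebraMap A R a) = algebraMap K T (algebraMap k K (residue A a))
          rw [IsScalarTower.algebraMap_apply A B₀ R, hφR, hφA, IsScalarTower.algebraMap_apply A k K]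
          rfl }
    let ψ₀ : K ⊗[k] O →ₐ[K] T := Algebra.TensorProduct.lift (Algebra.ofId K T) φO fun _ _ => .all _ _
    have hψres : ∀ w, residue T (ψ₀ w) = residue T (algebraMap K T (θ w)) := by
      intro w
      induction w using TensorProduct.induction_on with
      | zero => simp
      | add x y hx hy => simp only [map_add, hx, hy]
      | tmul c o =>
        obtain ⟨x, rfl⟩ := Ideal.Quotient.mk_surjective o
        obtain ⟨b, s, rfl⟩ := IsLocalization.exists_mk'_eq P.primeCompl x
        simp only [ψ₀, θ, Algebra.TensorProduct.lift_tmul, AlgHom.comp_apply, AlgHom.id_apply, map_mul]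
        congr 1
        have key : ∀ b, residue T (φB b) = residue T (algebraMap K T (j (Ideal.Quotient.mk P b))) := by
          intro b
          rw [show algebraMap K T (j (Ideal.Quotient.mk P b)) = φ (algebraMap k' R' (Ideal.Quotient.mk P b)) from
            (hφ _).symm, ← sub_eq_zero, ← map_sub, residue_eq_zero_iff]
          show φ (algebraMap B' R' (1 ⊗ₜ b)) - φ (algebraMap k' R' (Ideal.Quotient.mk P b)) ∈ _
          rw [IsScalarTower.algebraMap_apply k' B' R', ← map_sub φ, ← map_sub (algebraMap B' R')]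
          refine map_nonunit φ _ ((IsLocalization.AtPrime.to_map_mem_maximal_iff R' P' _).2 ?_)
          rw [RingHom.mem_ker, map_sub, AlgHom.commutes, hr, one_mul]
          exact sub_self _
        show residue T (φR (IsLocalization.mk' R b s)) = residue T (algebraMap K T (j (evR (IsLocalization.mk' R b s))))
        let g₁ : R →+* ResidueField T := (residue T).comp φR
        let g₂ : R →+* ResidueField T := (residue T).comp ((algebraMap K T).comp (j.toRingHom.comp evR))
        refine RingHom.congr_fun (IsLocalization.ringHom_ext P.primeCompl (j := g₁) (k := g₂) (RingHom.ext fun b => ?_)) _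
        show residue T (φR (algebraMap B₀ R b)) = residue T (algebraMap K T (j (evR (algebraMap B₀ R b))))
        rw [hφR, hevR, key]
    have huM : ∀ w : M.primeCompl, IsUnit (ψ₀ w.1) := fun w => by
      rw [← residue_ne_zero_iff_isUnit, hψres]
      exact ((isUnit_iff_ne_zero.2 w.2).map (algebraMap K T)).map (residue T) |>.ne_zero
    let ψ : L →ₐ[K] T := IsLocalization.liftAlgHom (M := M.primeCompl) huM
    have hψ : ∀ w, ψ (algebraMap _ L w) = ψ₀ w := fun w => IsLocalization.lift_eq _ w
    refine ⟨ψ, ⟨fun z hz => ?_⟩, fun x => ?_⟩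
    · obtain ⟨b, s, rfl⟩ := IsLocalization.exists_mk'_eq M.primeCompl z
      refine (IsLocalization.AtPrime.isUnit_mk'_iff L M b s).2 fun hb => ?_
      have h1 : IsUnit (ψ₀ b) := by
        rw [← hψ, ← IsLocalization.mk'_spec L b s, map_mul, hψ]
        exact hz.mul (huM s)
      rw [← residue_ne_zero_iff_isUnit, hψres, show θ b = 0 from hb, map_zero, map_zero] at h1
      exact h1 rfl
    · refine RingHom.congr_fun (IsLocalization.ringHom_ext P'.primeCompl (j := ψ.toRingHom.comp ι.toRingHom) (k := φ)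
        (RingHom.ext fun z => ?_)) x
      show ψ (ι (algebraMap B' R' z)) = φ (algebraMap B' R' z)
      rw [hι]
      induction z using TensorProduct.induction_on with
      | zero => simp
      | add x y hx hy => simp only [map_add, hx, hy]
      | tmul c b =>
        rw [show (c ⊗ₜ[A] b : B') = algebraMap k' B' c * (1 ⊗ₜ[A] b) by
          rw [Algebra.TensorProduct.algebraMap_apply, Algebra.TensorProduct.tmul_mul_tmul, mul_one, one_mul]; rfl]
        rw [map_mul ι₀, map_mul ψ, map_mul (algebraMap B' R'), map_mul φ, AlgHom.commutes, hι₀t,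
          ← IsScalarTower.algebraMap_apply k' B' R', hφ]
        congr 1
        · show ψ (algebraMap K L (algebraMap k' K c)) = _
          exact ψ.commutes _
        · show ψ (algebraMap (K ⊗[k] O) L ((1 : K) ⊗ₜ[k] (Ideal.Quotient.mk _ (algebraMap B₀ R b) : O))) = _
          rw [hψ]
          simp only [ψ₀, Algebra.TensorProduct.lift_tmul, map_one, one_mul]
          exact hφR b
  have huniq : ∀ (T : Type u) [CommRing T] [Algebra K T] (f g : L →ₐ[K] T), (∀ x, f (ι x) = g (ι x)) → f = g := by
    intro T _ _ f g h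
    letI : Algebra k T := ((algebraMap K T).comp (algebraMap k K)).toAlgebra
    haveI : IsScalarTower k K T := IsScalarTower.of_algebraMap_eq fun _ => rfl
    refine IsLocalization.algHom_ext M.primeCompl (Algebra.TensorProduct.ext (Subsingleton.elim _ _) ?_)
    ext o
    obtain ⟨x, rfl⟩ := Ideal.Quotient.mk_surjective o
    let g₁ : R →+* T := f.toRingHom.comp (κO.comp (Ideal.Quotient.mk _))
    let g₂ : R →+* T := g.toRingHom.comp (κO.comp (Ideal.Quotient.mk _))
    refine RingHom.congr_fun (IsLocalization.ringHom_ext P.primeCompl (j := g₁) (k := g₂) (RingHom.ext fun b => ?_)) x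
    have hb := h (algebraMap B' R' (1 ⊗ₜ[A] b))
    rw [hι, hι₀t] at hb
    exact hb
  obtain ⟨F, π, hF0, hF1, hF2, hπ, hπX, hker⟩ := exists_hypersurface (K := K) B' P' hP'm hP'r C L ι hιl hex huniq n (hq M)
  obtain ⟨a, c, Φ, ha, hc, hΦ⟩ := exists_normalForm F hF0 hF1 hF2
  rw [IsLocalRing.maximalIdeal_eq_bot, Ideal.mem_bot] at hc
  rw [hc, map_zero, zero_add] at hΦ
  let π' : H (Fin (n + 1)) k' →ₐ[k'] C := π.comp Φ.symm.toAlgHom
  have hπ' : Function.Surjective π' := hπ.comp Φ.symm.surjective
  have hπ'Q : π' (VanCyc.quadEval (fun i j => algebraMap k' (H (Fin (n + 1)) k') (a i j)) X) = 0 := by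
    show π (Φ.symm _) = 0
    rw [← hΦ, Φ.symm_apply_apply, ← RingHom.mem_ker, hker]
    exact Ideal.mem_span_singleton_self F
  have hker' : RingHom.ker π' ≤ Ideal.span {VanCyc.quadEval (fun i j => algebraMap k' (H (Fin (n + 1)) k') (a i j)) X} := by
    intro z hz
    have h : Φ.symm z ∈ Ideal.span {F} := hker ▸ (hz : π (Φ.symm z) = 0)
    obtain ⟨w, hw⟩ := Ideal.mem_span_singleton'.1 h
    rw [← Φ.apply_symm_apply z, ← hw, map_mul, hΦ]
    exact Ideal.mul_mem_left _ _ (Ideal.mem_span_singleton_self _)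
  haveI : HenselianLocalRing C := inferInstance
  haveI : IsLocalHom π'.toRingHom := IsLocalHom.of_surjective _ hπ'
  -- the deformation
  let C2 := C ⧸ maximalIdeal C ^ 2
  let q := Ideal.Quotient.mk (maximalIdeal C ^ 2)
  let cC : k' →+* C2 := q.comp (algebraMap k' C)
  letI : Algebra A C := ((algebraMap k' C).comp (algebraMap A k')).toAlgebra
  obtain ⟨δ₀, hδ0, hδ1⟩ := exists_jet (C2 := C2) cC D
  let δ : k' →ₐ[A] DualNumber C2 :=
    { δ₀ with
      commutes' := fun a => by
        show δ₀ (algebraMap A k' a) = _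
        refine TrivSqZeroExt.ext ?_ ?_
        · rw [hδ0]; rfl
        · rw [hδ1, IsScalarTower.algebraMap_apply A k k', Derivation.map_algebraMap, map_zero]
          rfl }
  have hδ0' : ∀ x, TrivSqZeroExt.fst (δ x) = cC x := hδ0
  have hδ1' : ∀ x, TrivSqZeroExt.snd (δ x) = cC (D x) := hδ1
  let bD : B₀ →ₐ[A] DualNumber C2 :=
    { (TrivSqZeroExt.inlHom C2 C2).comp (q.comp ((algebraMap R' C).comp ((algebraMap B' R').comp
        (Algebra.TensorProduct.includeRight : B₀ →ₐ[A] B').toRingHom))) with
      commutes' := fun a => by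
        show TrivSqZeroExt.inl (q (algebraMap R' C (algebraMap B' R' (Algebra.TensorProduct.includeRight (algebraMap A B₀ a))))) = _
        rw [AlgHom.commutes, IsScalarTower.algebraMap_apply A k' B', ← IsScalarTower.algebraMap_apply k' B' R',
          ← IsScalarTower.algebraMap_apply k' R' C]
        rfl }
  let Ψ₀ : B' →ₐ[A] DualNumber C2 := Algebra.TensorProduct.lift δ bD fun _ _ => .all _ _
  have hΨt : ∀ (c : k') (b : B₀), Ψ₀ (c ⊗ₜ b) = δ c * bD b := fun c b =>
    Algebra.TensorProduct.lift_tmul _ _ _ c b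
  have hΨ₀ : ∀ z, TrivSqZeroExt.fst (Ψ₀ z) = q (algebraMap R' C (algebraMap B' R' z)) := by
    intro z
    induction z using TensorProduct.induction_on with
    | zero => simp
    | add x y hx hy => simp [hx, hy]
    | tmul c b =>
      rw [show (c ⊗ₜ[A] b : B') = algebraMap k' B' c * (1 ⊗ₜ[A] b) by
        rw [Algebra.TensorProduct.algebraMap_apply, Algebra.TensorProduct.tmul_mul_tmul, mul_one, one_mul]; rfl]
      simp only [map_mul, TrivSqZeroExt.fst_mul]
      congr 1
      · rw [← IsScalarTower.algebraMap_apply k' B' R', ← IsScalarTower.algebraMap_apply k' R' C,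
          Algebra.TensorProduct.algebraMap_apply]
        show TrivSqZeroExt.fst (Ψ₀ (c ⊗ₜ[A] (1 : B₀))) = _
        rw [hΨt, map_one, mul_one, hδ0']
        rfl
      · rw [hΨt, map_one, one_mul]
        rfl
  have huΨ : ∀ s : P'.primeCompl, IsUnit (Ψ₀.toRingHom (s : B')) := fun s =>
    TrivSqZeroExt.isUnit_iff_isUnit_fst.2 (by
      show IsUnit (TrivSqZeroExt.fst (Ψ₀ s.1))
      rw [hΨ₀]
      exact ((IsLocalization.map_units R' s).map (algebraMap R' C)).map q)
  let Ψ₁ : R' →+* DualNumber C2 := IsLocalization.lift huΨ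
  have hΨ₁ : ∀ z, Ψ₁ (algebraMap B' R' z) = Ψ₀ z := fun z => IsLocalization.lift_eq huΨ z
  have hΨ₁f : ∀ x, TrivSqZeroExt.fst (Ψ₁ x) = q (algebraMap R' C x) := fun x => by
    refine RingHom.congr_fun (IsLocalization.ringHom_ext P'.primeCompl
      (j := (TrivSqZeroExt.fstHom C2 C2 C2).toRingHom.comp Ψ₁) (k := q.comp (algebraMap R' C)) (RingHom.ext fun z => ?_)) x
    show TrivSqZeroExt.fst (Ψ₁ (algebraMap B' R' z)) = _
    rw [hΨ₁, hΨ₀]
    rfl
  obtain ⟨Ψ, hΨ, hfst⟩ := exists_jet_lift (R := R') (C := C) Ψ₁ hΨ₁f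
  ext c
  obtain ⟨b, rfl⟩ := Ideal.Quotient.mk_surjective c
  by_contra hne
  let t : B' := algebraMap k' B' (Ideal.Quotient.mk P b) - 1 ⊗ₜ[A] b
  have ht : t ∈ P' := by
    rw [RingHom.mem_ker, map_sub, AlgHom.commutes, hr, one_mul]
    exact sub_self _
  have htm : algebraMap R' C (algebraMap B' R' t) ∈ maximalIdeal C :=
    map_nonunit (algebraMap R' C) _ ((IsLocalization.AtPrime.to_map_mem_maximal_iff R' P' _).2 ht)
  have hsnd := snd_mem_of_quad a ha π' hπ' (fun i => map_nonunit π'.toRingHom _ (X_mem i)) hker' hπ'Q Ψ hfst _ htm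
  rw [show Ψ (algebraMap R' C (algebraMap B' R' t)) = Ψ₁ (algebraMap B' R' t) from hΨ _, hΨ₁] at hsnd
  have ht2 : TrivSqZeroExt.snd (Ψ₀ t) = cC (D (Ideal.Quotient.mk P b)) := by
    show TrivSqZeroExt.snd (Ψ₀ (algebraMap k' B' (Ideal.Quotient.mk P b) - 1 ⊗ₜ[A] b)) = _
    rw [Algebra.TensorProduct.algebraMap_apply, map_sub, TrivSqZeroExt.snd_sub]
    rw [show (algebraMap k' k') (Ideal.Quotient.mk P b) = Ideal.Quotient.mk P b from rfl, hΨt, hΨt, map_one bD, map_one δ,
      mul_one, one_mul, hδ1']
    show _ - TrivSqZeroExt.snd (TrivSqZeroExt.inl _ : DualNumber C2) = _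
    rw [TrivSqZeroExt.snd_inl, sub_zero]
  haveI : IsLocalRing C2 := nilp_level (T := C) 1
  rw [ht2, IsLocalRing.map_maximalIdeal_of_surjective q Ideal.Quotient.mk_surjective] at hsnd
  refine (mem_maximalIdeal _).1 hsnd ((isUnit_iff_ne_zero.2 ?_).map cC)
  exact hne

end Groth.Agent.HensCoord15
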